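import Mathlib
import Cfsg.Agent.H9.Cox

set_option autoImplicit false

namespace CfsgH9.Cox

variable {ι : Type*} {W : Type*} [Group W]

/-- Coxeter matrix of a family of involutions -/
noncomputable def coxM (σ : ι → W) (hsq : ∀ i, σ i * σ i = 1) (hinj : Function.Injective σ) : CoxeterMatrix ι where
  M := fun i j => orderOf (σ i * σ j)
  isSymm := by
    ext i j
    show orderOf (σ j * σ i) = orderOf (σ i * σ j)
    have hi : (σ i)⁻¹ = σ i := inv_eq_of_mul_eq_one_left (hsq i)
    have hj : (σ j)⁻¹ = σ j := inv_eq_of_mul_eq_one_left (hsq j)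
    rw [← orderOf_inv (σ i * σ j), mul_inv_rev, hi, hj]
  diagonal i := by
    show orderOf (σ i * σ i) = 1
    rw [hsq, orderOf_one]
  off_diagonal i i' h := by
    show orderOf (σ i * σ i') ≠ 1
    rw [Ne, orderOf_eq_one_iff]
    intro h'
    apply h
    apply hinj
    have hi' : (σ i')⁻¹ = σ i' := inv_eq_of_mul_eq_one_left (hsq i')
    rw [← hi']
    exact eq_inv_of_mul_eq_one_left h'

lemma coxM_apply (σ : ι → W) (hsq : ∀ i, σ i * σ i = 1) (hinj : Function.Injective σ) (i j : ι) :
    coxM σ hsq hinj i j = orderOf (σ i * σ j) := rfl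

theorem exists_coxSys (σ : ι → W) (hsq : ∀ i, σ i * σ i = 1) (hinj : Function.Injective σ) (hex : Exch σ)
    (hgen : Subgroup.closure (Set.range σ) = ⊤) :
    ∃ cs : CoxeterSystem (coxM σ hsq hinj) W, ∀ i, cs.simple i = σ i := by
  set M := coxM σ hsq hinj with hM
  let cs := M.toCoxeterSystem
  obtain ⟨g, hg⟩ := exists_hom (f := cs.simple) hsq hex hgen (fun i => cs.simple_mul_simple_self i)
    (fun i j => cs.simple_mul_simple_pow i j)
  have hlift : M.IsLiftable σ := by
    intro i j
    exact pow_orderOf_eq_one _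
  let h : M.Group →* W := cs.lift ⟨σ, hlift⟩
  have hh : ∀ i, h (cs.simple i) = σ i := fun i => cs.lift_apply_simple hlift i
  have h1 : g.comp h = MonoidHom.id _ := by
    apply cs.ext_simple
    intro i
    simp [hh, hg]
  have h2 : h.comp g = MonoidHom.id _ := by
    refine MonoidHom.eq_of_eqOn_dense hgen ?_
    rintro _ ⟨i, rfl⟩
    simp [hh, hg]
  refine ⟨⟨MonoidHom.toMulEquiv g h h2 h1⟩, ?_⟩
  intro i
  show h (cs.simple i) = σ i
  exact hh i

end CfsgH9.Cox
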