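import Mathlib

set_option autoImplicit false

/-! If every vector is an eigenvector the matrix is scalar; square roots of unity. -/

namespace CfsgH9.Eigen

open Matrix

variable {F : Type*} [Field F] {ι : Type*} [Fintype ι] [DecidableEq ι]

lemma ext_mulVec' {A B : Matrix ι ι F} (h : ∀ x, A *ᵥ x = B *ᵥ x) : A = B := by
  ext i j
  have := congrFun (h (Pi.single j 1)) i
  simpa using this

lemma scalar_of_eigen [Nonempty ι] (A : Matrix ι ι F) (h : ∀ v, ∃ c : F, A *ᵥ v = c • v) : ∃ c : F, A = c • 1 := by
  obtain ⟨i0⟩ := ‹Nonempty ι›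
  choose c hc using h
  have key : ∀ i j, c (Pi.single i 1) = c (Pi.single j 1) := by
    intro i j
    by_cases hij : i = j
    · rw [hij]
    have h1 := hc (Pi.single i 1 + Pi.single j 1)
    rw [mulVec_add, hc (Pi.single i 1), hc (Pi.single j 1)] at h1
    have h2 := congrFun h1 i
    have h3 := congrFun h1 j
    simp [Pi.single_apply, hij, Ne.symm hij] at h2 h3
    rw [h2, h3]
  refine ⟨c (Pi.single i0 1), ?_⟩
  ext i j
  have h1 := congrFun (hc (Pi.single j 1)) i
  rw [key j i0] at h1
  simp only [mulVec_single_one, Matrix.col_apply, Pi.smul_apply, smul_eq_mul] at h1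
  rw [h1, Matrix.smul_apply, Matrix.one_apply, Pi.single_apply]
  rfl

end CfsgH9.Eigen
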