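import Mathlib

set_option autoImplicit false

/-! Finite fields with an involutive automorphism: norm and trace. -/

namespace CfsgH9.SF

variable {F : Type*} [Field F] {σ : F ≃+* F}

lemma exists_ne (hσ : σ ≠ RingEquiv.refl F) : ∃ a, σ a ≠ a := by
  by_contra h
  push Not at h
  exact hσ (RingEquiv.ext h)

/-- element of trace zero -/
lemma exists_kappa (hσ : σ ≠ RingEquiv.refl F) (h2 : ∀ a, σ (σ a) = a) : ∃ k : F, k ≠ 0 ∧ σ k = -k := by
  obtain ⟨a, ha⟩ := exists_ne hσ
  refine ⟨a - σ a, sub_ne_zero.2 (Ne.symm ha), ?_⟩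
  rw [map_sub, h2]; ring

lemma trace_surj (hσ : σ ≠ RingEquiv.refl F) (h2 : ∀ a, σ (σ a) = a) {b : F} (hb : σ b = b) :
    ∃ c : F, c + σ c = b := by
  have h1 : ∃ a, a + σ a ≠ 0 := by
    by_contra h
    push Not at h
    have h3 := h 1
    rw [map_one] at h3
    obtain ⟨a, ha⟩ := exists_ne hσ
    apply ha
    have h4 := h a
    have h5 : (2 : F) = 0 := by rw [← one_add_one_eq_two]; exact h3
    have h6 : σ a = -a := by linear_combination h4
    rw [h6]
    linear_combination (-a) * h5
  obtain ⟨a, ha⟩ := h1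
  have hs : σ (a + σ a) = a + σ a := by rw [map_add, h2, add_comm]
  refine ⟨b * a / (a + σ a), ?_⟩
  rw [map_div₀, map_mul, hb, hs]
  field_simp

lemma hilbert90 (hσ : σ ≠ RingEquiv.refl F) (h2 : ∀ a, σ (σ a) = a) {b : F} (hb : b * σ b = 1) :
    ∃ x : F, x ≠ 0 ∧ x = b * σ x := by
  have h1 : ∃ c, c + b * σ c ≠ 0 := by
    by_contra h
    push Not at h
    have h3 := h 1
    rw [map_one, mul_one] at h3
    obtain ⟨a, ha⟩ := exists_ne hσ
    apply ha
    have h4 := h a
    have h5 : b = -1 := by linear_combination h3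
    rw [h5] at h4
    linear_combination -h4
  obtain ⟨c, hc⟩ := h1
  refine ⟨c + b * σ c, hc, ?_⟩
  rw [map_add, map_mul, h2]
  linear_combination (-c) * hb

/-- norm is surjective onto the fixed field -/
lemma norm_surj [Finite F] (hσ : σ ≠ RingEquiv.refl F) (h2 : ∀ a, σ (σ a) = a) {b : F} (hb : σ b = b) :
    ∃ c : F, c * σ c = b := by
  by_cases hb0 : b = 0
  · exact ⟨0, by rw [hb0, zero_mul]⟩
  let s : Fˣ →* Fˣ := Units.map (σ : F →+* F).toMonoidHom
  have hs : ∀ x : Fˣ, ((s x : Fˣ) : F) = σ x := fun x => rfl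
  let N : Fˣ →* Fˣ := (MonoidHom.id _) * s
  let D : Fˣ →* Fˣ := (MonoidHom.id _) / s
  have hN : ∀ x : Fˣ, N x = x * s x := fun x => rfl
  have hD : ∀ x : Fˣ, D x = x / s x := fun x => rfl
  have h1 : N.range ≤ D.ker := by
    rintro _ ⟨x, rfl⟩
    rw [MonoidHom.mem_ker, hD, hN, div_eq_one]
    apply Units.ext
    rw [map_mul, Units.val_mul, Units.val_mul, hs, hs, hs, h2, mul_comm]
  have h3 : N.ker ≤ D.range := by
    intro x hx
    rw [MonoidHom.mem_ker, hN] at hx
    have hx' : (x : F) * σ x = 1 := by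
      have := congrArg Units.val hx
      rwa [Units.val_mul, hs] at this
    obtain ⟨y, hy0, hy⟩ := hilbert90 hσ h2 hx'
    refine ⟨Units.mk0 y hy0, ?_⟩
    rw [hD, div_eq_iff_eq_mul]
    apply Units.ext
    rw [Units.val_mul, hs, Units.val_mk0]
    exact hy
  have hc1 : Nat.card N.ker * Nat.card N.range = Nat.card Fˣ := by
    rw [← Subgroup.index_ker]
    exact Subgroup.card_mul_index _
  have hc2 : Nat.card D.ker * Nat.card D.range = Nat.card Fˣ := by
    rw [← Subgroup.index_ker]
    exact Subgroup.card_mul_index _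
  have hle : Nat.card N.ker ≤ Nat.card D.range := Nat.card_le_card_of_injective _ (Subgroup.inclusion_injective h3)
  have hge : Nat.card D.ker ≤ Nat.card N.range := by
    have hpos : 0 < Nat.card N.ker := Nat.card_pos
    have : Nat.card D.ker * Nat.card D.range ≤ Nat.card N.range * Nat.card D.range := by
      rw [hc2, ← hc1, mul_comm (Nat.card N.range)]
      exact Nat.mul_le_mul_right _ hle
    exact Nat.le_of_mul_le_mul_right this (lt_of_lt_of_le hpos hle)
  have heq : N.range = D.ker := Subgroup.eq_of_le_of_card_ge h1 hge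
  have hbm : Units.mk0 b hb0 ∈ N.range := by
    rw [heq, MonoidHom.mem_ker, hD, div_eq_one]
    apply Units.ext
    rw [hs, Units.val_mk0]
    exact hb.symm
  obtain ⟨x, hx⟩ := hbm
  refine ⟨x, ?_⟩
  have := congrArg Units.val hx
  rwa [hN, Units.val_mul, hs, Units.val_mk0] at this

end CfsgH9.SF
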