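import Mathlib

set_option autoImplicit false

/-! Witt's lemma, for alternating, quadratic and hermitian forms at once. -/

namespace CfsgH9.Witt

variable {F V : Type*} [Field F] [AddCommGroup V] [Module F V]
  {σ : F →+* F}

/-- formed space data: a non-degenerate ε-hermitian sesquilinear form with a compatible norm -/
structure Fm (β : V →ₛₗ[σ] V →ₗ[F] F) (N : V → F) (τ : F →+ F) (ν : F → F) (ε : F) : Prop where
  hσ : Function.Surjective σ
  herm : ∀ x y, β y x = ε * σ (β x y)
  nondeg : ∀ x, (∀ y, β x y = 0) → x = 0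
  add : ∀ x y, N (x + y) = N x + N y + τ (β x y)
  smul : ∀ c x, N (c • x) = ν c * N x
  surj : ∀ v w, ∃ c, τ c = N v - N w
  diag : ∀ x y, N x = N y → β x x = β y y

variable {β : V →ₛₗ[σ] V →ₗ[F] F} {N : V → F} {τ : F →+ F} {ν : F → F} {ε : F}

lemma Fm.refl (h : Fm β N τ ν ε) {x y : V} (hxy : β x y = 0) : β y x = 0 := by
  rw [h.herm x y, hxy, map_zero, mul_zero]

/-- preserving the form on `U` -/
structure Pres (β : V →ₛₗ[σ] V →ₗ[F] F) (N : V → F) (U : Submodule F V) (f : V →ₗ[F] V) : Prop where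
  form : ∀ u ∈ U, ∀ u' ∈ U, β (f u) (f u') = β u u'
  norm : ∀ u ∈ U, N (f u) = N u
  inj : ∀ u ∈ U, f u = 0 → u = 0

lemma Fm.rep [FiniteDimensional F V] (h : Fm β N τ ν ε) (l : V →ₗ[F] F) : ∃ w, ∀ y, β w y = l y := by
  haveI : RingHomSurjective σ := ⟨h.hσ⟩
  by_contra hcon
  have h1 : LinearMap.range β ≠ ⊤ := by
    intro h2
    have h3 : l ∈ LinearMap.range β := by rw [h2]; trivial
    obtain ⟨w, hw⟩ := h3
    exact hcon ⟨w, fun y => by rw [hw]⟩
  obtain ⟨φ, hφ0, hφ⟩ := Submodule.exists_le_ker_of_lt_top _ (lt_top_iff_ne_top.2 h1)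
  obtain ⟨v, rfl⟩ := (Module.evalEquiv F V).surjective φ
  have h2 : ∀ x, β x v = 0 := by
    intro x
    have h3 : β x ∈ LinearMap.range β := ⟨x, rfl⟩
    have h4 := hφ h3
    exact h4
  have hv : v = 0 := h.nondeg v (fun y => h.refl (h2 y))
  exact hφ0 (by rw [hv, map_zero])

lemma exists_extend {U : Submodule F V} (f : V →ₗ[F] V) {w : V} (hw : w ∉ U) (w' : V) :
    ∃ f' : V →ₗ[F] V, (∀ u ∈ U, f' u = f u) ∧ f' w = w' := by
  obtain ⟨φ, hφ, hφU⟩ := Submodule.exists_dual_map_eq_bot_of_notMem hw inferInstance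
  refine ⟨f + LinearMap.toSpanSingleton F V ((φ w)⁻¹ • (w' - f w)) ∘ₗ φ, ?_, ?_⟩
  · intro u hu
    have h1 : φ u ∈ U.map φ := ⟨u, hu, rfl⟩
    rw [hφU, Submodule.mem_bot] at h1
    rw [LinearMap.add_apply, LinearMap.comp_apply, h1, map_zero, add_zero]
  · rw [LinearMap.add_apply, LinearMap.comp_apply, LinearMap.toSpanSingleton_apply, smul_smul, mul_inv_cancel₀ hφ,
      one_smul, add_sub_cancel]

lemma mem_sup_span {U : Submodule F V} {w x : V} : x ∈ U ⊔ Submodule.span F {w} ↔ ∃ u ∈ U, ∃ c : F, x = u + c • w := by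
  rw [Submodule.mem_sup]
  constructor
  · rintro ⟨u, hu, y, hy, rfl⟩
    obtain ⟨c, rfl⟩ := Submodule.mem_span_singleton.1 hy
    exact ⟨u, hu, c, rfl⟩
  · rintro ⟨u, hu, c, rfl⟩
    exact ⟨u, hu, _, Submodule.smul_mem _ _ (Submodule.mem_span_singleton_self w), rfl⟩

/-- one-step extension -/
lemma Fm.step (h : Fm β N τ ν ε) {U : Submodule F V} {f : V →ₗ[F] V} (hf : Pres β N U f) {w w' : V}
    (hw : w ∉ U) (hw' : ∀ u ∈ U, f u ≠ w') (hb : ∀ u ∈ U, β w' (f u) = β w u) (hN : N w' = N w) :
    ∃ f' : V →ₗ[F] V, Pres β N (U ⊔ Submodule.span F {w}) f' ∧ (∀ u ∈ U, f' u = f u) ∧ f' w = w' := by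
  obtain ⟨f', hf', hfw⟩ := exists_extend f hw w'
  have hb' : ∀ u ∈ U, β (f u) w' = β u w := by
    intro u hu
    rw [h.herm w' (f u), hb u hu, ← h.herm]
  refine ⟨f', ⟨?_, ?_, ?_⟩, hf', hfw⟩
  · intro u hu v hv
    obtain ⟨u1, hu1, c, rfl⟩ := mem_sup_span.1 hu
    obtain ⟨v1, hv1, d, rfl⟩ := mem_sup_span.1 hv
    rw [map_add, map_smul, hf' u1 hu1, hfw, map_add f', map_smul f', hf' v1 hv1, hfw]
    simp only [map_add, LinearMap.add_apply, map_smul, LinearMap.map_smulₛₗ, LinearMap.smul_apply, smul_eq_mul]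
    rw [hf.form u1 hu1 v1 hv1, hb' u1 hu1, hb v1 hv1, h.diag _ _ hN]
  · intro u hu
    obtain ⟨u1, hu1, c, rfl⟩ := mem_sup_span.1 hu
    rw [map_add, map_smul, hf' u1 hu1, hfw, h.add, h.add, h.smul, h.smul, hN, (β (f u1)).map_smul, (β u1).map_smul,
      hb' u1 hu1, hf.norm u1 hu1]
  · intro u hu hu0
    obtain ⟨u1, hu1, c, rfl⟩ := mem_sup_span.1 hu
    rw [map_add, map_smul, hf' u1 hu1, hfw] at hu0
    by_cases hc : c = 0
    · subst hc
      rw [zero_smul, add_zero] at hu0 ⊢
      exact hf.inj u1 hu1 hu0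
    · exfalso
      apply hw' (-(c⁻¹ • u1)) (U.neg_mem (U.smul_mem _ hu1))
      rw [map_neg, map_smul]
      have h1 : f u1 = -(c • w') := eq_neg_of_add_eq_zero_left hu0
      rw [h1, smul_neg, neg_neg, smul_smul, inv_mul_cancel₀ hc, one_smul]

lemma finrank_sup_span [FiniteDimensional F V] {U : Submodule F V} {w : V} (hw : w ∉ U) :
    Module.finrank F U < Module.finrank F (U ⊔ Submodule.span F {w} : Submodule F V) := by
  apply Submodule.finrank_lt_finrank_of_lt
  refine lt_of_le_of_ne le_sup_left ?_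
  intro h
  apply hw
  rw [h]
  exact Submodule.mem_sup_right (Submodule.mem_span_singleton_self w)

/-- isometry of the whole space -/
def Isom (β : V →ₛₗ[σ] V →ₗ[F] F) (N : V → F) (g : V ≃ₗ[F] V) : Prop :=
  (∀ u v, β (g u) (g v) = β u v) ∧ ∀ u, N (g u) = N u

lemma of_top [FiniteDimensional F V] {f : V →ₗ[F] V} (hf : Pres β N ⊤ f) :
    ∃ g : V ≃ₗ[F] V, Isom β N g ∧ ∀ u, g u = f u := by
  have hinj : Function.Injective f := by
    rw [injective_iff_map_eq_zero]
    intro u hu
    exact hf.inj u trivial hu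
  exact ⟨LinearEquiv.ofInjectiveEndo f hinj, ⟨fun u v => hf.form u trivial v trivial, fun u => hf.norm u trivial⟩,
    fun u => rfl⟩

lemma not_union {W U U' : Submodule F V} (h1 : ¬ W ≤ U) (h2 : ¬ W ≤ U') : ∃ w ∈ W, w ∉ U ∧ w ∉ U' := by
  by_contra hcon
  push Not at hcon
  obtain ⟨x, hx, hxU⟩ := SetLike.not_le_iff_exists.1 h1
  obtain ⟨y, hy, hyU⟩ := SetLike.not_le_iff_exists.1 h2
  have hxU' := hcon x hx hxU
  by_cases hyU1 : y ∈ U
  · have h3 : x + y ∉ U := by
      intro h
      apply hxU
      have := U.sub_mem h hyU1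
      rwa [add_sub_cancel_right] at this
    have h4 := hcon _ (W.add_mem hx hy) h3
    apply hyU
    have := U'.sub_mem h4 hxU'
    rwa [add_sub_cancel_left] at this
  · exact hyU (hcon y hy hyU1)

/-- the case where `f - 1` has image in a singular point `⟨e⟩` orthogonal to `U` -/
lemma Fm.ext_point [FiniteDimensional F V] (h : Fm β N τ ν ε) {e : V} (he0 : e ≠ 0) (hee : β e e = 0) (hNe : N e = 0) (k : ℕ) :
    ∀ (U : Submodule F V) (f : V →ₗ[F] V), Module.finrank F V ≤ k + Module.finrank F U → Pres β N U f →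
      U ≤ LinearMap.ker (β e) → (∀ u ∈ U, ∃ c : F, f u = u + c • e) →
      ∃ g : V ≃ₗ[F] V, Isom β N g ∧ ∀ u ∈ U, g u = f u := by
  induction k with
  | zero =>
    intro U f hk hf hU hfU
    exfalso
    have h1 : U = ⊤ := Submodule.eq_top_of_finrank_eq (le_antisymm (Submodule.finrank_le U) (by simpa using hk))
    apply he0
    apply h.nondeg
    intro y
    have : y ∈ U := by rw [h1]; trivial
    exact hU this
  | succ k ih =>
    intro U f hk hf hU hfU
    have hfe : ∀ u ∈ U, β e (f u) = 0 := by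
      intro u hu
      obtain ⟨c, hc⟩ := hfU u hu
      rw [hc, map_add, map_smul, hee, smul_zero, add_zero]
      exact hU hu
    by_cases hUe : LinearMap.ker (β e) ≤ U
    · have hUeq : U = LinearMap.ker (β e) := le_antisymm hU hUe
      have heU : e ∈ U := hUe hee
      -- v outside
      obtain ⟨v, hv⟩ : ∃ v, β e v ≠ 0 := by
        by_contra hcon
        push Not at hcon
        exact he0 (h.nondeg e hcon)
      have hvU : v ∉ U := fun h' => hv (hU h')
      have hvf : ∀ u ∈ U, f u ≠ v := fun u hu h' => hv (by rw [← h']; exact hfe u hu)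
      have htop : U ⊔ Submodule.span F {v} = ⊤ := by
        rw [eq_top_iff]
        intro y _
        rw [mem_sup_span]
        refine ⟨y - (β e y / β e v) • v, hUe ?_, β e y / β e v, by abel⟩
        rw [LinearMap.mem_ker, map_sub, map_smul, smul_eq_mul, div_mul_cancel₀ _ hv, sub_self]
      -- linear automorphism extending f
      obtain ⟨f0, hf0, hf0v⟩ := exists_extend f hvU v
      have hinj : Function.Injective f0 := by
        rw [injective_iff_map_eq_zero]
        intro y hy
        have hy' : y ∈ U ⊔ Submodule.span F {v} := by rw [htop]; trivial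
        obtain ⟨u, hu, c, rfl⟩ := mem_sup_span.1 hy'
        rw [map_add, map_smul, hf0 u hu, hf0v] at hy
        have h1 := congrArg (β e) hy
        rw [map_add, hfe u hu, map_smul, map_zero, zero_add, smul_eq_mul] at h1
        have hc : c = 0 := (mul_eq_zero.1 h1).resolve_right hv
        subst hc
        rw [zero_smul, add_zero] at hy ⊢
        exact hf.inj u hu hy
      let g0 := LinearEquiv.ofInjectiveEndo f0 hinj
      have hg0 : ∀ x, g0 x = f0 x := fun x => rfl
      obtain ⟨w0, hw0⟩ := h.rep ((β v).comp (g0.symm : V →ₗ[F] V))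
      have hw0' : ∀ u ∈ U, β w0 (f u) = β v u := by
        intro u hu
        rw [hw0, ← hf0 u hu, ← hg0]
        show β v (g0.symm (g0 u)) = β v u
        rw [LinearEquiv.symm_apply_apply]
      -- e is in the image
      have hmap : U.map f0 = U := by
        apply Submodule.eq_of_le_of_finrank_eq
        · rintro _ ⟨u, hu, rfl⟩
          rw [hf0 u hu, hUeq]
          exact hfe u hu
        · exact (LinearEquiv.finrank_eq (Submodule.equivMapOfInjective f0 hinj U)).symm
      have heU' := heU
      rw [← hmap] at heU'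
      obtain ⟨u0, hu0, hu0e⟩ := heU'
      rw [hf0 u0 hu0] at hu0e
      have hw0e : β w0 e ≠ 0 := by
        rw [← hu0e, hw0' u0 hu0]
        intro hcon
        have h1 : u0 = 0 := by
          apply h.nondeg
          intro y
          have hy' : y ∈ U ⊔ Submodule.span F {v} := by rw [htop]; trivial
          obtain ⟨u, hu, c, rfl⟩ := mem_sup_span.1 hy'
          rw [map_add, map_smul, h.refl hcon, smul_zero, add_zero, ← hf.form u0 hu0 u hu, hu0e, hfe u hu]
        rw [h1, map_zero] at hu0e
        exact he0 hu0e.symm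
      obtain ⟨c, hc⟩ := h.surj v w0
      have hN : N (w0 + (c / β w0 e) • e) = N v := by
        rw [h.add, h.smul, hNe, mul_zero, add_zero, map_smul, smul_eq_mul, div_mul_cancel₀ _ hw0e, hc]
        ring
      obtain ⟨f', hf', hf'U, -⟩ := h.step hf (w := v) (w' := w0 + (c / β w0 e) • e) hvU (by
        intro u hu hcon
        have h1 := hfe u hu
        rw [hcon, map_add, map_smul, hee, smul_zero, add_zero] at h1
        exact hw0e (h.refl h1)) (by
        intro u hu
        rw [map_add, LinearMap.add_apply, LinearMap.map_smulₛₗ, LinearMap.smul_apply, hfe u hu, smul_zero, add_zero,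
          hw0' u hu]) hN
      rw [htop] at hf'
      obtain ⟨g, hg, hgf⟩ := of_top hf'
      exact ⟨g, hg, fun u hu => by rw [hgf, hf'U u hu]⟩
    · have hUe' : ¬ LinearMap.ker (β e) ≤ U.map f := by
        intro hle
        apply hUe
        have h1 : Module.finrank F (U.map f) ≤ Module.finrank F U := Submodule.finrank_map_le f U
        have h2 := Submodule.finrank_mono hle
        have h3 := Submodule.finrank_mono hU
        exact (Submodule.eq_of_le_of_finrank_le hU (by omega)).ge
      obtain ⟨w, hwe, hwU, hwU'⟩ := not_union hUe hUe'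
      obtain ⟨f', hf', hf'U, hf'w⟩ := h.step hf (w := w) (w' := w) hwU (by
        intro u hu hcon
        exact hwU' ⟨u, hu, hcon⟩) (by
        intro u hu
        obtain ⟨c, hc⟩ := hfU u hu
        have h1 : β w e = 0 := h.refl hwe
        rw [hc, map_add, map_smul, h1, smul_zero, add_zero]) rfl
      have hlt := finrank_sup_span hwU
      obtain ⟨g, hg, hgf⟩ := ih (U ⊔ Submodule.span F {w}) f' (by omega) hf' (by
        apply sup_le hU
        rw [Submodule.span_le]
        intro x hx
        rw [Set.mem_singleton_iff.1 hx]; exact hwe) (by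
        intro u hu
        obtain ⟨u1, hu1, c, rfl⟩ := mem_sup_span.1 hu
        obtain ⟨d, hd⟩ := hfU u1 hu1
        refine ⟨d, ?_⟩
        rw [map_add, map_smul, hf'U u1 hu1, hf'w, hd]
        abel)
      exact ⟨g, hg, fun u hu => by rw [hgf u (Submodule.mem_sup_left hu), hf'U u hu]⟩

theorem Fm.extend [FiniteDimensional F V] (h : Fm β N τ ν ε) (k : ℕ) :
    ∀ (U : Submodule F V) (f : V →ₗ[F] V), Module.finrank F U ≤ k → Pres β N U f →
      ∃ g : V ≃ₗ[F] V, Isom β N g ∧ ∀ u ∈ U, g u = f u := by
  induction k with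
  | zero =>
    intro U f hk hf
    have h1 : U = ⊥ := Submodule.finrank_eq_zero.1 (by omega)
    refine ⟨LinearEquiv.refl F V, ⟨fun _ _ => rfl, fun _ => rfl⟩, ?_⟩
    intro u hu
    rw [h1, Submodule.mem_bot] at hu
    rw [hu, map_zero, map_zero]
  | succ k ih =>
    intro U f hk hf
    by_cases hU : U = ⊥
    · exact ih U f (by rw [hU, finrank_bot]; omega) hf
    obtain ⟨x, hx, hx0⟩ := (Submodule.ne_bot_iff _).1 hU
    obtain ⟨l, hl, -⟩ := Submodule.exists_dual_map_eq_bot_of_notMem (p := (⊥ : Submodule F V)) (x := x)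
      (by simpa using hx0) inferInstance
    set H := U ⊓ LinearMap.ker l with hH
    have hHU : H < U := by
      refine lt_of_le_of_ne inf_le_left ?_
      intro heq
      rw [← heq] at hx
      exact hl hx.2
    have hHlt := Submodule.finrank_lt_finrank_of_lt hHU
    obtain ⟨g, hg, hgf⟩ := ih H f (by omega)
      ⟨fun u hu v hv => hf.form u hu.1 v hv.1, fun u hu => hf.norm u hu.1, fun u hu => hf.inj u hu.1⟩
    have hginv : (∀ u v, β (g.symm u) (g.symm v) = β u v) ∧ ∀ u, N (g.symm u) = N u := by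
      constructor
      · intro u v
        rw [← hg.1, LinearEquiv.apply_symm_apply, LinearEquiv.apply_symm_apply]
      · intro u
        rw [← hg.2, LinearEquiv.apply_symm_apply]
    -- f1 = g⁻¹ f
    set f1 : V →ₗ[F] V := (g.symm : V →ₗ[F] V).comp f with hf1
    have hf1app : ∀ y, f1 y = g.symm (f y) := fun y => rfl
    have hP1 : Pres β N U f1 := by
      refine ⟨?_, ?_, ?_⟩
      · intro u hu v hv
        rw [hf1app, hf1app, hginv.1, hf.form u hu v hv]
      · intro u hu
        rw [hf1app, hginv.2, hf.norm u hu]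
      · intro u hu hu0
        rw [hf1app] at hu0
        exact hf.inj u hu ((LinearEquiv.map_eq_zero_iff g.symm).1 hu0)
    have hid : ∀ u ∈ H, f1 u = u := by
      intro u hu
      rw [hf1app, ← hgf u hu, LinearEquiv.symm_apply_apply]
    suffices hsuff : ∃ g' : V ≃ₗ[F] V, Isom β N g' ∧ ∀ u ∈ U, g' u = f1 u by
      obtain ⟨g', hg', hg'f⟩ := hsuff
      refine ⟨g'.trans g, ⟨?_, ?_⟩, ?_⟩
      · intro u v
        rw [LinearEquiv.trans_apply, LinearEquiv.trans_apply, hg.1, hg'.1]
      · intro u
        rw [LinearEquiv.trans_apply, hg.2, hg'.2]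
      · intro u hu
        rw [LinearEquiv.trans_apply, hg'f u hu, hf1app, LinearEquiv.apply_symm_apply]
    have hdec : ∀ u ∈ U, ∃ v ∈ H, ∃ c : F, u = v + c • x := by
      intro u hu
      refine ⟨u - (l u / l x) • x, ⟨U.sub_mem hu (U.smul_mem _ hx), ?_⟩, l u / l x, by abel⟩
      show l (u - (l u / l x) • x) = 0
      rw [map_sub, map_smul, smul_eq_mul, div_mul_cancel₀ _ hl, sub_self]
    set e := x - f1 x with he
    have hfx : f1 x = x - e := by rw [he]; abel
    have heH : ∀ v ∈ H, β e v = 0 := by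
      intro v hv
      rw [he, map_sub, LinearMap.sub_apply]
      have h1 := hP1.form x hx v hv.1
      rw [hid v hv] at h1
      rw [h1, sub_self]
    by_cases he0 : e = 0
    · refine ⟨LinearEquiv.refl F V, ⟨fun _ _ => rfl, fun _ => rfl⟩, ?_⟩
      intro u hu
      obtain ⟨v, hv, c, rfl⟩ := hdec u hu
      rw [map_add, map_smul, map_add, map_smul, hid v hv, hfx, he0, sub_zero]
      rfl
    by_cases hex : β e x = 0
    · -- singular case
      have hxe := h.refl hex
      have hee : β e e = 0 := by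
        have h1 := hP1.form x hx x hx
        have h2 : β (f1 x) (f1 x) = β x x - β x e - (β e x - β e e) := by
          rw [hfx]
          simp only [map_sub, LinearMap.sub_apply]
          ring
        rw [h2, hxe, hex] at h1
        have h3 : β x x - 0 - (0 - β e e) = β x x + β e e := by ring
        rw [h3] at h1
        simpa using h1
      have hNe : N e = 0 := by
        have h1 : N x = N (f1 x + e) := by rw [he]; congr 1; abel
        have h2 : β (f1 x) e = 0 := by
          rw [hfx]
          simp only [map_sub, LinearMap.sub_apply]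
          rw [hxe, hee, sub_zero]
        rw [h.add, hP1.norm x hx, h2, map_zero, add_zero] at h1
        simpa using h1
      refine h.ext_point he0 hee hNe (Module.finrank F V) U f1 (by omega) hP1 ?_ ?_
      · intro u hu
        obtain ⟨v, hv, c, rfl⟩ := hdec u hu
        rw [LinearMap.mem_ker, map_add, map_smul, heH v hv, hex, smul_zero, add_zero]
      · intro u hu
        obtain ⟨v, hv, c, rfl⟩ := hdec u hu
        refine ⟨-c, ?_⟩
        rw [map_add, map_smul, hid v hv, hfx]
        module
    · -- x, and the identity on e^⊥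
      have hxK : x ∉ LinearMap.ker (β e) := hex
      have hPid : Pres β N (LinearMap.ker (β e)) LinearMap.id :=
        ⟨fun u _ v _ => rfl, fun u _ => rfl, fun u _ h => h⟩
      have hefx : β e (f1 x) ≠ 0 := by
        intro hcon
        -- β e x = β e e and β x x = β (f1 x) (f1 x)
        have h1 := hP1.form x hx x hx
        have h2 : x = f1 x + e := by rw [he]; abel
        have h3 : β x x = β (f1 x) (f1 x) + β (f1 x) e + (β e (f1 x) + β e e) := by
          conv_lhs => rw [h2]
          simp only [map_add, LinearMap.add_apply]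
          ring
        rw [h1, hcon, h.refl hcon] at h3
        have h4 : β e e = 0 := by
          have : β x x + 0 + (0 + β e e) = β x x + β e e := by ring
          rw [this] at h3
          exact (left_eq_add.1 h3)
        apply hex
        conv_lhs => rw [h2]
        rw [map_add, hcon, h4, add_zero]
      obtain ⟨f', hf', hf'U, hf'x⟩ := h.step hPid (w := x) (w' := f1 x) hxK (by
        intro u hu hcon
        rw [LinearMap.id_apply] at hcon
        rw [LinearMap.mem_ker, hcon] at hu
        exact hefx hu) (by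
        intro u hu
        rw [LinearMap.id_apply, hfx, map_sub, LinearMap.sub_apply, (show β e u = 0 from hu), sub_zero]) (hP1.norm x hx)
      have htop : LinearMap.ker (β e) ⊔ Submodule.span F {x} = ⊤ := by
        rw [eq_top_iff]
        intro y _
        rw [mem_sup_span]
        refine ⟨y - (β e y / β e x) • x, ?_, β e y / β e x, by abel⟩
        rw [LinearMap.mem_ker, map_sub, map_smul, smul_eq_mul, div_mul_cancel₀ _ hex, sub_self]
      rw [htop] at hf'
      obtain ⟨g', hg', hg'f⟩ := of_top hf'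
      refine ⟨g', hg', ?_⟩
      intro u hu
      obtain ⟨v, hv, c, rfl⟩ := hdec u hu
      rw [hg'f, map_add, map_smul, hf'U v (heH v hv), hf'x, map_add, map_smul, hid v hv]
      rfl

theorem Fm.witt [FiniteDimensional F V] (h : Fm β N τ ν ε) (X Y : Submodule F V) (φ : X ≃ₗ[F] Y)
    (hφ : ∀ x x' : X, β (φ x : V) (φ x' : V) = β (x : V) (x' : V)) (hN : ∀ x : X, N (φ x : V) = N (x : V)) :
    ∃ g : V ≃ₗ[F] V, Isom β N g ∧ ∀ x : X, g (x : V) = (φ x : V) := by
  obtain ⟨f, hf⟩ := LinearMap.exists_extend (Y.subtype.comp (φ : X →ₗ[F] Y))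
  have hf' : ∀ x : X, f (x : V) = (φ x : V) := fun x => LinearMap.congr_fun hf x
  obtain ⟨g, hg, hgf⟩ := h.extend (Module.finrank F X) X f le_rfl
    ⟨fun u hu v hv => by rw [hf' ⟨u, hu⟩, hf' ⟨v, hv⟩]; exact hφ _ _, fun u hu => by rw [hf' ⟨u, hu⟩]; exact hN _,
      fun u hu h0 => by
        rw [hf' ⟨u, hu⟩] at h0
        have h1 : φ ⟨u, hu⟩ = 0 := Subtype.ext h0
        have h2 := (LinearEquiv.map_eq_zero_iff φ).1 h1
        exact congrArg Subtype.val h2⟩
  exact ⟨g, hg, fun x => by rw [hgf x x.2, hf' x]⟩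

end CfsgH9.Witt
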