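import Mathlib
import Cfsg.Agent.H9.Witt
import Cfsg.Agent.H9.SigmaField

set_option autoImplicit false

namespace CfsgH9.Witt

variable {F V : Type*} [Field F] [AddCommGroup V] [Module F V]

lemma fm_alt (B : LinearMap.BilinForm F V) (hB : B.Nondegenerate) (hA : B.IsAlt) :
    Fm (σ := RingHom.id F) B (fun _ => (0 : F)) 0 (fun _ => 0) (-1) where
  hσ := Function.surjective_id
  herm x y := by
    have := LinearMap.BilinForm.IsAlt.neg_eq hA y x
    rw [RingHom.id_apply, neg_one_mul]
    rw [← this]; ring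
  nondeg x hx := hB.1 x hx
  add x y := by simp
  smul c x := by simp
  surj v w := ⟨0, by simp⟩
  diag x y _ := by rw [hA x, hA y]

lemma fm_quad (Q : QuadraticForm F V) (hQ : (QuadraticMap.polarBilin Q).Nondegenerate) :
    Fm (σ := RingHom.id F) (QuadraticMap.polarBilin Q) Q (AddMonoidHom.id F) (fun c => c * c) 1 where
  hσ := Function.surjective_id
  herm x y := by
    rw [one_mul, RingHom.id_apply, QuadraticMap.polarBilin_apply_apply, QuadraticMap.polarBilin_apply_apply,
      QuadraticMap.polar_comm]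
  nondeg x hx := hQ.1 x hx
  add x y := by
    rw [AddMonoidHom.id_apply, QuadraticMap.polarBilin_apply_apply, QuadraticMap.polar]
    ring
  smul c x := by rw [QuadraticMap.map_smul, smul_eq_mul]
  surj v w := ⟨Q v - Q w, rfl⟩
  diag x y h := by
    rw [QuadraticMap.polarBilin_apply_apply, QuadraticMap.polarBilin_apply_apply, QuadraticMap.polar_self,
      QuadraticMap.polar_self, h]

/-- involutive endomorphism as an equivalence -/
def eqv (σ : F →+* F) (hσ2 : ∀ a : F, σ (σ a) = a) : F ≃+* F :=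
  { σ with invFun := σ, left_inv := hσ2, right_inv := hσ2 }

lemma eqv_ne {σ : F →+* F} (hσ : σ ≠ RingHom.id F) (hσ2 : ∀ a : F, σ (σ a) = a) : eqv σ hσ2 ≠ RingEquiv.refl F := by
  intro h
  apply hσ
  ext a
  exact congrArg (fun e : F ≃+* F => e a) h

lemma fm_herm (σ : F →+* F) (hσ : σ ≠ RingHom.id F) (hσ2 : ∀ a : F, σ (σ a) = a) (B : V →ₛₗ[σ] V →ₗ[F] F)
    (hS : B.IsSymm) (hB : B.Nondegenerate) :
    Fm B (fun x => B x x) (AddMonoidHom.id F + (σ : F →+ F)) (fun c => σ c * c) 1 where
  hσ := fun a => ⟨σ a, hσ2 a⟩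
  herm x y := by rw [one_mul, hS.eq]
  nondeg x hx := hB.1 x hx
  add x y := by
    rw [AddMonoidHom.add_apply, AddMonoidHom.id_apply]
    show B (x + y) (x + y) = B x x + B y y + (B x y + σ (B x y))
    rw [hS.eq]
    simp only [map_add, LinearMap.add_apply]
    ring
  smul c x := by
    show B (c • x) (c • x) = σ c * c * B x x
    rw [map_smul, LinearMap.map_smulₛₗ, LinearMap.smul_apply, smul_eq_mul, smul_eq_mul]
    ring
  surj v w := by
    have h1 : σ (B v v - B w w) = B v v - B w w := by rw [map_sub, hS.eq, hS.eq]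
    obtain ⟨c, hc⟩ := SF.trace_surj (eqv_ne hσ hσ2) (fun a => hσ2 a) (b := B v v - B w w) h1
    exact ⟨c, hc⟩
  diag x y h := h

end CfsgH9.Witt
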