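import Mathlib
import Cfsg.Agent.H9.WittInst

set_option autoImplicit false

/-! Counting hyperbolic families in formed spaces over finite fields. -/

namespace CfsgH9.CountHyp

open CfsgH9.Witt

lemma card_sigma_const {α : Type*} [Finite α] {B : α → Type*} (hB : ∀ a, Finite (B a)) (c : ℕ)
    (h : ∀ a, Nat.card (B a) = c) : Nat.card (Σ a, B a) = Nat.card α * c := by
  haveI := Fintype.ofFinite α
  rw [Nat.card_sigma, Finset.sum_congr rfl (fun a _ => h a), Finset.sum_const, smul_eq_mul, Finset.card_univ,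
    Nat.card_eq_fintype_card]

section lin

variable {F V : Type*} [Field F] [Finite F] [AddCommGroup V] [Module F V] [Finite V]

lemma card_eq_pow : Nat.card V = Nat.card F ^ Module.finrank F V := by
  haveI : Module.Finite F V := Module.Finite.of_finite
  exact Module.natCard_eq_pow_finrank

/-- affine hyperplanes -/
lemma card_fiber (φ : V →ₗ[F] F) (hφ : φ ≠ 0) (c : F) :
    Nat.card {v : V // φ v = c} * Nat.card F = Nat.card V := by
  have hsurj : Function.Surjective φ := LinearMap.surjective hφ
  obtain ⟨v0, hv0⟩ := hsurj c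
  have e1 : {v : V // φ v = c} ≃ LinearMap.ker φ :=
    { toFun := fun v => ⟨v.1 - v0, by rw [LinearMap.mem_ker, map_sub, v.2, hv0, sub_self]⟩
      invFun := fun w => ⟨w.1 + v0, by rw [map_add, (LinearMap.mem_ker.1 w.2), hv0, zero_add]⟩
      left_inv := fun v => by simp
      right_inv := fun w => by simp }
  have h1 := LinearMap.finrank_range_add_finrank_ker φ
  rw [LinearMap.range_eq_top.2 hsurj, finrank_top, Module.finrank_self] at h1
  rw [Nat.card_congr e1, card_eq_pow (F := F) (V := V), card_eq_pow (F := F) (V := LinearMap.ker φ), ← h1, pow_add, pow_one,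
    mul_comm]

end lin

section pairs

variable {F V : Type*} [Field F] [AddCommGroup V] [Module F V] {σ : F →+* F}
variable (β : V →ₛₗ[σ] V →ₗ[F] F) (N : V → F)

/-- singular hyperbolic pairs -/
def IsPair (u v : V) : Prop := N u = 0 ∧ N v = 0 ∧ β u v = 1

/-- the orthogonal complement of a pair -/
def pperp (u v : V) : Submodule F V := LinearMap.ker (β u) ⊓ LinearMap.ker (β v)

variable {β N} {τ : F →+ F} {ν : F → F} {ε : F}

lemma mem_pperp {u v w : V} : w ∈ pperp β u v ↔ β u w = 0 ∧ β v w = 0 := Iff.rfl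

/-- restricted form -/
abbrev res (β : V →ₛₗ[σ] V →ₗ[F] F) (W : Submodule F V) : W →ₛₗ[σ] W →ₗ[F] F := β.domRestrict₁₂ W W

lemma res_apply (W : Submodule F V) (x y : W) : res β W x y = β x y := rfl

lemma nz (h : Fm β N τ ν ε) : N 0 = 0 ∨ True := Or.inr trivial

lemma Fm.zero' (h : Fm β N τ ν ε) : N 0 = 0 := by
  have h1 := h.add 0 0
  rw [map_zero, map_zero, add_zero, add_zero] at h1
  exact (left_eq_add.1 h1)

lemma beta_self (h : Fm β N τ ν ε) {u : V} (hu : N u = 0) : β u u = 0 := by
  rw [h.diag u 0 (by rw [hu, Fm.zero' h]), map_zero]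

lemma pair_swap (h : Fm β N τ ν ε) {u v : V} (hp : IsPair β N u v) : β v u = ε := by
  rw [h.herm u v, hp.2.2, map_one, mul_one]

lemma eps_ne (h : Fm β N τ ν ε) {u v : V} (hp : IsPair β N u v) : ε ≠ 0 := by
  intro h0
  have h1 := h.herm v u
  rw [pair_swap h hp, hp.2.2, h0, map_zero, mul_zero] at h1
  exact one_ne_zero h1

/-- decomposition along a pair -/
lemma pair_decomp (h : Fm β N τ ν ε) {u v : V} (hp : IsPair β N u v) (x : V) :
    x - (ε⁻¹ * β v x) • u - (β u x) • v ∈ pperp β u v := by
  have he := eps_ne h hp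
  rw [mem_pperp]
  simp only [map_sub, map_smul, beta_self h hp.1, beta_self h hp.2.1, hp.2.2, pair_swap h hp, smul_eq_mul]
  constructor
  · ring
  · field_simp
    ring

lemma fm_perp (h : Fm β N τ ν ε) {u v : V} (hp : IsPair β N u v) :
    Fm (res β (pperp β u v)) (fun w => N w) τ ν ε where
  hσ := h.hσ
  herm x y := h.herm x y
  nondeg := by
    intro x hx
    have hxu : β x u = 0 := h.refl x.2.1
    have hxv : β x v = 0 := h.refl x.2.2
    apply Subtype.ext
    apply h.nondeg
    intro y
    have h1 := pair_decomp h hp y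
    have h2 := hx ⟨_, h1⟩
    rw [res_apply] at h2
    simp only [map_sub, map_smul, hxu, hxv, smul_zero, sub_zero] at h2
    exact h2
  add x y := h.add x y
  smul c x := h.smul c x
  surj v w := h.surj v w
  diag x y := h.diag x y

/-- `V = H ⊥ W` -/
noncomputable def splitEquiv (h : Fm β N τ ν ε) {u v : V} (hp : IsPair β N u v) : V ≃ₗ[F] (F × F) × pperp β u v where
  toFun x := ((ε⁻¹ * β v x, β u x), ⟨_, pair_decomp h hp x⟩)
  map_add' x y := by
    ext
    · simp [mul_add]
    · simp
    · simp only [map_add, Prod.snd_add, Submodule.coe_add]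
      module
  map_smul' c x := by
    ext
    · simp; ring
    · simp
    · simp only [map_smul, smul_eq_mul, Prod.smul_snd, Submodule.coe_smul, RingHom.id_apply]
      module
  invFun p := p.1.1 • u + p.1.2 • v + p.2
  left_inv x := by
    simp only
    abel
  right_inv p := by
    obtain ⟨⟨a, b⟩, w, hw⟩ := p
    have he := eps_ne h hp
    have hw1 : β u w = 0 := hw.1
    have hw2 : β v w = 0 := hw.2
    have e1 : ε⁻¹ * β v (a • u + b • v + w) = a := by
      simp only [map_add, map_smul, pair_swap h hp, beta_self h hp.2.1, hw2, smul_eq_mul]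
      field_simp
      ring
    have e2 : β u (a • u + b • v + w) = b := by
      simp only [map_add, map_smul, hp.2.2, beta_self h hp.1, hw1, smul_eq_mul]
      ring
    ext
    · exact e1
    · exact e2
    · simp only [e1, e2]
      abel

lemma splitEquiv_symm_apply (h : Fm β N τ ν ε) {u v : V} (hp : IsPair β N u v) (p : (F × F) × pperp β u v) :
    (splitEquiv h hp).symm p = p.1.1 • u + p.1.2 • v + p.2 := rfl

lemma finrank_perp [FiniteDimensional F V] (h : Fm β N τ ν ε) {u v : V} (hp : IsPair β N u v) :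
    Module.finrank F V = Module.finrank F (pperp β u v) + 2 := by
  rw [LinearEquiv.finrank_eq (splitEquiv h hp), Module.finrank_prod, Module.finrank_prod, Module.finrank_self]
  omega

variable (β N) in
/-- number of zeros -/
noncomputable def zc : ℕ := Nat.card {v : V // N v = 0}

/-- number of elements of trace zero -/
noncomputable def kap (τ : F →+ F) : ℕ := Nat.card {c : F // τ c = 0}

variable [Finite F] [Finite V]

omit [Finite V] in
lemma card_tau (τ : F →+ F) {d : F} (hd : ∃ c, τ c = d) : Nat.card {c : F // τ c = d} = kap τ := by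
  obtain ⟨c0, hc0⟩ := hd
  refine Nat.card_congr
    { toFun := fun c => ⟨c.1 - c0, by rw [map_sub, c.2, hc0, sub_self]⟩
      invFun := fun c => ⟨c.1 + c0, by rw [map_add, c.2, hc0, zero_add]⟩
      left_inv := fun c => by simp
      right_inv := fun c => by simp }

/-- number of partners of a singular vector -/
lemma card_partner (h : Fm β N τ ν ε) {u : V} (hu0 : u ≠ 0) (hu : N u = 0) :
    Nat.card {v : V // β u v = 1 ∧ N v = 0} * Nat.card F ^ 2 = kap τ * Nat.card V := by
  have hφ : β u ≠ 0 := by
    intro h0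
    apply hu0
    apply h.nondeg
    intro y
    rw [h0]; rfl
  have h1 := card_fiber (β u) hφ 1
  -- pairs (v, λ)
  have hε : ε ≠ 0 := by
    obtain ⟨v, hv⟩ : ∃ v, β u v ≠ 0 := by
      by_contra hcon
      push Not at hcon
      exact hφ (LinearMap.ext hcon)
    intro h0
    have h1 := h.herm v u
    rw [h0, zero_mul] at h1
    exact hv h1
  have hshift : ∀ v : V, β u v = 1 → ∀ c : F, N (v + c • u) = N v + τ (c * ε) := by
    intro v hv c
    rw [h.add, h.smul, hu, mul_zero, add_zero, map_smul, smul_eq_mul, h.herm u v, hv, map_one, mul_one]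
  -- two ways of counting
  have e1 : (Σ v : {v : V // β u v = 1}, {c : F // N (v.1 + c • u) = 0}) ≃ F × {v : V // β u v = 1 ∧ N v = 0} :=
    { toFun := fun p => ⟨p.2.1, ⟨p.1.1 + p.2.1 • u, by
        rw [map_add, map_smul, p.1.2, beta_self h hu, smul_zero, add_zero], p.2.2⟩⟩
      invFun := fun p => ⟨⟨p.2.1 - p.1 • u, by
        rw [map_sub, map_smul, p.2.2.1, beta_self h hu, smul_zero, sub_zero]⟩, ⟨p.1, by
        show N (p.2.1 - p.1 • u + p.1 • u) = 0
        rw [sub_add_cancel]; exact p.2.2.2⟩⟩
      left_inv := by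
        rintro ⟨⟨v, hv⟩, ⟨c, hc⟩⟩
        simp only [Sigma.mk.injEq]
        constructor
        · simp
        · congr 1
          · simp
          · simp
      right_inv := by
        rintro ⟨c, ⟨v, hv⟩⟩
        simp }
  have h2 : Nat.card (Σ v : {v : V // β u v = 1}, {c : F // N (v.1 + c • u) = 0}) =
      Nat.card {v : V // β u v = 1} * kap τ := by
    refine card_sigma_const (fun a => inferInstance) _ ?_
    rintro ⟨v, hv⟩
    obtain ⟨d, hd⟩ := h.surj 0 v
    rw [Fm.zero' h, zero_sub] at hd
    rw [← card_tau τ ⟨d, hd⟩]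
    exact Nat.card_congr
      { toFun := fun c => ⟨c.1 * ε, by
          have h3 := hshift v hv c.1
          rw [c.2] at h3
          exact (neg_eq_of_add_eq_zero_right h3.symm).symm⟩
        invFun := fun c => ⟨c.1 / ε, by
          show N (v + (c.1 / ε) • u) = 0
          rw [hshift v hv, div_mul_cancel₀ _ hε, c.2, add_neg_cancel]⟩
        left_inv := fun c => by simp [hε]
        right_inv := fun c => by simp [hε] }
  rw [Nat.card_congr e1, Nat.card_prod] at h2
  calc Nat.card {v : V // β u v = 1 ∧ N v = 0} * Nat.card F ^ 2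
      = (Nat.card F * Nat.card {v : V // β u v = 1 ∧ N v = 0}) * Nat.card F := by ring
    _ = (Nat.card {v : V // β u v = 1} * kap τ) * Nat.card F := by rw [h2]
    _ = kap τ * (Nat.card {v : V // β u v = 1} * Nat.card F) := by ring
    _ = kap τ * Nat.card V := by rw [h1]

variable (β N) in
/-- pairs -/
def Pair : Type _ := {p : V × V // IsPair β N p.1 p.2}

instance finite_pair : Finite (Pair β N) := by unfold Pair; infer_instance

lemma card_pair (h : Fm β N τ ν ε) :
    Nat.card (Pair β N) * Nat.card F ^ 2 = (zc N - 1) * (kap τ * Nat.card V) := by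
  have e : Pair β N ≃ Σ u : {u : V // u ≠ 0 ∧ N u = 0}, {v : V // β u.1 v = 1 ∧ N v = 0} :=
    { toFun := fun p => ⟨⟨p.1.1, by
          intro h0
          have h1 := p.2.2.2
          rw [h0, map_zero] at h1
          exact zero_ne_one h1, p.2.1⟩, ⟨p.1.2, p.2.2.2, p.2.2.1⟩⟩
      invFun := fun p => ⟨(p.1.1, p.2.1), p.1.2.2, p.2.2.2, p.2.2.1⟩
      left_inv := fun p => rfl
      right_inv := fun p => rfl }
  have h1 : Nat.card {u : V // u ≠ 0 ∧ N u = 0} + 1 = zc N := by
    classical
    have e2 : {u : V // N u = 0} ≃ Option {u : V // u ≠ 0 ∧ N u = 0} :=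
      { toFun := fun u => if hu : u.1 = 0 then none else some ⟨u.1, hu, u.2⟩
        invFun := fun o => o.elim ⟨0, Fm.zero' h⟩ (fun u => ⟨u.1, u.2.2⟩)
        left_inv := by
          rintro ⟨u, hu⟩
          by_cases h0 : u = 0
          · subst h0; simp
          · simp [h0]
        right_inv := by
          rintro (_ | ⟨u, hu⟩)
          · simp
          · simp [hu.1] }
    rw [zc, Nat.card_congr e2, Finite.card_option]
  by_cases hemp : IsEmpty {u : V // u ≠ 0 ∧ N u = 0}
  · rw [Nat.card_congr e]
    haveI : IsEmpty (Σ u : {u : V // u ≠ 0 ∧ N u = 0}, {v : V // β u.1 v = 1 ∧ N v = 0}) := by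
      refine ⟨fun p => hemp.false p.1⟩
    rw [← h1, @Nat.card_of_isEmpty _ this, @Nat.card_of_isEmpty _ hemp]
    simp
  · rw [not_isEmpty_iff] at hemp
    obtain ⟨u0⟩ := hemp
    have hF : 0 < Nat.card F ^ 2 := pow_pos Nat.card_pos 2
    rw [Nat.card_congr e, card_sigma_const (fun a => inferInstance) (Nat.card {v : V // β u0.1 v = 1 ∧ N v = 0}), mul_assoc,
      card_partner h u0.2.1 u0.2.2, ← h1, Nat.add_sub_cancel]
    intro u
    have h2 := card_partner h u.2.1 u.2.2
    rw [← card_partner h u0.2.1 u0.2.2] at h2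
    exact Nat.eq_of_mul_eq_mul_right hF h2

/-- recursion for the number of zeros -/
lemma zc_split (h : Fm β N τ ν ε) {u v : V} (hp : IsPair β N u v) :
    zc N = Nat.card F * zc (fun w : pperp β u v => N w) + (Nat.card F - 1) * (kap τ * Nat.card (pperp β u v)) := by
  classical
  haveI := Fintype.ofFinite F
  have hN : ∀ (x y : F) (w : pperp β u v), N (x • u + y • v + w) = τ (σ x * y) + N w := by
    intro x y w
    have hw1 : β u w = 0 := w.2.1
    have hw2 : β v w = 0 := w.2.2
    have e1 : β (x • u) (y • v) = σ x * y := by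
      simp only [LinearMap.map_smulₛₗ, LinearMap.smul_apply, map_smul, smul_eq_mul, hp.2.2, RingHom.id_apply]
      ring
    have e2 : β (x • u + y • v) w = 0 := by
      simp only [LinearMap.map_smulₛₗ, LinearMap.smul_apply, map_add, LinearMap.add_apply, hw1, hw2, smul_zero, add_zero]
    rw [h.add, h.add, h.smul, h.smul, hp.1, hp.2.1, e1, e2, map_zero]
    ring
  have e1 : {v : V // N v = 0} ≃ Σ x : F, {p : F × pperp β u v // τ (σ x * p.1) + N p.2 = 0} :=
    { toFun := fun t => ⟨((splitEquiv h hp) t.1).1.1, ⟨(((splitEquiv h hp) t.1).1.2, ((splitEquiv h hp) t.1).2), by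
        rw [← hN, ← splitEquiv_symm_apply h hp ((splitEquiv h hp) t.1), LinearEquiv.symm_apply_apply]
        exact t.2⟩⟩
      invFun := fun t => ⟨(splitEquiv h hp).symm ((t.1, t.2.1.1), t.2.1.2), by
        rw [splitEquiv_symm_apply, hN]
        exact t.2.2⟩
      left_inv := fun t => by
        apply Subtype.ext
        exact (splitEquiv h hp).symm_apply_apply t.1
      right_inv := by
        rintro ⟨x, ⟨⟨y, w⟩, hyw⟩⟩
        have h3 := (splitEquiv h hp).apply_symm_apply ((x, y), w)
        have h4 : ∀ (q : (F × F) × pperp β u v) (hq : τ (σ q.1.1 * q.1.2) + N q.2 = 0), q = ((x, y), w) →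
            (⟨q.1.1, ⟨(q.1.2, q.2), hq⟩⟩ : Σ x : F, {p : F × pperp β u v // τ (σ x * p.1) + N p.2 = 0}) =
              ⟨x, ⟨(y, w), hyw⟩⟩ := by
          rintro q hq rfl
          rfl
        exact h4 _ _ h3 }
  rw [zc, Nat.card_congr e1, Nat.card_sigma, ← Finset.add_sum_erase _ _ (Finset.mem_univ (0 : F))]
  congr 1
  · rw [zc, ← Nat.card_prod]
    exact Nat.card_congr
      { toFun := fun p => (p.1.1, ⟨p.1.2, by
          obtain ⟨⟨y, w⟩, hp⟩ := p
          rw [map_zero, zero_mul, map_zero, zero_add] at hp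
          exact hp⟩)
        invFun := fun p => ⟨(p.1, p.2.1), by
          obtain ⟨y, ⟨w, hw⟩⟩ := p
          rw [map_zero, zero_mul, map_zero, zero_add]
          exact hw⟩
        left_inv := fun p => rfl
        right_inv := fun p => rfl }
  · rw [Finset.sum_congr rfl (g := fun _ => kap τ * Nat.card (pperp β u v)), Finset.sum_const,
      Finset.card_erase_of_mem (Finset.mem_univ _), Finset.card_univ, smul_eq_mul, ← Nat.card_eq_fintype_card (α := F)]
    intro x hx
    have hx0 : x ≠ 0 := Finset.ne_of_mem_erase hx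
    have hσx : σ x ≠ 0 := by rwa [Ne, map_eq_zero]
    have e2 : {p : F × pperp β u v // τ (σ x * p.1) + N p.2 = 0} ≃
        Σ w : pperp β u v, {y : F // τ (σ x * y) + N w = 0} :=
      { toFun := fun p => ⟨p.1.2, ⟨p.1.1, p.2⟩⟩
        invFun := fun p => ⟨(p.2.1, p.1), p.2.2⟩
        left_inv := fun p => rfl
        right_inv := fun p => rfl }
    rw [Nat.card_congr e2, card_sigma_const (fun a => inferInstance) (kap τ), mul_comm]
    intro w
    obtain ⟨d, hd⟩ := h.surj 0 w.1
    rw [Fm.zero' h, zero_sub] at hd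
    rw [← card_tau τ ⟨d, hd⟩]
    exact Nat.card_congr
      { toFun := fun c => ⟨σ x * c.1, by
          exact eq_neg_of_add_eq_zero_left c.2⟩
        invFun := fun c => ⟨c.1 / σ x, by
          show τ (σ x * (c.1 / σ x)) + N w = 0
          rw [mul_div_cancel₀ _ hσx, c.2, neg_add_cancel]⟩
        left_inv := fun c => by simp [hσx]
        right_inv := fun c => by
          apply Subtype.ext
          show σ x * (c.1 / σ x) = c.1
          rw [mul_div_cancel₀ _ hσx] }

lemma card_perp (h : Fm β N τ ν ε) {u v : V} (hp : IsPair β N u v) :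
    Nat.card V = Nat.card F ^ 2 * Nat.card (pperp β u v) := by
  rw [Nat.card_congr (splitEquiv h hp).toEquiv, Nat.card_prod, Nat.card_prod]
  ring

end pairs

section fam

variable {F V : Type*} [Field F] [AddCommGroup V] [Module F V] {σ : F →+* F}

/-- hyperbolic families -/
structure HypFam (β : V →ₛₗ[σ] V →ₗ[F] F) (N : V → F) {m : ℕ} (e f : Fin m → V) : Prop where
  Ne : ∀ i, N (e i) = 0
  Nf : ∀ i, N (f i) = 0
  ee : ∀ i j, β (e i) (e j) = 0
  ff : ∀ i j, β (f i) (f j) = 0
  ef : ∀ i j, β (e i) (f j) = if i = j then 1 else 0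

/-- the type of hyperbolic families -/
def T (β : V →ₛₗ[σ] V →ₗ[F] F) (N : V → F) (m : ℕ) : Type _ :=
  {p : (Fin m → V) × (Fin m → V) // HypFam β N p.1 p.2}

instance finite_T [Finite V] (β : V →ₛₗ[σ] V →ₗ[F] F) (N : V → F) (m : ℕ) : Finite (T β N m) := by
  unfold T; infer_instance

variable {β : V →ₛₗ[σ] V →ₗ[F] F} {N : V → F} {τ : F →+ F} {ν : F → F} {ε : F}

lemma HypFam.fe (h : Fm β N τ ν ε) {m : ℕ} {e f : Fin m → V} (he : HypFam β N e f) (i j : Fin m) :
    β (f i) (e j) = if i = j then ε else 0 := by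
  rw [h.herm (e j) (f i), he.ef]
  by_cases hij : i = j
  · subst hij; simp
  · rw [if_neg hij, if_neg (Ne.symm hij), map_zero, mul_zero]

/-- splitting off the first pair -/
noncomputable def famEquiv (h : Fm β N τ ν ε) (m : ℕ) :
    T β N (m + 1) ≃ Σ p : Pair β N, T (res β (pperp β p.1.1 p.1.2)) (fun w => N w) m where
  toFun t := ⟨⟨(t.1.1 0, t.1.2 0), t.2.Ne 0, t.2.Nf 0, by rw [t.2.ef]; simp⟩,
    ⟨(fun i => ⟨t.1.1 i.succ, t.2.ee 0 _, by
        show β (t.1.2 0) (t.1.1 i.succ) = 0
        rw [HypFam.fe h t.2, if_neg (Ne.symm (Fin.succ_ne_zero i))]⟩,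
      fun i => ⟨t.1.2 i.succ, by show β _ _ = 0; rw [t.2.ef]; simp [Ne.symm (Fin.succ_ne_zero i)], t.2.ff 0 _⟩),
      { Ne := fun i => t.2.Ne _
        Nf := fun i => t.2.Nf _
        ee := fun i j => t.2.ee _ _
        ff := fun i j => t.2.ff _ _
        ef := fun i j => by
          have h3 := t.2.ef i.succ j.succ
          simp only [Fin.succ_inj] at h3
          exact h3 }⟩⟩
  invFun s := ⟨(Fin.cons s.1.1.1 (fun i => ((s.2.1.1 i : pperp β s.1.1.1 s.1.1.2) : V)),
      Fin.cons s.1.1.2 (fun i => ((s.2.1.2 i : pperp β s.1.1.1 s.1.1.2) : V))),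
    { Ne := fun i => by
        refine Fin.cases ?_ (fun j => ?_) i
        · exact s.1.2.1
        · exact s.2.2.Ne j
      Nf := fun i => by
        refine Fin.cases ?_ (fun j => ?_) i
        · exact s.1.2.2.1
        · exact s.2.2.Nf j
      ee := fun i j => by
        refine Fin.cases ?_ (fun i' => ?_) i <;> refine Fin.cases ?_ (fun j' => ?_) j
        · exact beta_self h s.1.2.1
        · exact (s.2.1.1 j').2.1
        · exact h.refl (s.2.1.1 i').2.1
        · exact s.2.2.ee i' j'
      ff := fun i j => by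
        refine Fin.cases ?_ (fun i' => ?_) i <;> refine Fin.cases ?_ (fun j' => ?_) j
        · exact beta_self h s.1.2.2.1
        · exact (s.2.1.2 j').2.2
        · exact h.refl (s.2.1.2 i').2.2
        · exact s.2.2.ff i' j'
      ef := fun i j => by
        refine Fin.cases ?_ (fun i' => ?_) i <;> refine Fin.cases ?_ (fun j' => ?_) j
        · simpa using s.1.2.2.2
        · rw [if_neg (Ne.symm (Fin.succ_ne_zero j'))]
          exact (s.2.1.2 j').2.1
        · rw [if_neg (Fin.succ_ne_zero i')]
          exact h.refl (s.2.1.1 i').2.2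
        · have := s.2.2.ef i' j'
          simp only [Fin.succ_inj]
          exact this }⟩
  left_inv t := by
    apply Subtype.ext
    apply Prod.ext
    · exact Fin.cons_self_tail t.1.1
    · exact Fin.cons_self_tail t.1.2
  right_inv s := by
    obtain ⟨⟨⟨u, v⟩, hp⟩, ⟨⟨e, f⟩, hef⟩⟩ := s
    rfl

lemma card_T_zero : Nat.card (T β N 0) = 1 := by
  haveI : Unique (T β N 0) :=
    { default := ⟨(Fin.elim0, Fin.elim0), ⟨fun i => i.elim0, fun i => i.elim0, fun i => i.elim0, fun i => i.elim0, fun i => i.elim0⟩⟩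
      uniq := fun t => by
        apply Subtype.ext
        apply Prod.ext
        · funext i; exact i.elim0
        · funext i; exact i.elim0 }
  exact Nat.card_unique

lemma card_T_succ [Finite F] [Finite V] (h : Fm β N τ ν ε) (m : ℕ) (c : ℕ)
    (hc : ∀ u v, IsPair β N u v → Nat.card (T (res β (pperp β u v)) (fun w => N w) m) = c) :
    Nat.card (T β N (m + 1)) = Nat.card (Pair β N) * c := by
  rw [Nat.card_congr (famEquiv h m)]
  exact card_sigma_const (fun a => inferInstance) c (fun p => hc _ _ p.2)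

end fam

end CfsgH9.CountHyp
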