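import Mathlib
import Cfsg.Agent.H9.CountHyp

set_option autoImplicit false

/-! Orders of isometry groups: the recursion along hyperbolic pairs. -/

namespace CfsgH9.CountHyp

open CfsgH9.Witt

variable {F V : Type*} [Field F] [AddCommGroup V] [Module F V] {σ : F →+* F}

/-- the isometry group, as a type -/
def G (β : V →ₛₗ[σ] V →ₗ[F] F) (N : V → F) : Type _ := {g : V ≃ₗ[F] V // Isom β N g}

instance finite_G [Finite V] (β : V →ₛₗ[σ] V →ₗ[F] F) (N : V → F) : Finite (G β N) := by
  unfold G
  haveI : Finite (V ≃ₗ[F] V) := Finite.of_injective (fun g : V ≃ₗ[F] V => (g : V → V)) DFunLike.coe_injective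
  infer_instance

variable {β : V →ₛₗ[σ] V →ₗ[F] F} {N : V → F} {τ : F →+ F} {ν : F → F} {ε : F}

lemma isom_trans {g k : V ≃ₗ[F] V} (hg : Isom β N g) (hk : Isom β N k) : Isom β N (g.trans k) :=
  ⟨fun u v => by rw [LinearEquiv.trans_apply, LinearEquiv.trans_apply, hk.1, hg.1],
    fun u => by rw [LinearEquiv.trans_apply, hk.2, hg.2]⟩

lemma isom_symm {g : V ≃ₗ[F] V} (hg : Isom β N g) : Isom β N g.symm :=
  ⟨fun u v => by rw [← hg.1, LinearEquiv.apply_symm_apply, LinearEquiv.apply_symm_apply],
    fun u => by rw [← hg.2, LinearEquiv.apply_symm_apply]⟩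

/-- Witt's theorem for pairs -/
lemma exists_isom_pair [FiniteDimensional F V] (h : Fm β N τ ν ε) {u v u' v' : V} (hp : IsPair β N u v)
    (hp' : IsPair β N u' v') : ∃ g : V ≃ₗ[F] V, Isom β N g ∧ g u = u' ∧ g v = v' := by
  have hne : ∀ {u v : V}, IsPair β N u v → u ≠ 0 := by
    rintro u v hp rfl
    have h1 := hp.2.2
    rw [map_zero] at h1
    exact zero_ne_one h1
  have hP0 : Pres β N (⊥ : Submodule F V) LinearMap.id :=
    ⟨fun _ _ _ _ => rfl, fun _ _ => rfl, fun _ _ h => h⟩
  obtain ⟨f1, hf1, -, hf1u⟩ := h.step hP0 (w := u) (w' := u') (by simpa using hne hp) (by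
    intro x hx
    rw [Submodule.mem_bot] at hx
    rw [hx, map_zero]
    exact (hne hp').symm) (by
    intro x hx
    rw [Submodule.mem_bot] at hx
    rw [hx, map_zero, map_zero, map_zero]) (by rw [hp.1, hp'.1])
  have hvn : v ∉ (⊥ : Submodule F V) ⊔ Submodule.span F {u} := by
    rw [bot_sup_eq, Submodule.mem_span_singleton]
    rintro ⟨c, hc⟩
    have h1 := hp.2.2
    rw [← hc, map_smul, beta_self h hp.1, smul_zero] at h1
    exact zero_ne_one h1
  obtain ⟨f2, hf2, hf2U, hf2v⟩ := h.step hf1 (w := v) (w' := v') hvn (by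
    intro x hx hxv
    rw [bot_sup_eq] at hx
    obtain ⟨c, rfl⟩ := Submodule.mem_span_singleton.1 hx
    rw [map_smul, hf1u] at hxv
    have h1 := hp'.2.2
    rw [← hxv, map_smul, beta_self h hp'.1, smul_zero] at h1
    exact zero_ne_one h1) (by
    intro x hx
    rw [bot_sup_eq] at hx
    obtain ⟨c, rfl⟩ := Submodule.mem_span_singleton.1 hx
    rw [map_smul, hf1u, map_smul, map_smul, pair_swap h hp, pair_swap h hp']) (by rw [hp.2.1, hp'.2.1])
  obtain ⟨g, hg, hgf⟩ := h.extend _ _ f2 le_rfl hf2
  refine ⟨g, hg, ?_, ?_⟩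
  · rw [hgf u (Submodule.mem_sup_left (Submodule.mem_sup_right (Submodule.mem_span_singleton_self u))),
      hf2U u (Submodule.mem_sup_right (Submodule.mem_span_singleton_self u)), hf1u]
  · rw [hgf v (Submodule.mem_sup_right (Submodule.mem_span_singleton_self v)), hf2v]

/-- restriction to the perp of a fixed pair -/
def restr {u v : V} (g : V ≃ₗ[F] V) (hg : Isom β N g) (hu : g u = u) (hv : g v = v) :
    pperp β u v ≃ₗ[F] pperp β u v where
  toFun w := ⟨g w, by
    constructor
    · show β u (g w) = 0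
      have h1 := hg.1 u w
      rw [hu] at h1
      rw [h1]
      exact w.2.1
    · show β v (g w) = 0
      have h1 := hg.1 v w
      rw [hv] at h1
      rw [h1]
      exact w.2.2⟩
  map_add' x y := by ext; simp
  map_smul' c x := by ext; simp
  invFun w := ⟨g.symm w, by
    constructor
    · show β u (g.symm w) = 0
      rw [← hg.1, hu, LinearEquiv.apply_symm_apply]
      exact w.2.1
    · show β v (g.symm w) = 0
      rw [← hg.1, hv, LinearEquiv.apply_symm_apply]
      exact w.2.2⟩
  left_inv w := by ext; simp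
  right_inv w := by ext; simp

/-- extension by the identity -/
noncomputable def extn (h : Fm β N τ ν ε) {u v : V} (hp : IsPair β N u v) (k : pperp β u v ≃ₗ[F] pperp β u v) : V ≃ₗ[F] V :=
  ((splitEquiv h hp).trans (LinearEquiv.prodCongr (LinearEquiv.refl F (F × F)) k)).trans (splitEquiv h hp).symm

lemma extn_apply (h : Fm β N τ ν ε) {u v : V} (hp : IsPair β N u v) (k : pperp β u v ≃ₗ[F] pperp β u v) (a b : F)
    (w : pperp β u v) : extn h hp k (a • u + b • v + w) = a • u + b • v + k w := by
  have h1 : (splitEquiv h hp) (a • u + b • v + w) = ((a, b), w) := by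
    rw [← splitEquiv_symm_apply h hp ((a, b), w), LinearEquiv.apply_symm_apply]
  rw [extn, LinearEquiv.trans_apply, LinearEquiv.trans_apply, h1]
  rfl

lemma exists_coords (h : Fm β N τ ν ε) {u v : V} (hp : IsPair β N u v) (x : V) :
    ∃ (a b : F) (w : pperp β u v), x = a • u + b • v + w :=
  ⟨_, _, ((splitEquiv h hp) x).2, by
    have := (splitEquiv h hp).symm_apply_apply x
    rw [splitEquiv_symm_apply] at this
    exact this.symm⟩

lemma beta_coords (h : Fm β N τ ν ε) {u v : V} (hp : IsPair β N u v) (a b a' b' : F) (w w' : pperp β u v) :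
    β (a • u + b • v + w) (a' • u + b' • v + w') = σ a * b' + ε * σ b * a' + β w w' := by
  have hw1 : β u w' = 0 := w'.2.1
  have hw2 : β v w' = 0 := w'.2.2
  have hw3 : β w u = 0 := h.refl w.2.1
  have hw4 : β w v = 0 := h.refl w.2.2
  simp only [map_add, LinearMap.add_apply, LinearMap.map_smulₛₗ, LinearMap.smul_apply, map_smul, smul_eq_mul,
    RingHom.id_apply, hp.2.2, pair_swap h hp, beta_self h hp.1, beta_self h hp.2.1, hw1, hw2, hw3, hw4]
  ring

lemma norm_coords (h : Fm β N τ ν ε) {u v : V} (hp : IsPair β N u v) (a b : F) (w : pperp β u v) :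
    N (a • u + b • v + w) = τ (σ a * b) + N w := by
  have e1 : β (a • u) (b • v) = σ a * b := by
    simp only [LinearMap.map_smulₛₗ, LinearMap.smul_apply, map_smul, smul_eq_mul, hp.2.2, RingHom.id_apply]
    ring
  have hw1 : β u w = 0 := w.2.1
  have hw2 : β v w = 0 := w.2.2
  have e2 : β (a • u + b • v) w = 0 := by
    simp only [LinearMap.map_smulₛₗ, LinearMap.smul_apply, map_add, LinearMap.add_apply, hw1, hw2, smul_zero, add_zero]
  rw [h.add, h.add, h.smul, h.smul, hp.1, hp.2.1, e1, e2, map_zero]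
  ring

lemma extn_isom (h : Fm β N τ ν ε) {u v : V} (hp : IsPair β N u v) {k : pperp β u v ≃ₗ[F] pperp β u v}
    (hk : Isom (res β (pperp β u v)) (fun w => N w) k) : Isom β N (extn h hp k) := by
  constructor
  · intro x y
    obtain ⟨a, b, w, rfl⟩ := exists_coords h hp x
    obtain ⟨a', b', w', rfl⟩ := exists_coords h hp y
    rw [extn_apply, extn_apply, beta_coords h hp, beta_coords h hp]
    congr 1
    exact hk.1 w w'
  · intro x
    obtain ⟨a, b, w, rfl⟩ := exists_coords h hp x
    rw [extn_apply, norm_coords h hp, norm_coords h hp]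
    congr 1
    exact hk.2 w

/-- the stabiliser of a pair is the isometry group of the perp -/
noncomputable def stabEquiv (h : Fm β N τ ν ε) {u v : V} (hp : IsPair β N u v) :
    {g : G β N // g.1 u = u ∧ g.1 v = v} ≃ G (res β (pperp β u v)) (fun w => N w) where
  toFun g := ⟨restr g.1.1 g.1.2 g.2.1 g.2.2, fun x y => g.1.2.1 x y, fun x => g.1.2.2 x⟩
  invFun k := ⟨⟨extn h hp k.1, extn_isom h hp k.2⟩, by
    constructor
    · have := extn_apply h hp k.1 1 0 0
      simpa using this
    · have := extn_apply h hp k.1 0 1 0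
      simpa using this⟩
  left_inv g := by
    apply Subtype.ext
    apply Subtype.ext
    ext x
    obtain ⟨a, b, w, rfl⟩ := exists_coords h hp x
    show extn h hp _ _ = _
    rw [extn_apply, map_add, map_add, map_smul, map_smul, g.2.1, g.2.2]
    rfl
  right_inv k := by
    apply Subtype.ext
    ext w
    show extn h hp k.1 w = k.1 w
    have := extn_apply h hp k.1 0 0 w
    simpa using this

/-- the recursion for orders -/
theorem card_G [Finite F] [Finite V] (h : Fm β N τ ν ε) {u v : V} (hp : IsPair β N u v) :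
    Nat.card (G β N) = Nat.card (Pair β N) * Nat.card (G (res β (pperp β u v)) (fun w => N w)) := by
  haveI : Module.Finite F V := Module.Finite.of_finite
  let π : G β N → Pair β N := fun g => ⟨(g.1 u, g.1 v), by
    refine ⟨?_, ?_, ?_⟩
    · rw [g.2.2]; exact hp.1
    · rw [g.2.2]; exact hp.2.1
    · rw [g.2.1]; exact hp.2.2⟩
  rw [← Nat.card_congr (Equiv.sigmaFiberEquiv π)]
  refine card_sigma_const (fun a => inferInstance) _ ?_
  intro p
  rw [← Nat.card_congr (stabEquiv h hp)]
  obtain ⟨g0, hg0, hgu, hgv⟩ := exists_isom_pair h hp p.2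
  refine Nat.card_congr
    { toFun := fun g => ⟨⟨g.1.1.trans g0.symm, isom_trans g.1.2 (isom_symm hg0)⟩, ?_⟩
      invFun := fun g => ⟨⟨g.1.1.trans g0, isom_trans g.1.2 hg0⟩, ?_⟩
      left_inv := ?_
      right_inv := ?_ }
  · have h1 : (g.1.1 u, g.1.1 v) = p.1 := congrArg Subtype.val g.2
    have h2 : g.1.1 u = p.1.1 := congrArg Prod.fst h1
    have h3 : g.1.1 v = p.1.2 := congrArg Prod.snd h1
    constructor
    · rw [LinearEquiv.trans_apply, h2, ← hgu, LinearEquiv.symm_apply_apply]
    · rw [LinearEquiv.trans_apply, h3, ← hgv, LinearEquiv.symm_apply_apply]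
  · apply Subtype.ext
    apply Prod.ext
    · show g0 (g.1.1 u) = p.1.1
      rw [g.2.1, hgu]
    · show g0 (g.1.1 v) = p.1.2
      rw [g.2.2, hgv]
  · intro g
    apply Subtype.ext
    apply Subtype.ext
    ext x
    simp
  · intro g
    apply Subtype.ext
    apply Subtype.ext
    ext x
    simp

/-- existence of pairs -/
lemma exists_pair [FiniteDimensional F V] (h : Fm β N τ ν ε) {u : V} (hu0 : u ≠ 0) (hu : N u = 0) :
    ∃ v, IsPair β N u v := by
  obtain ⟨v, hv⟩ : ∃ v, β u v ≠ 0 := by
    by_contra hcon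
    push Not at hcon
    exact hu0 (h.nondeg u hcon)
  have hε : ε ≠ 0 := by
    intro h0
    have h1 := h.herm v u
    rw [h0, zero_mul] at h1
    exact hv h1
  obtain ⟨v1, hv1⟩ : ∃ v1, v1 = (β u v)⁻¹ • v := ⟨_, rfl⟩
  have h1 : β u v1 = 1 := by rw [hv1, map_smul, smul_eq_mul, inv_mul_cancel₀ hv]
  obtain ⟨d, hd⟩ := h.surj 0 v1
  rw [Fm.zero' h, zero_sub] at hd
  refine ⟨v1 + (d / ε) • u, hu, ?_, ?_⟩
  · rw [h.add, h.smul, hu, mul_zero, add_zero, map_smul, smul_eq_mul, h.herm u v1, h1, map_one, mul_one,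
      div_mul_cancel₀ _ hε, hd, add_neg_cancel]
  · rw [map_add, h1, map_smul, beta_self h hu, smul_zero, add_zero]

lemma exists_pair_of_zc [Finite V] [FiniteDimensional F V] (h : Fm β N τ ν ε) (hz : 1 < zc N) : ∃ u v, IsPair β N u v := by
  have : ∃ u : V, u ≠ 0 ∧ N u = 0 := by
    by_contra hcon
    push Not at hcon
    have h1 : zc N = 1 := by
      rw [zc]
      haveI : Unique {v : V // N v = 0} :=
        { default := ⟨0, Fm.zero' h⟩
          uniq := fun v => by
            apply Subtype.ext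
            by_contra hne
            exact hcon v.1 hne v.2 }
      exact Nat.card_unique
    omega
  obtain ⟨u, hu0, hu⟩ := this
  obtain ⟨v, hv⟩ := exists_pair h hu0 hu
  exact ⟨u, v, hv⟩

/-- the number of pairs in terms of the perp -/
lemma card_pair' [Finite F] [Finite V] (h : Fm β N τ ν ε) {u v : V} (hp : IsPair β N u v) :
    Nat.card (Pair β N) = (zc N - 1) * (kap τ * Nat.card (pperp β u v)) := by
  have h1 := card_pair h
  rw [card_perp h hp] at h1
  have hF : 0 < Nat.card F ^ 2 := pow_pos Nat.card_pos 2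
  apply Nat.eq_of_mul_eq_mul_right hF
  rw [h1]; ring

end CfsgH9.CountHyp
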