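import Mathlib
import Cfsg.Agent.H9.CountIsom

set_option autoImplicit false

/-! Orders of isometry groups: closed forms. -/

namespace CfsgH9.CountHyp

open CfsgH9.Witt

universe u v

section alt

lemma kap_zero {F : Type*} [Field F] [Finite F] : kap (0 : F →+ F) = Nat.card F := by
  rw [kap]
  exact Nat.card_congr (Equiv.subtypeUnivEquiv (fun x => rfl))

lemma kap_id {F : Type*} [Field F] [Finite F] : kap (AddMonoidHom.id F) = 1 := by
  rw [kap]
  haveI : Unique {c : F // (AddMonoidHom.id F) c = 0} :=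
    { default := ⟨0, rfl⟩
      uniq := fun c => Subtype.ext c.2 }
  exact Nat.card_unique

lemma card_G_of_finrank_zero {F : Type*} {V : Type*} [Field F] [AddCommGroup V] [Module F V] [FiniteDimensional F V]
    {σ : F →+* F} {β : V →ₛₗ[σ] V →ₗ[F] F} {N : V → F} (hV : Module.finrank F V = 0) : Nat.card (G β N) = 1 := by
  haveI : Subsingleton V := Module.finrank_zero_iff.1 hV
  haveI : Unique (G β N) :=
    { default := ⟨LinearEquiv.refl F V, fun _ _ => rfl, fun _ => rfl⟩
      uniq := fun g => by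
        apply Subtype.ext
        ext x
        exact Subsingleton.elim _ _ }
  exact Nat.card_unique

/-- symplectic groups -/
theorem card_G_alt {F : Type u} [Field F] [Finite F] (m : ℕ) :
    ∀ {V : Type v} [AddCommGroup V] [Module F V] [Finite V] {β : V →ₛₗ[RingHom.id F] V →ₗ[F] F} {ε : F},
      Fm β (fun _ => (0 : F)) 0 (fun _ => 0) ε → Module.finrank F V = 2 * m →
      Nat.card (G β (fun _ => (0 : F))) =
        Nat.card F ^ (m ^ 2) * ∏ i ∈ Finset.range m, (Nat.card F ^ (2 * (i + 1)) - 1) := by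
  induction m with
  | zero =>
    intro V _ _ _ β ε h hV
    haveI : Module.Finite F V := Module.Finite.of_finite
    rw [card_G_of_finrank_zero hV]
    simp
  | succ m ih =>
    intro V _ _ _ β ε h hV
    haveI : Module.Finite F V := Module.Finite.of_finite
    haveI : Nontrivial V := Module.nontrivial_of_finrank_pos (R := F) (by omega)
    obtain ⟨u, hu⟩ := exists_ne (0 : V)
    obtain ⟨v, hp⟩ := exists_pair h hu rfl
    have hW := finrank_perp h hp
    have h1 := card_G h hp
    rw [ih (fm_perp h hp) (by omega), card_pair' h hp, kap_zero] at h1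
    have hz : zc (fun _ : V => (0 : F)) = Nat.card V := by
      rw [zc]
      exact Nat.card_congr (Equiv.subtypeUnivEquiv (fun x => rfl))
    have hcV : Nat.card V = Nat.card F ^ (2 * (m + 1)) := by
      rw [card_eq_pow (F := F) (V := V), hV]
    have hcW : Nat.card (pperp β u v) = Nat.card F ^ (2 * m) := by
      rw [card_eq_pow (F := F) (V := pperp β u v)]
      congr 1
      omega
    rw [hz, hcV, hcW] at h1
    rw [h1, Finset.prod_range_succ]
    ring

end alt

section quad

variable {F : Type u} [Field F] [Finite F]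

/-- recursion of the number of zeros -/
lemma zc_rec {V : Type v} [AddCommGroup V] [Module F V] [Finite V] {σ : F →+* F} {β : V →ₛₗ[σ] V →ₗ[F] F} {N : V → F}
    {τ : F →+ F} {ν : F → F} {ε : F} (h : Fm β N τ ν ε) (hk : kap τ = 1) {u v : V} (hp : IsPair β N u v) {a b : ℕ}
    (hz : Nat.card F * zc N + a * Nat.card F = Nat.card V + b * Nat.card F) :
    Nat.card F * zc (fun w : pperp β u v => N w) + a = Nat.card (pperp β u v) + b := by
  have h1 := zc_split h hp
  rw [card_perp h hp, h1, hk, one_mul] at hz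
  have hF : 0 < Nat.card F := Nat.card_pos
  obtain ⟨c, hc⟩ : ∃ c, Nat.card F = c + 1 := ⟨Nat.card F - 1, by omega⟩
  rw [hc, Nat.add_sub_cancel] at hz
  rw [hc]
  have h2 : (c + 1) * ((c + 1) * zc (fun w : pperp β u v => N w) + a) = (c + 1) * (Nat.card (pperp β u v) + b) := by
    nlinarith
  exact Nat.eq_of_mul_eq_mul_left (by omega) h2

/-- product for the plus type -/
def Pplus (q : ℕ) (m : ℕ) : ℕ := ∏ i ∈ Finset.range m, ((q ^ (i + 1) - 1) * (q ^ i + 1) * q ^ (2 * i))

lemma Pplus_succ (q m : ℕ) : Pplus q (m + 1) = Pplus q m * ((q ^ (m + 1) - 1) * (q ^ m + 1) * q ^ (2 * m)) :=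
  Finset.prod_range_succ _ _

lemma Pplus_closed (q m : ℕ) (hm : 1 ≤ m) :
    Pplus q m = 2 * q ^ (m * (m - 1)) * (q ^ m - 1) * ∏ i ∈ Finset.range (m - 1), (q ^ (2 * (i + 1)) - 1) := by
  obtain ⟨k, rfl⟩ : ∃ k, m = k + 1 := ⟨m - 1, by omega⟩
  rw [Nat.add_sub_cancel]
  clear hm
  induction k with
  | zero => simp [Pplus]; ring
  | succ k ih =>
    rw [Pplus_succ, ih, Finset.prod_range_succ]
    have h1 : q ^ (2 * (k + 1)) - 1 = (q ^ (k + 1) - 1) * (q ^ (k + 1) + 1) := by
      have : q ^ (2 * (k + 1)) = q ^ (k + 1) * q ^ (k + 1) := by ring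
      rw [this]
      have := Nat.mul_self_sub_mul_self_eq (q ^ (k + 1)) 1
      rw [mul_one] at this
      rw [this]; ring
    rw [h1]
    ring

/-- orthogonal groups of plus type -/
theorem card_G_plus (m : ℕ) :
    ∀ {V : Type v} [AddCommGroup V] [Module F V] [Finite V] {σ : F →+* F} {β : V →ₛₗ[σ] V →ₗ[F] F} {N : V → F}
      {τ : F →+ F} {ν : F → F} {ε : F}, Fm β N τ ν ε → kap τ = 1 → Module.finrank F V = 2 * m →
      Nat.card F * zc N + Nat.card F ^ m = Nat.card V + Nat.card F * Nat.card F ^ m →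
      Nat.card (G β N) = Pplus (Nat.card F) m := by
  induction m with
  | zero =>
    intro V _ _ _ σ β N τ ν ε h hk hV hz
    haveI : Module.Finite F V := Module.Finite.of_finite
    rw [card_G_of_finrank_zero hV]
    simp [Pplus]
  | succ m ih =>
    intro V _ _ _ σ β N τ ν ε h hk hV hz
    haveI : Module.Finite F V := Module.Finite.of_finite
    have hq : 1 < Nat.card F := Finite.one_lt_card
    have hcV : Nat.card V = Nat.card F ^ (2 * (m + 1)) := by
      rw [card_eq_pow (F := F) (V := V), hV]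
    have hzv : zc N = (Nat.card F ^ (m + 1) - 1) * (Nat.card F ^ m + 1) + 1 := by
      rw [hcV] at hz
      have hpos : 0 < Nat.card F ^ (m + 1) := pow_pos (by omega) _
      obtain ⟨c, hc⟩ : ∃ c, Nat.card F ^ (m + 1) = c + 1 := ⟨Nat.card F ^ (m + 1) - 1, by omega⟩
      have h1 : Nat.card F * zc N = Nat.card F * (c * (Nat.card F ^ m + 1) + 1) := by
        have h2 : Nat.card F ^ (2 * (m + 1)) = (Nat.card F ^ (m + 1)) * (Nat.card F ^ (m + 1)) := by ring
        have h3 : Nat.card F * Nat.card F ^ m = c + 1 := by rw [← hc]; ring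
        rw [h2, hc] at hz
        nlinarith
      rw [hc, Nat.add_sub_cancel]
      exact Nat.eq_of_mul_eq_mul_left (by omega) h1
    have hpos' : 0 < (Nat.card F ^ (m + 1) - 1) * (Nat.card F ^ m + 1) := by
      apply Nat.mul_pos
      · have := Nat.one_lt_pow (n := m + 1) (by omega) hq
        omega
      · omega
    obtain ⟨u, v, hp⟩ := exists_pair_of_zc h (by omega)
    have hW := finrank_perp h hp
    have h1 := card_G h hp
    rw [ih (fm_perp h hp) hk (by omega), card_pair' h hp, hk, one_mul, hzv, Nat.add_sub_cancel] at h1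
    · have hcW : Nat.card (pperp β u v) = Nat.card F ^ (2 * m) := by
        rw [card_eq_pow (F := F) (V := pperp β u v)]
        congr 1
        omega
      rw [h1, hcW, Pplus_succ]
      ring
    · refine zc_rec h hk hp ?_
      rw [show Nat.card F ^ m * Nat.card F = Nat.card F ^ (m + 1) by ring,
        show Nat.card F * Nat.card F ^ m * Nat.card F = Nat.card F * Nat.card F ^ (m + 1) by ring]
      exact hz

/-- orthogonal groups of minus type: recursion -/
def Pminus (q : ℕ) (m : ℕ) : ℕ := ∏ i ∈ Finset.range m, ((q ^ (i + 2) + 1) * (q ^ (i + 1) - 1) * q ^ (2 * (i + 1)))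

lemma Pminus_closed (q m : ℕ) (hm : 1 ≤ m) :
    Pminus q (m - 1) * (2 * (q + 1)) =
      2 * q ^ (m * (m - 1)) * (q ^ m + 1) * ∏ i ∈ Finset.range (m - 1), (q ^ (2 * (i + 1)) - 1) := by
  obtain ⟨k, rfl⟩ : ∃ k, m = k + 1 := ⟨m - 1, by omega⟩
  rw [Nat.add_sub_cancel]
  clear hm
  induction k with
  | zero => simp [Pminus]
  | succ k ih =>
    have h0 : Pminus q (k + 1) = Pminus q k * ((q ^ (k + 2) + 1) * (q ^ (k + 1) - 1) * q ^ (2 * (k + 1))) :=
      Finset.prod_range_succ _ _
    rw [h0, Finset.prod_range_succ]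
    have h1 : q ^ (2 * (k + 1)) - 1 = (q ^ (k + 1) - 1) * (q ^ (k + 1) + 1) := by
      have : q ^ (2 * (k + 1)) = q ^ (k + 1) * q ^ (k + 1) := by ring
      rw [this]
      have := Nat.mul_self_sub_mul_self_eq (q ^ (k + 1)) 1
      rw [mul_one] at this
      rw [this]; ring
    rw [h1]
    calc Pminus q k * ((q ^ (k + 2) + 1) * (q ^ (k + 1) - 1) * q ^ (2 * (k + 1))) * (2 * (q + 1))
        = (Pminus q k * (2 * (q + 1))) * ((q ^ (k + 2) + 1) * (q ^ (k + 1) - 1) * q ^ (2 * (k + 1))) := by ring
      _ = _ := by rw [ih]; ring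

end quad

end CfsgH9.CountHyp
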