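import Mathlib
import Cfsg.Agent.H9.SigmaField
import Cfsg.Agent.H9.WittInst

set_option autoImplicit false

/-! Orthogonal bases for hermitian and symmetric forms. -/

namespace CfsgH9.Ort

variable {F V : Type*} [Field F] [AddCommGroup V] [Module F V] {σ : F →+* F}
variable {β : V →ₛₗ[σ] V →ₗ[F] F}

/-- orthogonal families of non-isotropic vectors -/
structure Orth (β : V →ₛₗ[σ] V →ₗ[F] F) {k : ℕ} (e : Fin k → V) : Prop where
  ne : ∀ i, β (e i) (e i) ≠ 0
  orth : ∀ i j, i ≠ j → β (e i) (e j) = 0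

/-- non-alternating condition -/
def NA (β : V →ₛₗ[σ] V →ₗ[F] F) : Prop := ∀ x y, β x y ≠ 0 → ∃ a b : F, β (a • x + b • y) (a • x + b • y) ≠ 0

lemma na_of_two (hS : ∀ x y, σ (β x y) = β y x) (hσ : σ = RingHom.id F) (h2 : (2 : F) ≠ 0) : NA β := by
  intro x y hxy
  by_contra hcon
  push Not at hcon
  have h1 := hcon 1 0
  have h3 := hcon 0 1
  have h4 := hcon 1 1
  have h5 : β y x = β x y := by
    rw [← hS x y]
    exact RingHom.congr_fun hσ _
  simp only [one_smul, zero_smul, add_zero, zero_add, map_add, LinearMap.add_apply] at h1 h3 h4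
  rw [h1, h3, h5] at h4
  apply hxy
  have h6 : 2 * β x y = 0 := by linear_combination h4
  exact (mul_eq_zero.1 h6).resolve_left h2

lemma na_of_ne (hS : ∀ x y, σ (β x y) = β y x) (hσ : σ ≠ RingHom.id F) : NA β := by
  intro x y hxy
  by_contra hcon
  push Not at hcon
  obtain ⟨a, ha⟩ : ∃ a, σ a ≠ a := by
    by_contra h
    push Not at h
    exact hσ (RingHom.ext h)
  have h1 := hcon 1 0
  have h3 := hcon 0 1
  have h4 := hcon 1 1
  have h5 := hcon a 1
  simp only [one_smul, zero_smul, add_zero, zero_add, map_add, LinearMap.add_apply, map_smul,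
    LinearMap.map_smulₛₗ, LinearMap.smul_apply, smul_eq_mul] at h1 h3 h4 h5
  rw [h1, h3] at h4 h5
  apply hxy
  have h6 : (σ a - a) * β x y = 0 := by linear_combination h5 - a * h4
  exact (mul_eq_zero.1 h6).resolve_left (sub_ne_zero.2 ha)

lemma Orth.linearIndependent {k : ℕ} {e : Fin k → V} (h : Orth β e) : LinearIndependent F e := by
  rw [Fintype.linearIndependent_iff]
  intro g hg i
  have h1 := congrArg (β (e i)) hg
  rw [map_sum, map_zero, Finset.sum_eq_single i] at h1
  · rw [map_smul, smul_eq_mul] at h1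
    exact (mul_eq_zero.1 h1).resolve_right (h.ne i)
  · intro j _ hj
    rw [map_smul, h.orth i j (Ne.symm hj), smul_zero]
  · intro h; exact absurd (Finset.mem_univ i) h

/-- extension of an orthogonal family -/
lemma Orth.exists_next [FiniteDimensional F V] (hS : ∀ x y, σ (β x y) = β y x) (hB : ∀ x, (∀ y, β x y = 0) → x = 0)
    (hna : NA β) {k : ℕ} {e : Fin k → V} (h : Orth β e) (hk : k < Module.finrank F V) :
    ∃ w, (∀ i, β (e i) w = 0) ∧ β w w ≠ 0 := by
  let L : V →ₗ[F] (Fin k → F) := LinearMap.pi fun i => β (e i)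
  have hL : ∀ w, L w = 0 ↔ ∀ i, β (e i) w = 0 := fun w => funext_iff
  have hker : LinearMap.ker L ≠ ⊥ := by
    intro h0
    have h1 := LinearMap.finrank_le_finrank_of_injective (LinearMap.ker_eq_bot.1 h0)
    rw [Module.finrank_fintype_fun_eq_card, Fintype.card_fin] at h1
    omega
  obtain ⟨w, hw, hw0⟩ := (Submodule.ne_bot_iff _).1 hker
  rw [LinearMap.mem_ker, hL] at hw
  have hwe : ∀ i, β w (e i) = 0 := fun i => by rw [← hS, hw, map_zero]
  obtain ⟨v, hv⟩ : ∃ v, β w v ≠ 0 := by
    by_contra hcon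
    push Not at hcon
    exact hw0 (hB w hcon)
  -- project v
  set v' := v - ∑ i, (β (e i) v / β (e i) (e i)) • e i with hv'
  have h1 : ∀ i, β (e i) v' = 0 := by
    intro i
    rw [hv', map_sub, map_sum, Finset.sum_eq_single i]
    · rw [map_smul, smul_eq_mul, div_mul_cancel₀ _ (h.ne i), sub_self]
    · intro j _ hj
      rw [map_smul, h.orth i j (Ne.symm hj), smul_zero]
    · intro h; exact absurd (Finset.mem_univ i) h
  have h3 : β w v' ≠ 0 := by
    rw [hv', map_sub, map_sum, Finset.sum_eq_zero, sub_zero]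
    · exact hv
    · intro j _
      rw [map_smul, hwe, smul_zero]
  obtain ⟨a, b, hab⟩ := hna w v' h3
  exact ⟨_, fun i => by rw [map_add, map_smul, map_smul, hw, h1, smul_zero, smul_zero, add_zero], hab⟩

lemma Orth.snoc (hS : ∀ x y, σ (β x y) = β y x) {k : ℕ} {e : Fin k → V} (h : Orth β e) {w : V}
    (hw : ∀ i, β (e i) w = 0) (hww : β w w ≠ 0) : Orth β (Fin.snoc e w : Fin (k + 1) → V) := by
  constructor
  · intro i
    refine Fin.lastCases ?_ (fun j => ?_) i
    · rw [Fin.snoc_last]; exact hww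
    · rw [Fin.snoc_castSucc]; exact h.ne j
  · intro i j
    refine Fin.lastCases ?_ (fun i' => ?_) i
    · refine Fin.lastCases ?_ (fun j' => ?_) j
      · intro h; exact absurd rfl h
      · intro _
        rw [Fin.snoc_last, Fin.snoc_castSucc, ← hS, hw, map_zero]
    · refine Fin.lastCases ?_ (fun j' => ?_) j
      · intro _
        rw [Fin.snoc_last, Fin.snoc_castSucc, hw]
      · intro hij
        rw [Fin.snoc_castSucc, Fin.snoc_castSucc]
        exact h.orth i' j' (fun h => hij (by rw [h]))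

/-- orthonormal bases for hermitian forms -/
theorem exists_orthonormal [Finite F] [FiniteDimensional F V] (hσ : σ ≠ RingHom.id F) (hσ2 : ∀ a, σ (σ a) = a)
    (hS : ∀ x y, σ (β x y) = β y x) (hB : ∀ x, (∀ y, β x y = 0) → x = 0) (k : ℕ) (hk : k ≤ Module.finrank F V) :
    ∃ e : Fin k → V, Orth β e ∧ ∀ i, β (e i) (e i) = 1 := by
  induction k with
  | zero => exact ⟨Fin.elim0, ⟨fun i => i.elim0, fun i => i.elim0⟩, fun i => i.elim0⟩
  | succ k ih =>
    obtain ⟨e, he, he1⟩ := ih (by omega)
    obtain ⟨w, hw, hww⟩ := he.exists_next hS hB (na_of_ne hS hσ) (by omega)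
    obtain ⟨c, hc⟩ := SF.norm_surj (CfsgH9.Witt.eqv_ne hσ hσ2) (fun a => hσ2 a) (b := (β w w)⁻¹) (by
      show σ (β w w)⁻¹ = _
      rw [map_inv₀, hS])
    have hc' : c * σ c = (β w w)⁻¹ := hc
    have h1 : β (c • w) (c • w) = 1 := by
      simp only [LinearMap.map_smulₛₗ, LinearMap.smul_apply, map_smul, smul_eq_mul]
      have : σ c * (c * β w w) = c * σ c * β w w := by ring
      first
        | rw [this, hc', inv_mul_cancel₀ hww]
        | (rw [show c * (σ c * β w w) = c * σ c * β w w by ring, hc', inv_mul_cancel₀ hww])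
    refine ⟨Fin.snoc e (c • w), he.snoc hS (fun i => by rw [map_smul, hw, smul_zero]) (by rw [h1]; exact one_ne_zero), ?_⟩
    intro i
    refine Fin.lastCases ?_ (fun j => ?_) i
    · rw [Fin.snoc_last]; exact h1
    · rw [Fin.snoc_castSucc]; exact he1 j


lemma card_odd [Fintype F] (h2 : (2 : F) ≠ 0) : Fintype.card F % 2 = 1 := by
  apply FiniteField.odd_card_of_char_ne_two
  intro h
  apply h2
  have h1 : ((2 : ℕ) : F) = 0 := by rw [← h]; exact ringChar.Nat.cast_ringChar
  exact_mod_cast h1

/-- over a finite field of odd order, a binary diagonal form represents everything -/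
lemma binary_repr [Finite F] (h2 : (2 : F) ≠ 0) {a b : F} (ha : a ≠ 0) (hb : b ≠ 0) (c : F) :
    ∃ x y : F, a * x ^ 2 + b * y ^ 2 = c := by
  haveI := Fintype.ofFinite F
  obtain ⟨x, y, hxy⟩ := FiniteField.exists_root_sum_quadratic (R := F)
    (f := Polynomial.C a * Polynomial.X ^ 2) (g := Polynomial.C b * Polynomial.X ^ 2 - Polynomial.C c)
    (by rw [Polynomial.degree_C_mul_X_pow 2 ha]; rfl)
    (by
      rw [Polynomial.degree_sub_eq_left_of_degree_lt]
      · rw [Polynomial.degree_C_mul_X_pow 2 hb]; rfl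
      · rw [Polynomial.degree_C_mul_X_pow 2 hb]
        exact lt_of_le_of_lt Polynomial.degree_C_le (by norm_num)) (card_odd h2)
  refine ⟨x, y, ?_⟩
  simp only [Polynomial.eval_mul, Polynomial.eval_C, Polynomial.eval_pow, Polynomial.eval_X, Polynomial.eval_sub] at hxy
  linear_combination hxy

/-- symmetric forms over finite fields of odd order : orthonormal families of any size smaller than the dimension -/
theorem exists_on_symm [Finite F] [FiniteDimensional F V] (h2 : (2 : F) ≠ 0) (hσ : σ = RingHom.id F)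
    (hS : ∀ x y, σ (β x y) = β y x) (hB : ∀ x, (∀ y, β x y = 0) → x = 0) (k : ℕ) (hk : k < Module.finrank F V) :
    ∃ e : Fin k → V, Orth β e ∧ ∀ i, β (e i) (e i) = 1 := by
  induction k with
  | zero => exact ⟨Fin.elim0, ⟨fun i => i.elim0, fun i => i.elim0⟩, fun i => i.elim0⟩
  | succ k ih =>
    obtain ⟨e, he, he1⟩ := ih (by omega)
    obtain ⟨w, hw, hww⟩ := he.exists_next hS hB (na_of_two hS hσ h2) (by omega)
    obtain ⟨v, hv, hvv⟩ := (he.snoc hS hw hww).exists_next hS hB (na_of_two hS hσ h2) (by omega)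
    have hve : ∀ i, β (e i) v = 0 := fun i => by
      have := hv (Fin.castSucc i)
      rwa [Fin.snoc_castSucc] at this
    have hwv : β w v = 0 := by
      have := hv (Fin.last k)
      rwa [Fin.snoc_last] at this
    have hvw : β v w = 0 := by rw [← hS, hwv, map_zero]
    obtain ⟨x, y, hxy⟩ := binary_repr h2 hww hvv 1
    have hσa : ∀ a, σ a = a := fun a => RingHom.congr_fun hσ a
    have h1 : β (x • w + y • v) (x • w + y • v) = 1 := by
      simp only [map_add, LinearMap.add_apply, LinearMap.map_smulₛₗ, LinearMap.smul_apply, map_smul, smul_eq_mul, hvw,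
        hwv, hσa, RingHom.id_apply]
      linear_combination hxy
    refine ⟨Fin.snoc e (x • w + y • v), he.snoc hS (fun i => by
      rw [map_add, map_smul, map_smul, hw, hve, smul_zero, smul_zero, add_zero]) (by rw [h1]; exact one_ne_zero), ?_⟩
    intro i
    refine Fin.lastCases ?_ (fun j => ?_) i
    · rw [Fin.snoc_last]; exact h1
    · rw [Fin.snoc_castSucc]; exact he1 j

/-- non-squares form one class -/
lemma nonsq_mul [Finite F] (h2 : (2 : F) ≠ 0) {a b : F} (ha : ¬ IsSquare a) (hb : ¬ IsSquare b) : ∃ c, c ≠ 0 ∧ b = c ^ 2 * a := by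
  haveI := Fintype.ofFinite F
  have ha0 : a ≠ 0 := by rintro rfl; exact ha ⟨0, by ring⟩
  have hb0 : b ≠ 0 := by rintro rfl; exact hb ⟨0, by ring⟩
  have hF : ringChar F ≠ 2 := by
    intro h
    apply h2
    have h1 : ((2 : ℕ) : F) = 0 := by rw [← h]; exact ringChar.Nat.cast_ringChar
    exact_mod_cast h1
  have h1 : IsSquare (b * a) := by
    classical
    have e1 := FiniteField.pow_dichotomy hF ha0
    have e2 := FiniteField.pow_dichotomy hF hb0
    rw [FiniteField.isSquare_iff hF (mul_ne_zero hb0 ha0), mul_pow]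
    rcases e1 with e1 | e1
    · exact absurd ((FiniteField.isSquare_iff hF ha0).2 e1) ha
    rcases e2 with e2 | e2
    · exact absurd ((FiniteField.isSquare_iff hF hb0).2 e2) hb
    rw [e1, e2]; ring
  obtain ⟨c, hc⟩ := h1
  refine ⟨c / a, ?_, ?_⟩
  · intro h
    rw [div_eq_zero_iff] at h
    rcases h with h | h
    · rw [h, mul_zero] at hc
      exact mul_ne_zero hb0 ha0 hc
    · exact ha0 h
  · field_simp
    linear_combination hc

end CfsgH9.Ort
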