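import Mathlib
import Cfsg.Agent.H9.Orders
import Cfsg.Agent.H9.Ort

set_option autoImplicit false

/-! Orders of isometry groups: anisotropic bases and the remaining types. -/

namespace CfsgH9.CountHyp

open CfsgH9.Witt

universe u v

section vec

variable {F V : Type*} [Field F] [AddCommGroup V] [Module F V] {σ : F →+* F}
variable {β : V →ₛₗ[σ] V →ₗ[F] F} {N : V → F} {τ : F →+ F} {ν : F → F} {ε : F}

/-- Witt's theorem for vectors -/
lemma exists_isom_vec [FiniteDimensional F V] (h : Fm β N τ ν ε) {x y : V} (hx : x ≠ 0) (hy : y ≠ 0) (hxy : N y = N x) :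
    ∃ g : V ≃ₗ[F] V, Isom β N g ∧ g x = y := by
  have hP0 : Pres β N (⊥ : Submodule F V) LinearMap.id :=
    ⟨fun _ _ _ _ => rfl, fun _ _ => rfl, fun _ _ h => h⟩
  obtain ⟨f1, hf1, -, hf1u⟩ := h.step hP0 (w := x) (w' := y) (by simpa using hx) (by
    intro x hx
    rw [Submodule.mem_bot] at hx
    rw [hx, map_zero]
    exact hy.symm) (by
    intro x hx
    rw [Submodule.mem_bot] at hx
    rw [hx, map_zero, map_zero, map_zero]) hxy
  obtain ⟨g, hg, hgf⟩ := h.extend _ _ f1 le_rfl hf1
  exact ⟨g, hg, by rw [hgf x (Submodule.mem_sup_right (Submodule.mem_span_singleton_self x)), hf1u]⟩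

/-- orbit-stabiliser for vectors -/
theorem card_G_vec [Finite F] [Finite V] (h : Fm β N τ ν ε) {x0 : V} (hx0 : x0 ≠ 0) :
    Nat.card (G β N) = Nat.card {x : V // x ≠ 0 ∧ N x = N x0} * Nat.card {g : G β N // g.1 x0 = x0} := by
  haveI : Module.Finite F V := Module.Finite.of_finite
  let π : G β N → {x : V // x ≠ 0 ∧ N x = N x0} := fun g => ⟨g.1 x0, by
    rw [Ne, LinearEquiv.map_eq_zero_iff]; exact hx0, g.2.2 x0⟩
  rw [← Nat.card_congr (Equiv.sigmaFiberEquiv π)]
  refine card_sigma_const (fun a => inferInstance) _ ?_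
  intro p
  obtain ⟨g0, hg0, hgu⟩ := exists_isom_vec h hx0 p.2.1 p.2.2
  refine Nat.card_congr
    { toFun := fun g => ⟨⟨g.1.1.trans g0.symm, isom_trans g.1.2 (isom_symm hg0)⟩, ?_⟩
      invFun := fun g => ⟨⟨g.1.1.trans g0, isom_trans g.1.2 hg0⟩, ?_⟩
      left_inv := ?_
      right_inv := ?_ }
  · have h1 : g.1.1 x0 = p.1 := congrArg Subtype.val g.2
    rw [LinearEquiv.trans_apply, h1, ← hgu, LinearEquiv.symm_apply_apply]
  · apply Subtype.ext
    show g0 (g.1.1 x0) = p.1
    rw [g.2, hgu]
  · intro g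
    apply Subtype.ext
    apply Subtype.ext
    ext x
    simp
  · intro g
    apply Subtype.ext
    apply Subtype.ext
    ext x
    simp

/-- dimension one -/
lemma card_G_one [FiniteDimensional F V] (h : Fm β N τ ν ε) (hV : Module.finrank F V = 1) {x0 : V} (hx0 : x0 ≠ 0) :
    Nat.card (G β N) = Nat.card {c : F // c ≠ 0 ∧ N (c • x0) = N x0} := by
  have hspan : ∀ x : V, ∃ c : F, c • x0 = x := by
    intro x
    exact (finrank_eq_one_iff_of_nonzero' x0 hx0).1 hV x
  have hinj : ∀ {c d : F}, c • x0 = d • x0 → c = d := fun h => smul_left_injective F hx0 h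
  have hdiag : ∀ c, N (c • x0) = N x0 → σ c * c * β x0 x0 = β x0 x0 := by
    intro c hc
    have h1 := h.diag _ _ hc
    have h2 : β (c • x0) (c • x0) = σ c * c * β x0 x0 := by
      simp only [LinearMap.map_smulₛₗ, LinearMap.smul_apply, map_smul, smul_eq_mul, RingHom.id_apply]
      ring
    rw [← h2, h1]
  have hisom : ∀ (c : F) (hc : c ≠ 0), N (c • x0) = N x0 → Isom β N (LinearEquiv.smulOfNeZero F V c hc) := by
    intro c hc hN
    constructor
    · intro x y
      obtain ⟨a, rfl⟩ := hspan x
      obtain ⟨b, rfl⟩ := hspan y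
      show β (c • a • x0) (c • b • x0) = β (a • x0) (b • x0)
      simp only [LinearMap.map_smulₛₗ, LinearMap.smul_apply, map_smul, smul_eq_mul, RingHom.id_apply]
      linear_combination (σ a * b) * hdiag c hN
    · intro x
      obtain ⟨a, rfl⟩ := hspan x
      show N (c • a • x0) = N (a • x0)
      rw [smul_comm, h.smul a (c • x0), hN, h.smul]
  refine Nat.card_congr
    { toFun := fun g => ⟨(hspan (g.1 x0)).choose, ?_, ?_⟩
      invFun := fun c => ⟨LinearEquiv.smulOfNeZero F V c.1 c.2.1, hisom _ c.2.1 c.2.2⟩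
      left_inv := ?_
      right_inv := ?_ }
  · intro h0
    have h1 := (hspan (g.1 x0)).choose_spec
    rw [h0, zero_smul] at h1
    exact hx0 ((LinearEquiv.map_eq_zero_iff g.1).1 h1.symm)
  · rw [(hspan (g.1 x0)).choose_spec]
    exact g.2.2 x0
  · intro g
    apply Subtype.ext
    ext x
    obtain ⟨a, rfl⟩ := hspan x
    show (hspan (g.1 x0)).choose • a • x0 = g.1 (a • x0)
    rw [smul_comm, (hspan (g.1 x0)).choose_spec, map_smul]
  · intro c
    apply Subtype.ext
    apply hinj
    exact (hspan _).choose_spec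

end vec

section quad

variable {F V : Type*} [Field F] [Finite F] [AddCommGroup V] [Module F V] [Finite V]

lemma card_sq_one (h2 : (2 : F) ≠ 0) (a : F) (ha : a ≠ 0) : Nat.card {c : F // c ≠ 0 ∧ c * c * a = a} = 2 := by
  rw [Nat.card_eq_two_iff]
  refine ⟨⟨1, one_ne_zero, by ring⟩, ⟨-1, neg_ne_zero.2 one_ne_zero, by ring⟩, ?_, ?_⟩
  · intro h
    have h1 : (1 : F) = -1 := congrArg Subtype.val h
    apply h2
    linear_combination h1
  · rw [Set.eq_univ_iff_forall]
    rintro ⟨c, hc0, hc⟩
    have h1 : (c - 1) * (c + 1) = 0 := by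
      have h3 : (c - 1) * (c + 1) * a = 0 := by linear_combination hc
      exact (mul_eq_zero.1 h3).resolve_right ha
    rcases mul_eq_zero.1 h1 with h | h
    · left
      exact Subtype.ext (sub_eq_zero.1 h)
    · right
      exact Subtype.ext (eq_neg_of_add_eq_zero_left h)

/-- the base case in dimension one -/
lemma card_G_quad_one (Q : QuadraticForm F V) (hQ : (QuadraticMap.polarBilin Q).Nondegenerate) (h2 : (2 : F) ≠ 0)
    (hV : Module.finrank F V = 1) : Nat.card (G (σ := RingHom.id F) (QuadraticMap.polarBilin Q) Q) = 2 := by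
  haveI : Module.Finite F V := Module.Finite.of_finite
  haveI : Nontrivial V := Module.nontrivial_of_finrank_pos (R := F) (by omega)
  obtain ⟨x0, hx0⟩ := exists_ne (0 : V)
  have hne : Q x0 ≠ 0 := by
    intro h0
    apply hx0
    apply hQ.1
    intro y
    obtain ⟨c, rfl⟩ := (finrank_eq_one_iff_of_nonzero' x0 hx0).1 hV y
    rw [QuadraticMap.polarBilin_apply_apply, QuadraticMap.polar_smul_right, QuadraticMap.polar_self, h0, smul_zero, smul_zero]
  rw [card_G_one (fm_quad Q hQ) hV hx0, ← card_sq_one h2 (Q x0) hne]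
  refine Nat.card_congr (Equiv.subtypeEquivRight fun c => ?_)
  rw [QuadraticMap.map_smul, smul_eq_mul]

lemma exists_sqrt (h2 : (2 : F) = 0) (a : F) : ∃ b, b ^ 2 = a := by
  haveI := Fintype.ofFinite F
  haveI : CharP F 2 := CharTwo.of_one_ne_zero_of_two_eq_zero one_ne_zero h2
  obtain ⟨b, hb⟩ := FiniteField.isSquare_of_char_two (F := F) (ringChar.eq F 2) a
  exact ⟨b, by rw [hb]; ring⟩

lemma quad_add (Q : QuadraticForm F V) (u v : V) : Q (u + v) = Q u + Q v + QuadraticMap.polar Q u v := by
  rw [QuadraticMap.polar]; ring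

/-- in dimension at least two there is an orthogonal vector -/
lemma exists_orth [FiniteDimensional F V] (Q : QuadraticForm F V) (hV : 2 ≤ Module.finrank F V) (x : V) :
    ∃ y, y ≠ 0 ∧ QuadraticMap.polar Q x y = 0 := by
  have h1 := LinearMap.finrank_range_add_finrank_ker (QuadraticMap.polarBilin Q x)
  have h2 : Module.finrank F (LinearMap.range (QuadraticMap.polarBilin Q x)) ≤ 1 := by
    have := Submodule.finrank_le (LinearMap.range (QuadraticMap.polarBilin Q x))
    rwa [Module.finrank_self] at this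
  have h3 : LinearMap.ker (QuadraticMap.polarBilin Q x) ≠ ⊥ := by
    intro h
    rw [h, finrank_bot] at h1
    omega
  obtain ⟨y, hy, hy0⟩ := (Submodule.ne_bot_iff _).1 h3
  exact ⟨y, hy0, hy⟩

lemma binary_surj (Q : QuadraticForm F V) (hV : 2 ≤ Module.finrank F V)
    (ha : ∀ v, Q v = 0 → v = 0) (c : F) : ∃ x, Q x = c := by
  haveI : Module.Finite F V := Module.Finite.of_finite
  haveI : Nontrivial V := Module.nontrivial_of_finrank_pos (R := F) (by omega)
  obtain ⟨x, hx⟩ := exists_ne (0 : V)
  have hQx : Q x ≠ 0 := fun h => hx (ha x h)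
  by_cases h2 : (2 : F) = 0
  · obtain ⟨b, hb⟩ := exists_sqrt h2 (c / Q x)
    exact ⟨b • x, by rw [QuadraticMap.map_smul, smul_eq_mul, ← pow_two, hb, div_mul_cancel₀ _ hQx]⟩
  · obtain ⟨y, hy, hxy⟩ := exists_orth Q hV x
    have hQy : Q y ≠ 0 := fun h => hy (ha y h)
    obtain ⟨s, t, hst⟩ := CfsgH9.Ort.binary_repr h2 hQx hQy c
    refine ⟨s • x + t • y, ?_⟩
    rw [quad_add, QuadraticMap.map_smul, QuadraticMap.map_smul, QuadraticMap.polar_smul_left, QuadraticMap.polar_smul_right,
      hxy, smul_zero, smul_zero, smul_eq_mul, smul_eq_mul]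
    linear_combination hst

/-- reflections as linear equivalences -/
noncomputable def refl (Q : QuadraticForm F V) (w : V) (hw : Q w ≠ 0) : V ≃ₗ[F] V :=
  LinearEquiv.ofInvolutive
    (LinearMap.id - LinearMap.toSpanSingleton F V ((Q w)⁻¹ • w) ∘ₗ (QuadraticMap.polarBilin Q w)) (by
      intro x
      simp only [LinearMap.sub_apply, LinearMap.id_apply, LinearMap.comp_apply, LinearMap.toSpanSingleton_apply,
        QuadraticMap.polarBilin_apply_apply, QuadraticMap.polar_sub_right, QuadraticMap.polar_smul_right,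
        QuadraticMap.polar_self, smul_eq_mul, nsmul_eq_mul]
      have h1 : (2 : ℕ) * Q w * (Q w)⁻¹ = 2 := by
        push_cast
        rw [mul_assoc, mul_inv_cancel₀ hw, mul_one]
      rw [sub_sub, ← add_smul]
      have h2 : QuadraticMap.polar Q w x + (QuadraticMap.polar Q w x - QuadraticMap.polar Q w x * ((Q w)⁻¹ * ((2 : ℕ) * Q w))) = 0 := by
        have h3 : (Q w)⁻¹ * ((2 : ℕ) * Q w) = 2 := by rw [mul_comm]; exact h1
        rw [h3]; ring
      rw [h2, zero_smul, sub_zero])

lemma refl_apply (Q : QuadraticForm F V) (w : V) (hw : Q w ≠ 0) (x : V) :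
    refl Q w hw x = x - (QuadraticMap.polar Q w x * (Q w)⁻¹) • w := by
  show x - _ = _
  rw [LinearMap.comp_apply, LinearMap.toSpanSingleton_apply, smul_smul]
  rfl

lemma refl_norm (Q : QuadraticForm F V) (w : V) (hw : Q w ≠ 0) (x : V) : Q (refl Q w hw x) = Q x := by
  rw [refl_apply, sub_eq_add_neg, ← neg_smul, quad_add, QuadraticMap.map_smul, QuadraticMap.polar_smul_right,
    QuadraticMap.polar_comm Q x w, smul_eq_mul, smul_eq_mul]
  field_simp
  ring

lemma isom_of_norm (Q : QuadraticForm F V) {g : V ≃ₗ[F] V} (hg : ∀ x, Q (g x) = Q x) :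
    Isom (σ := RingHom.id F) (QuadraticMap.polarBilin Q) Q g := by
  refine ⟨fun u v => ?_, hg⟩
  rw [QuadraticMap.polarBilin_apply_apply, QuadraticMap.polarBilin_apply_apply, QuadraticMap.polar, QuadraticMap.polar,
    ← map_add, hg, hg, hg]

/-- the base case in dimension two -/
theorem card_G_binary (Q : QuadraticForm F V) (hQ : (QuadraticMap.polarBilin Q).Nondegenerate)
    (hV : Module.finrank F V = 2) (ha : ∀ v, Q v = 0 → v = 0) :
    Nat.card (G (σ := RingHom.id F) (QuadraticMap.polarBilin Q) Q) = 2 * (Nat.card F + 1) := by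
  haveI : Module.Finite F V := Module.Finite.of_finite
  haveI : Nontrivial V := Module.nontrivial_of_finrank_pos (R := F) (by omega)
  have h := fm_quad Q hQ
  -- the stabiliser of a non-zero vector
  have hstab : ∀ x0 : V, x0 ≠ 0 →
      Nat.card {g : G (σ := RingHom.id F) (QuadraticMap.polarBilin Q) Q // g.1 x0 = x0} = 2 := by
    intro x0 hx0
    obtain ⟨w, hw0, hxw⟩ := exists_orth Q hV.ge x0
    have hQw : Q w ≠ 0 := fun h => hw0 (ha w h)
    have hwx : QuadraticMap.polar Q w x0 = 0 := by rw [QuadraticMap.polar_comm]; exact hxw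
    obtain ⟨y, hy⟩ : ∃ y, QuadraticMap.polar Q w y ≠ 0 := by
      by_contra hcon
      push Not at hcon
      exact hw0 (hQ.1 w hcon)
    -- x0, y span
    have hspan : ∀ z : V, ∃ a b : F, z = a • x0 + b • y := by
      have hli : LinearIndependent F ![x0, y] := by
        rw [LinearIndependent.pair_iff]
        intro s t hst
        have h1 : QuadraticMap.polar Q w (s • x0 + t • y) = 0 := by rw [hst, QuadraticMap.polar_zero_right]
        rw [QuadraticMap.polar_add_right, QuadraticMap.polar_smul_right, QuadraticMap.polar_smul_right, hwx, smul_zero,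
          zero_add, smul_eq_mul] at h1
        have ht := (mul_eq_zero.1 h1).resolve_right hy
        subst ht
        rw [zero_smul, add_zero] at hst
        exact ⟨(smul_eq_zero.1 hst).resolve_right hx0, rfl⟩
      have htop : Submodule.span F (Set.range ![x0, y]) = ⊤ := by
        apply hli.span_eq_top_of_card_eq_finrank
        rw [Fintype.card_fin, hV]
      intro z
      have hz : z ∈ Submodule.span F (Set.range ![x0, y]) := by rw [htop]; trivial
      have hrange : Set.range ![x0, y] = {x0, y} := by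
        ext t
        constructor
        · rintro ⟨i, rfl⟩
          fin_cases i
          · left; rfl
          · right; rfl
        · rintro (rfl | rfl)
          · exact ⟨0, rfl⟩
          · exact ⟨1, rfl⟩
      rw [hrange] at hz
      obtain ⟨a, b, hab⟩ := Submodule.mem_span_pair.1 hz
      exact ⟨a, b, hab.symm⟩
    -- vectors orthogonal to x0 are multiples of w
    have horth : ∀ z, QuadraticMap.polar Q x0 z = 0 → ∃ t : F, z = t • w := by
      intro z hz
      have h1 := LinearMap.finrank_range_add_finrank_ker (QuadraticMap.polarBilin Q x0)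
      have hne : QuadraticMap.polarBilin Q x0 ≠ 0 := by
        intro h0
        exact hx0 (hQ.1 x0 (fun y => by rw [h0]; rfl))
      have h2 : Module.finrank F (LinearMap.range (QuadraticMap.polarBilin Q x0)) = 1 := by
        rw [LinearMap.range_eq_top.2 (LinearMap.surjective hne), finrank_top, Module.finrank_self]
      have h3 : Module.finrank F (LinearMap.ker (QuadraticMap.polarBilin Q x0)) = 1 := by omega
      have hw' : (⟨w, hxw⟩ : LinearMap.ker (QuadraticMap.polarBilin Q x0)) ≠ 0 := fun h => hw0 (congrArg Subtype.val h)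
      obtain ⟨c, hc⟩ := (finrank_eq_one_iff_of_nonzero' _ hw').1 h3 ⟨z, hz⟩
      exact ⟨c, (congrArg Subtype.val hc).symm⟩
    rw [Nat.card_eq_two_iff]
    have hr0 : refl Q w hQw x0 = x0 := by
      rw [refl_apply, hwx, zero_mul, zero_smul, sub_zero]
    refine ⟨⟨⟨LinearEquiv.refl F V, fun _ _ => rfl, fun _ => rfl⟩, rfl⟩,
      ⟨⟨refl Q w hQw, isom_of_norm Q (refl_norm Q w hQw)⟩, hr0⟩, ?_, ?_⟩
    · intro heq
      have h1 : (LinearEquiv.refl F V) = refl Q w hQw := congrArg (fun t => t.1.1) heq
      have h2 := congrArg (fun g : V ≃ₗ[F] V => g y) h1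
      simp only [LinearEquiv.refl_apply, refl_apply] at h2
      have h3 : (QuadraticMap.polar Q w y * (Q w)⁻¹) • w = 0 := by
        exact (sub_eq_self.1 h2.symm)
      rw [smul_eq_zero] at h3
      rcases h3 with h3 | h3
      · exact (mul_ne_zero hy (inv_ne_zero hQw)) h3
      · exact hw0 h3
    · rw [Set.eq_univ_iff_forall]
      rintro ⟨⟨g, hg⟩, hgx⟩
      have hgx' : g x0 = x0 := hgx
      have h1 : QuadraticMap.polar Q x0 (g y - y) = 0 := by
        have h3 := hg.1 x0 y
        rw [QuadraticMap.polarBilin_apply_apply, QuadraticMap.polarBilin_apply_apply, hgx'] at h3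
        rw [QuadraticMap.polar_sub_right, h3, sub_self]
      obtain ⟨t, ht⟩ := horth _ h1
      have hgy : g y = y + t • w := by rw [← ht]; abel
      have h3 := hg.2 y
      rw [hgy, quad_add, QuadraticMap.map_smul, QuadraticMap.polar_smul_right, smul_eq_mul, smul_eq_mul,
        QuadraticMap.polar_comm] at h3
      have h4 : t * (t * Q w + QuadraticMap.polar Q w y) = 0 := by linear_combination h3
      rcases mul_eq_zero.1 h4 with h5 | h5
      · left
        apply Subtype.ext
        apply Subtype.ext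
        ext z
        obtain ⟨a, b, rfl⟩ := hspan z
        show g _ = _
        rw [map_add, map_smul, map_smul, hgx', hgy, h5, zero_smul, add_zero]
        rfl
      · right
        apply Subtype.ext
        apply Subtype.ext
        ext z
        obtain ⟨a, b, rfl⟩ := hspan z
        show g _ = refl Q w hQw _
        rw [map_add, map_smul, map_smul, hgx', hgy, map_add, map_smul, map_smul, hr0, refl_apply]
        have h6 : t = -(QuadraticMap.polar Q w y * (Q w)⁻¹) := by
          field_simp
          linear_combination h5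
        rw [h6, neg_smul, sub_eq_add_neg]
  -- r
  obtain ⟨x1, hx1⟩ := exists_ne (0 : V)
  have hr : ∀ c : {c : F // c ≠ 0}, Nat.card {x : V // x ≠ 0 ∧ Q x = c.1} * 2 =
      Nat.card (G (σ := RingHom.id F) (QuadraticMap.polarBilin Q) Q) := by
    intro c
    obtain ⟨x0, hx0⟩ := binary_surj Q hV.ge ha c.1
    have hx00 : x0 ≠ 0 := by
      rintro rfl
      rw [QuadraticMap.map_zero] at hx0
      exact c.2 hx0.symm
    rw [card_G_vec h hx00, hstab x0 hx00, hx0]
  have e : {x : V // x ≠ 0} ≃ Σ c : {c : F // c ≠ 0}, {x : V // x ≠ 0 ∧ Q x = c.1} :=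
    { toFun := fun x => ⟨⟨Q x.1, fun h => x.2 (ha _ h)⟩, ⟨x.1, x.2, rfl⟩⟩
      invFun := fun p => ⟨p.2.1, p.2.2.1⟩
      left_inv := fun x => rfl
      right_inv := by
        rintro ⟨⟨c, hc⟩, ⟨x, hx, hxc⟩⟩
        have hxc' : Q x = c := hxc
        subst hxc'
        rfl }
  have hcV : Nat.card {x : V // x ≠ 0} = Nat.card F ^ 2 - 1 := by
    rw [← hV, ← card_eq_pow (F := F) (V := V)]
    haveI := Fintype.ofFinite V
    classical
    rw [Nat.card_eq_fintype_card, Nat.card_eq_fintype_card, Fintype.card_subtype_compl, Fintype.card_subtype_eq]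
  have hcF : Nat.card {x : F // x ≠ 0} = Nat.card F - 1 := by
    haveI := Fintype.ofFinite F
    classical
    rw [Nat.card_eq_fintype_card, Nat.card_eq_fintype_card, Fintype.card_subtype_compl, Fintype.card_subtype_eq]
  have h3 : Nat.card {x : V // x ≠ 0} * 2 = (Nat.card F - 1) * Nat.card (G (σ := RingHom.id F) (QuadraticMap.polarBilin Q) Q) := by
    have hc1 := hr ⟨1, one_ne_zero⟩
    rw [Nat.card_congr e, card_sigma_const (fun a => inferInstance) (Nat.card {x : V // x ≠ 0 ∧ Q x = (1 : F)}), hcF,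
      mul_assoc, hc1]
    intro c
    have h4 := hr c
    rw [← hc1] at h4
    exact Nat.eq_of_mul_eq_mul_right (by norm_num) h4
  rw [hcV] at h3
  have hq : 1 < Nat.card F := Finite.one_lt_card
  obtain ⟨k, hk⟩ : ∃ k, Nat.card F = k + 2 := ⟨Nat.card F - 2, by omega⟩
  rw [hk] at h3 ⊢
  have h4 : (k + 2) ^ 2 - 1 = (k + 1) * (k + 3) := by
    have : (k + 2) ^ 2 = (k + 1) * (k + 3) + 1 := by ring
    omega
  have h5 : k + 2 - 1 = k + 1 := by omega
  rw [h4, h5] at h3
  have h6 : (k + 1) * Nat.card (G (σ := RingHom.id F) (QuadraticMap.polarBilin Q) Q) = (k + 1) * (2 * (k + 2 + 1)) := by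
    rw [← h3]; ring
  exact Nat.eq_of_mul_eq_mul_left (by omega) h6

end quad

section types

variable {F : Type u} [Field F] [Finite F]

lemma res_fm_quad {V : Type v} [AddCommGroup V] [Module F V] (Q : QuadraticForm F V) (W : Submodule F V) :
    G (σ := RingHom.id F) (res (QuadraticMap.polarBilin Q) W) (fun w : W => Q w) =
      G (σ := RingHom.id F) (QuadraticMap.polarBilin (Q.comp W.subtype)) (Q.comp W.subtype) := rfl

lemma nondeg_perp {V : Type v} [AddCommGroup V] [Module F V] (Q : QuadraticForm F V)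
    (hQ : (QuadraticMap.polarBilin Q).Nondegenerate) {u v : V}
    (hp : IsPair (σ := RingHom.id F) (QuadraticMap.polarBilin Q) Q u v) :
    (QuadraticMap.polarBilin (Q.comp (pperp (σ := RingHom.id F) (QuadraticMap.polarBilin Q) u v).subtype)).Nondegenerate := by
  have h := fm_perp (fm_quad Q hQ) hp
  constructor
  · intro x hx
    exact h.nondeg x (fun y => hx y)
  · intro x hx
    refine h.nondeg x (fun y => ?_)
    have h1 := hx y
    exact h.refl h1

lemma zc_eq_one_iff {V : Type v} [AddCommGroup V] [Module F V] [Finite V] {N : V → F} (h0 : N 0 = 0) (hz : zc N = 1) :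
    ∀ v, N v = 0 → v = 0 := by
  intro v hv
  rw [zc, Nat.card_eq_one_iff_unique] at hz
  obtain ⟨hs, -⟩ := hz
  exact congrArg Subtype.val (@Subsingleton.elim _ hs ⟨v, hv⟩ ⟨0, h0⟩)

/-- orthogonal groups of minus type -/
theorem card_G_minus (m : ℕ) :
    ∀ {V : Type v} [AddCommGroup V] [Module F V] [Finite V] (Q : QuadraticForm F V),
      (QuadraticMap.polarBilin Q).Nondegenerate → Module.finrank F V = 2 * (m + 1) →
      Nat.card F * zc Q + Nat.card F * Nat.card F ^ (m + 1) = Nat.card V + Nat.card F ^ (m + 1) →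
      Nat.card (G (σ := RingHom.id F) (QuadraticMap.polarBilin Q) Q) = Pminus (Nat.card F) m * (2 * (Nat.card F + 1)) := by
  induction m with
  | zero =>
    intro V _ _ _ Q hQ hV hz
    have hcV : Nat.card V = Nat.card F ^ (2 * (0 + 1)) := by
      rw [card_eq_pow (F := F) (V := V), hV]
    have hz1 : zc Q = 1 := by
      rw [hcV] at hz
      have hq : 0 < Nat.card F := Nat.card_pos
      have h1 : Nat.card F * zc Q = Nat.card F * 1 := by
        have h2 : Nat.card F ^ (2 * (0 + 1)) = Nat.card F * Nat.card F ^ (0 + 1) := by ring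
        rw [h2] at hz
        have h3 : Nat.card F ^ (0 + 1) = Nat.card F * 1 := by ring
        rw [← h3]
        omega
      exact Nat.eq_of_mul_eq_mul_left hq h1
    rw [card_G_binary Q hQ hV (zc_eq_one_iff (QuadraticMap.map_zero Q) hz1)]
    simp [Pminus]
  | succ m ih =>
    intro V _ _ _ Q hQ hV hz
    haveI : Module.Finite F V := Module.Finite.of_finite
    have h := fm_quad Q hQ
    have hq : 1 < Nat.card F := Finite.one_lt_card
    have hcV : Nat.card V = Nat.card F ^ (2 * (m + 1 + 1)) := by
      rw [card_eq_pow (F := F) (V := V), hV]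
    have hzv : zc Q = (Nat.card F ^ (m + 2) + 1) * (Nat.card F ^ (m + 1) - 1) + 1 := by
      rw [hcV] at hz
      have hpos : 0 < Nat.card F ^ (m + 1) := pow_pos (by omega) _
      obtain ⟨c, hc⟩ : ∃ c, Nat.card F ^ (m + 1) = c + 1 := ⟨Nat.card F ^ (m + 1) - 1, by omega⟩
      have h1 : Nat.card F * zc Q = Nat.card F * ((Nat.card F ^ (m + 2) + 1) * c + 1) := by
        have h2 : Nat.card F ^ (2 * (m + 1 + 1)) = (Nat.card F * (c + 1)) * (Nat.card F * (c + 1)) := by
          rw [← hc]; ring
        have h3 : Nat.card F ^ (m + 2) = Nat.card F * (c + 1) := by rw [← hc]; ring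
        have h4 : Nat.card F ^ (m + 1 + 1) = Nat.card F * (c + 1) := by rw [← hc]; ring
        rw [h2, h4] at hz
        rw [h3]
        nlinarith
      rw [hc, Nat.add_sub_cancel]
      exact Nat.eq_of_mul_eq_mul_left (by omega) h1
    have hpos' : 0 < (Nat.card F ^ (m + 2) + 1) * (Nat.card F ^ (m + 1) - 1) := by
      apply Nat.mul_pos
      · omega
      · have := Nat.one_lt_pow (n := m + 1) (by omega) hq
        omega
    obtain ⟨u, v, hp⟩ := exists_pair_of_zc h (by omega)
    have hW := finrank_perp h hp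
    have h1 := card_G h hp
    have hz' := zc_rec h kap_id hp (a := Nat.card F * Nat.card F ^ (m + 1)) (b := Nat.card F ^ (m + 1)) (by
      rw [show Nat.card F * Nat.card F ^ (m + 1) * Nat.card F = Nat.card F * Nat.card F ^ (m + 1 + 1) by ring,
        show Nat.card F ^ (m + 1) * Nat.card F = Nat.card F ^ (m + 1 + 1) by ring]
      exact hz)
    have h5 := ih (Q.comp (pperp (σ := RingHom.id F) (QuadraticMap.polarBilin Q) u v).subtype) (nondeg_perp Q hQ hp)
      (by omega) hz'
    rw [res_fm_quad, h5, card_pair' h hp, kap_id, one_mul, hzv, Nat.add_sub_cancel] at h1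
    have hcW : Nat.card (pperp (σ := RingHom.id F) (QuadraticMap.polarBilin Q) u v) = Nat.card F ^ (2 * (m + 1)) := by
      rw [card_eq_pow (F := F) (V := pperp (σ := RingHom.id F) (QuadraticMap.polarBilin Q) u v)]
      congr 1
      omega
    have h0 : Pminus (Nat.card F) (m + 1) = Pminus (Nat.card F) m *
        ((Nat.card F ^ (m + 2) + 1) * (Nat.card F ^ (m + 1) - 1) * Nat.card F ^ (2 * (m + 1))) :=
      Finset.prod_range_succ _ _
    rw [h1, hcW, h0]
    ring

/-- orthogonal groups in odd dimension -/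
theorem card_G_odd (h2 : (2 : F) ≠ 0) (m : ℕ) :
    ∀ {V : Type v} [AddCommGroup V] [Module F V] [Finite V] (Q : QuadraticForm F V),
      (QuadraticMap.polarBilin Q).Nondegenerate → Module.finrank F V = 2 * m + 1 →
      Nat.card F * zc Q = Nat.card V →
      Nat.card (G (σ := RingHom.id F) (QuadraticMap.polarBilin Q) Q) =
        2 * Nat.card F ^ (m ^ 2) * ∏ i ∈ Finset.range m, (Nat.card F ^ (2 * (i + 1)) - 1) := by
  induction m with
  | zero =>
    intro V _ _ _ Q hQ hV hz
    rw [card_G_quad_one Q hQ h2 hV]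
    simp
  | succ m ih =>
    intro V _ _ _ Q hQ hV hz
    haveI : Module.Finite F V := Module.Finite.of_finite
    have h := fm_quad Q hQ
    have hq : 1 < Nat.card F := Finite.one_lt_card
    have hcV : Nat.card V = Nat.card F ^ (2 * (m + 1) + 1) := by
      rw [card_eq_pow (F := F) (V := V), hV]
    have hzv : zc Q = Nat.card F ^ (2 * (m + 1)) := by
      rw [hcV, pow_succ'] at hz
      exact Nat.eq_of_mul_eq_mul_left (by omega) hz
    have hgt : 1 < Nat.card F ^ (2 * (m + 1)) := Nat.one_lt_pow (by omega) hq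
    obtain ⟨u, v, hp⟩ := exists_pair_of_zc h (by omega)
    have hW := finrank_perp h hp
    have h1 := card_G h hp
    have hz' := zc_rec h kap_id hp (a := 0) (b := 0) (by rw [zero_mul, add_zero, add_zero]; exact hz)
    rw [add_zero, add_zero] at hz'
    have h5 := ih (Q.comp (pperp (σ := RingHom.id F) (QuadraticMap.polarBilin Q) u v).subtype) (nondeg_perp Q hQ hp)
      (by omega) hz'
    rw [res_fm_quad, h5, card_pair' h hp, kap_id, one_mul, hzv] at h1
    have hcW : Nat.card (pperp (σ := RingHom.id F) (QuadraticMap.polarBilin Q) u v) = Nat.card F ^ (2 * m + 1) := by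
      rw [card_eq_pow (F := F) (V := pperp (σ := RingHom.id F) (QuadraticMap.polarBilin Q) u v)]
      congr 1
      omega
    rw [h1, hcW, Finset.prod_range_succ]
    ring

end types

end CfsgH9.CountHyp
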