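import Mathlib

set_option autoImplicit false

/-! Non-degenerate alternating forms: symplectic bases, Witt's lemma. -/

namespace CfsgH9.Alt

variable {F V : Type*} [Field F] [AddCommGroup V] [Module F V]

/-- hyperbolic families -/
structure Hyp (B : LinearMap.BilinForm F V) {m : ℕ} (e f : Fin m → V) : Prop where
  ee : ∀ i j, B (e i) (e j) = 0
  ff : ∀ i j, B (f i) (f j) = 0
  ef : ∀ i j, B (e i) (f j) = if i = j then 1 else 0

variable {B : LinearMap.BilinForm F V}

lemma skew (hA : B.IsAlt) (x y : V) : B x y = - B y x := by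
  rw [hA.neg_eq y x]

lemma Hyp.fe {m : ℕ} {e f : Fin m → V} (h : Hyp B e f) (hA : B.IsAlt) (i j : Fin m) :
    B (f i) (e j) = if i = j then -1 else 0 := by
  rw [skew hA, h.ef]
  by_cases hij : i = j
  · subst hij; simp
  · rw [if_neg hij, if_neg (Ne.symm hij), neg_zero]

lemma Hyp.linearIndependent {m : ℕ} {e f : Fin m → V} (h : Hyp B e f) (hA : B.IsAlt) :
    LinearIndependent F (Sum.elim e f) := by
  rw [Fintype.linearIndependent_iff]
  intro g hg
  rw [Fintype.sum_sum_type] at hg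
  simp only [Sum.elim_inl, Sum.elim_inr] at hg
  intro i
  rcases i with i | i
  · have h1 := congrArg (fun v => B v (f i)) hg
    simp only [map_add, map_sum, map_smul, LinearMap.add_apply, LinearMap.smul_apply,
      LinearMap.zero_apply, map_zero, smul_eq_mul, LinearMap.sum_apply] at h1
    simpa [h.ef, h.ff] using h1
  · have h1 := congrArg (fun v => B v (e i)) hg
    simp only [map_add, map_sum, map_smul, LinearMap.add_apply, LinearMap.smul_apply,
      LinearMap.zero_apply, map_zero, smul_eq_mul, LinearMap.sum_apply] at h1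
    simpa [h.ee, h.fe hA] using h1

variable [FiniteDimensional F V]

lemma Hyp.le_finrank {m : ℕ} {e f : Fin m → V} (h : Hyp B e f) (hA : B.IsAlt) : 2 * m ≤ Module.finrank F V := by
  have := (h.linearIndependent hA).fintype_card_le_finrank
  rw [Fintype.card_sum, Fintype.card_fin] at this
  omega

lemma Hyp.extend (hB : ∀ x, x ≠ 0 → ∃ y, B x y ≠ 0) (hA : B.IsAlt) {m : ℕ} {e f : Fin m → V} (h : Hyp B e f)
    (hm : 2 * m < Module.finrank F V) : ∃ (e' f' : Fin (m + 1) → V), Hyp B e' f' := by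
  -- x orthogonal to all
  let L : V →ₗ[F] (Fin m ⊕ Fin m → F) := LinearMap.pi (fun i => B.flip (Sum.elim e f i))
  have hL : LinearMap.ker L ≠ ⊥ := LinearMap.ker_ne_bot_of_finrank_lt (by
    rw [Module.finrank_fintype_fun_eq_card, Fintype.card_sum, Fintype.card_fin]; omega)
  obtain ⟨x, hx, hx0⟩ := (Submodule.ne_bot_iff _).1 hL
  have hxe : ∀ i, B x (e i) = 0 := fun i => congrFun (show L x = 0 from hx) (Sum.inl i)
  have hxf : ∀ i, B x (f i) = 0 := fun i => congrFun (show L x = 0 from hx) (Sum.inr i)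
  obtain ⟨y0, hy0⟩ := hB x hx0
  set y := (B x y0)⁻¹ • y0 with hy
  have hxy : B x y = 1 := by rw [hy, map_smul, smul_eq_mul, inv_mul_cancel₀ hy0]
  set z := y - ∑ i, B (e i) y • f i + ∑ i, B (f i) y • e i with hz
  have hxz : B x z = 1 := by
    rw [hz, map_add, map_sub, map_sum, map_sum, hxy]
    simp [hxe, hxf]
  have hez : ∀ j, B (e j) z = 0 := by
    intro j
    rw [hz, map_add, map_sub, map_sum, map_sum]
    simp [h.ef, h.ee]
  have hfz : ∀ j, B (f j) z = 0 := by
    intro j
    rw [hz, map_add, map_sub, map_sum, map_sum]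
    simp [h.fe hA, h.ff]
  refine ⟨Fin.cons x e, Fin.cons z f, ?_, ?_, ?_⟩
  · intro i j
    refine Fin.cases ?_ (fun i => ?_) i <;> refine Fin.cases ?_ (fun j => ?_) j
    · simp [hA x]
    · simp [hxe]
    · simp [skew hA (e i) x, hxe]
    · simp [h.ee]
  · intro i j
    refine Fin.cases ?_ (fun i => ?_) i <;> refine Fin.cases ?_ (fun j => ?_) j
    · simp [hA z]
    · simp [skew hA z (f j), hfz]
    · simp [hfz]
    · simp [h.ff]
  · intro i j
    refine Fin.cases ?_ (fun i => ?_) i <;> refine Fin.cases ?_ (fun j => ?_) j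
    · simp [hxz]
    · simp [hxf, (Fin.succ_ne_zero j).symm]
    · simp [hez]
    · simp [h.ef]

theorem exists_hyp (hB : ∀ x, x ≠ 0 → ∃ y, B x y ≠ 0) (hA : B.IsAlt) :
    ∃ (m : ℕ) (e f : Fin m → V), Hyp B e f ∧ 2 * m = Module.finrank F V := by
  have key : ∀ k : ℕ, ∃ (m : ℕ) (e f : Fin m → V), Hyp B e f ∧ (2 * m = Module.finrank F V ∨ m = k) := by
    intro k
    induction k with
    | zero => exact ⟨0, Fin.elim0, Fin.elim0, ⟨fun i => i.elim0, fun i => i.elim0, fun i => i.elim0⟩, Or.inr rfl⟩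
    | succ k ih =>
      obtain ⟨m, e, f, h, hm | hm⟩ := ih
      · exact ⟨m, e, f, h, Or.inl hm⟩
      · by_cases h2 : 2 * m = Module.finrank F V
        · exact ⟨m, e, f, h, Or.inl h2⟩
        · have h3 := h.le_finrank hA
          obtain ⟨e', f', h'⟩ := h.extend hB hA (lt_of_le_of_ne h3 h2)
          exact ⟨m + 1, e', f', h', Or.inr (by rw [hm])⟩
  obtain ⟨m, e, f, h, hm | hm⟩ := key (Module.finrank F V)
  · exact ⟨m, e, f, h, hm⟩
  · refine ⟨m, e, f, h, ?_⟩
    have := h.le_finrank hA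
    omega

/-- symplectic basis -/
noncomputable def Hyp.basis {m : ℕ} {e f : Fin m → V} (h : Hyp B e f) (hA : B.IsAlt) (hm : 2 * m = Module.finrank F V) :
    Module.Basis (Fin m ⊕ Fin m) F V :=
  basisOfLinearIndependentOfCardEqFinrank' (Sum.elim e f) (h.linearIndependent hA) (by
    rw [Fintype.card_sum, Fintype.card_fin]; omega)

lemma Hyp.basis_apply {m : ℕ} {e f : Fin m → V} (h : Hyp B e f) (hA : B.IsAlt) (hm : 2 * m = Module.finrank F V)
    (i : Fin m ⊕ Fin m) : h.basis hA hm i = Sum.elim e f i := by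
  simp [Hyp.basis]

/-- the Gram function of a hyperbolic family -/
def gram (F : Type*) [Field F] (m : ℕ) : Fin m ⊕ Fin m → Fin m ⊕ Fin m → F
  | Sum.inl _, Sum.inl _ => 0
  | Sum.inl i, Sum.inr j => if i = j then 1 else 0
  | Sum.inr i, Sum.inl j => if i = j then -1 else 0
  | Sum.inr _, Sum.inr _ => 0

lemma Hyp.gram_eq {m : ℕ} {e f : Fin m → V} (h : Hyp B e f) (hA : B.IsAlt) (i j : Fin m ⊕ Fin m) :
    B (Sum.elim e f i) (Sum.elim e f j) = gram F m i j := by
  rcases i with i | i <;> rcases j with j | j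
  · exact h.ee i j
  · exact h.ef i j
  · exact h.fe hA i j
  · exact h.ff i j

/-- existence of a basis with the standard Gram matrix -/
theorem exists_basis (hB : ∀ x, x ≠ 0 → ∃ y, B x y ≠ 0) (hA : B.IsAlt) :
    ∃ (m : ℕ) (b : Module.Basis (Fin m ⊕ Fin m) F V), (∀ i j, B (b i) (b j) = gram F m i j) ∧
      2 * m = Module.finrank F V := by
  obtain ⟨m, e, f, h, hm⟩ := exists_hyp hB hA
  refine ⟨m, h.basis hA hm, ?_, hm⟩
  intro i j
  rw [h.basis_apply, h.basis_apply, h.gram_eq hA]

end CfsgH9.Alt
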