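import Mathlib
import Cfsg.Prelude.Def_GeometricClasses
import Cfsg.Agent.H9.Transv

set_option autoImplicit false

/-! Maximality of the similarity group of a symplectic form in SL. -/

namespace CfsgH9.MaxSymp

open Matrix Cfsg Cfsg.Geo CfsgH9.Tv

variable {ι : Type} [Fintype ι] [DecidableEq ι] {F : Type*} [Field F]

/-- two functionals non-vanishing on an additive subset have a common non-zero point -/
lemma two_nonzero {V : Type*} [AddCommGroup V] (φ ψ : V → F) (hφ : ∀ x y, φ (x + y) = φ x + φ y)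
    (hψ : ∀ x y, ψ (x + y) = ψ x + ψ y) (S : V → Prop) (hS : ∀ x y, S x → S y → S (x + y))
    (h1 : ∃ x, S x ∧ φ x ≠ 0) (h2 : ∃ y, S y ∧ ψ y ≠ 0) : ∃ z, S z ∧ φ z ≠ 0 ∧ ψ z ≠ 0 := by
  obtain ⟨x, hx, hφx⟩ := h1
  obtain ⟨y, hy, hψy⟩ := h2
  by_cases hψx : ψ x = 0
  · by_cases hφy : φ y = 0
    · refine ⟨x + y, hS x y hx hy, ?_, ?_⟩
      · rw [hφ, hφy, add_zero]; exact hφx
      · rw [hψ, hψx, zero_add]; exact hψy
    · exact ⟨y, hy, hφy, hψy⟩
  · exact ⟨x, hx, hφx, hψx⟩

section bilin

variable {f : (ι → F) → (ι → F) → F}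

lemma sum_left (hf : IsBilinearForm f) (x w : ι → F) : f x w = ∑ i, x i * f (Pi.single i 1) w := by
  have h0 : f 0 w = 0 := by
    have := hf.smul_left 0 0 w
    simpa using this
  have hsum : ∀ (s : Finset ι) (y : ι → ι → F), f (∑ i ∈ s, y i) w = ∑ i ∈ s, f (y i) w := by
    classical
    intro s y
    induction s using Finset.induction_on with
    | empty => simpa using h0
    | insert a s ha ih => rw [Finset.sum_insert ha, Finset.sum_insert ha, hf.add_left, ih]
  conv_lhs => rw [← Finset.univ_sum_single x]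
  rw [hsum]
  refine Finset.sum_congr rfl fun i _ => ?_
  have : (Pi.single i (x i) : ι → F) = x i • Pi.single i 1 := by
    rw [← Pi.single_smul, smul_eq_mul, mul_one]
  rw [this, hf.smul_left]

/-- the covector of `f(·, w)` -/
def cov (f : (ι → F) → (ι → F) → F) (w : ι → F) : ι → F := fun i => f (Pi.single i 1) w

lemma cov_dot (hf : IsBilinearForm f) (w x : ι → F) : cov f w ⬝ᵥ x = f x w := by
  rw [sum_left hf x w, dotProduct]
  exact Finset.sum_congr rfl fun i _ => mul_comm _ _

lemma cov_surj (hf : IsBilinearForm f) (hn : IsNondegenerateForm f) (a : ι → F) : ∃ w, cov f w = a := by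
  let L : (ι → F) →ₗ[F] (ι → F) :=
    { toFun := cov f
      map_add' := by intro x y; ext i; exact hf.add_right _ _ _
      map_smul' := by intro c x; ext i; exact hf.smul_right _ _ _ }
  have hinj : Function.Injective L := by
    rw [injective_iff_map_eq_zero]
    intro w hw
    by_contra hne
    obtain ⟨⟨x, hx⟩, -⟩ := hn w hne
    apply hx
    rw [← cov_dot hf]
    have : cov f w = 0 := hw
    rw [this, zero_dotProduct]
  exact (LinearMap.injective_iff_surjective.1 hinj) a

lemma form_right_inj (hf : IsBilinearForm f) (hn : IsNondegenerateForm f) {w w' : ι → F} (h : ∀ x, f x w = f x w') :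
    w = w' := by
  by_contra hne
  obtain ⟨⟨x, hx⟩, -⟩ := hn (w - w') (sub_ne_zero.2 hne)
  apply hx
  have h1 := hf.add_right x (w - w') w'
  rw [sub_add_cancel, h x] at h1
  exact right_eq_add.1 h1

/-- `g` acts as `x ↦ x + f(x,w) u` -/
def IsT (f : (ι → F) → (ι → F) → F) (g : GL ι F) (u w : ι → F) : Prop :=
  ∀ x, (g : Matrix ι ι F) *ᵥ x = x + f x w • u

lemma exists_IsT (hf : IsBilinearForm f) (u w : ι → F) (h : f u w = 0) :
    ∃ g : GL ι F, IsT f g u w ∧ (g : Matrix ι ι F).det = 1 := by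
  refine ⟨tv u (cov f w) (by rw [cov_dot hf, h]), ?_, det_tv _ _ _⟩
  intro x
  rw [tv_mulVec, cov_dot hf]

lemma IsT.unique {g g' : GL ι F} {u w : ι → F} (h : IsT f g u w) (h' : IsT f g' u w) : g = g' := by
  apply ext_mulVec
  intro x
  rw [h x, h' x]

/-- a subgroup containing all `IsT` elements contains SL -/
lemma mem_of_IsT (hf : IsBilinearForm f) (hn : IsNondegenerateForm f) {M : Subgroup (GL ι F)}
    (hM : ∀ u w, f u w = 0 → ∃ g ∈ M, IsT f g u w) (g : GL ι F) (hg : (g : Matrix ι ι F).det = 1) : g ∈ M := by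
  refine mem_of_tv ?_ g hg
  intro u a h
  obtain ⟨w, rfl⟩ := cov_surj hf hn a
  obtain ⟨g, hg, hgT⟩ := hM u w (by rw [← cov_dot hf]; exact h)
  have : tv u (cov f w) h = g := by
    apply ext_mulVec
    intro x
    rw [tv_mulVec, cov_dot hf, hgT x]
  rw [this]
  exact hg

end bilin

lemma inv_mulVec (g : GL ι F) (x : ι → F) :
    ((g⁻¹ : GL ι F) : Matrix ι ι F) *ᵥ ((g : Matrix ι ι F) *ᵥ x) = x := by
  rw [mulVec_mulVec, ← Units.val_mul, inv_mul_cancel, Units.val_one, one_mulVec]

lemma mulVec_inv (g : GL ι F) (x : ι → F) :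
    (g : Matrix ι ι F) *ᵥ (((g⁻¹ : GL ι F) : Matrix ι ι F) *ᵥ x) = x := by
  rw [mulVec_mulVec, ← Units.val_mul, mul_inv_cancel, Units.val_one, one_mulVec]

lemma mulVec_ne_zero (g : GL ι F) {x : ι → F} (hx : x ≠ 0) : (g : Matrix ι ι F) *ᵥ x ≠ 0 := by
  intro h
  apply hx
  rw [← inv_mulVec g x, h, mulVec_zero]

section symp

variable {f : (ι → F) → (ι → F) → F} (hf : IsSymplecticForm f)

include hf

lemma swap_zero {u v : ι → F} (h : f u v = 0) : f v u = 0 := by
  rw [hf.skew, h, neg_zero]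

lemma swap_ne {u v : ι → F} (h : f u v ≠ 0) : f v u ≠ 0 := fun h' => h (swap_zero hf h')

/-- symplectic transvection as similarity -/
lemma isom_IsT {u : ι → F} {c : F} {g : GL ι F} (h : IsT f g u (c • u)) (x y : ι → F) :
    f ((g : Matrix ι ι F) *ᵥ x) ((g : Matrix ι ι F) *ᵥ y) = f x y := by
  have hb := hf.bilinear
  rw [h x, h y]
  simp only [hb.add_left, hb.add_right, hb.smul_left, hb.smul_right, hf.alternating u]
  have := hf.skew u y
  rw [this]
  ring

/-- common point not orthogonal to two given ones -/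
lemma exists_common {u v : ι → F} (hu : u ≠ 0) (hv : v ≠ 0) : ∃ w, f u w ≠ 0 ∧ f v w ≠ 0 := by
  obtain ⟨z, -, h1, h2⟩ := two_nonzero (fun w => f u w) (fun w => f v w) (fun x y => hf.bilinear.add_right _ _ _)
    (fun x y => hf.bilinear.add_right _ _ _) (fun _ => True) (fun _ _ _ _ => trivial)
    (by obtain ⟨-, x, hx⟩ := hf.nondegenerate u hu; exact ⟨x, trivial, hx⟩)
    (by obtain ⟨-, x, hx⟩ := hf.nondegenerate v hv; exact ⟨x, trivial, hx⟩)
  exact ⟨z, h1, h2⟩

/-- if every `f(g⁻¹·,u)` is proportional to `f(·,gu)` then `g` is a similarity -/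
lemma similarity_of_prop {g : GL ι F}
    (h : ∀ u, ∃ l : F, ∀ v, f v u = l * f ((g : Matrix ι ι F) *ᵥ v) ((g : Matrix ι ι F) *ᵥ u)) :
    g ∈ similarityGroup f := by
  by_cases hz : ∀ u : ι → F, u = 0
  · refine ⟨1, fun u v => ?_⟩
    rw [hz u, hz v]
    simp
  push Not at hz
  obtain ⟨u0, hu0⟩ := hz
  choose l hl using h
  have hl0 : ∀ u, u ≠ 0 → l u ≠ 0 := by
    intro u hu h0
    obtain ⟨⟨x, hx⟩, -⟩ := hf.nondegenerate u hu
    apply hx
    rw [hl u x, h0, zero_mul]
  have heq : ∀ u v, f u v ≠ 0 → l u = l v := by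
    intro u v huv
    have h1 := hl u v
    have h2 := hl v u
    have h3 : f u v = l u * f ((g : Matrix ι ι F) *ᵥ u) ((g : Matrix ι ι F) *ᵥ v) := by
      rw [hf.skew u v, h1, hf.skew ((g : Matrix ι ι F) *ᵥ u)]
      ring
    have h4 : f ((g : Matrix ι ι F) *ᵥ u) ((g : Matrix ι ι F) *ᵥ v) ≠ 0 := by
      intro h0
      apply huv
      rw [h3, h0, mul_zero]
    rw [h3] at h2
    exact mul_right_cancel₀ h4 h2
  have hconst : ∀ u, u ≠ 0 → l u = l u0 := by
    intro u hu
    obtain ⟨w, h1, h2⟩ := exists_common hf hu hu0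
    rw [heq u w h1, heq u0 w h2]
  refine ⟨(Units.mk0 (l u0) (hl0 u0 hu0))⁻¹, ?_⟩
  intro u v
  by_cases hv : v = 0
  · subst hv
    have h0 : ∀ x, f x 0 = 0 := by
      intro x
      have := hf.bilinear.smul_right 0 x 0
      simpa using this
    rw [mulVec_zero, h0, h0, mul_zero]
  · rw [hl v u, hconst v hv, Units.val_inv_eq_inv_val, Units.val_mk0, inv_mul_cancel_left₀ (hl0 u0 hu0)]

variable {M : Subgroup (GL ι F)} (hM : similarityGroup f ⊓ specialLinear ι F ≤ M)

include hM

lemma stransv_mem (u : ι → F) (c : F) : ∃ g ∈ M, IsT f g u (c • u) ∧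
    (∀ x y, f ((g : Matrix ι ι F) *ᵥ x) ((g : Matrix ι ι F) *ᵥ y) = f x y) := by
  obtain ⟨g, hg, hdet⟩ := exists_IsT hf.bilinear u (c • u) (by rw [hf.bilinear.smul_right, hf.alternating, mul_zero])
  have hiso := isom_IsT hf hg
  refine ⟨g, hM ⟨⟨1, ?_⟩, ?_⟩, hg, hiso⟩
  · intro x y
    rw [hiso, Units.val_one, one_mul]
  · apply Units.ext
    exact hdet

omit hf hM in
lemma conj_IsT {g h : GL ι F} (hh : ∀ x y, f ((h : Matrix ι ι F) *ᵥ x) ((h : Matrix ι ι F) *ᵥ y) = f x y)
    {u w : ι → F} (hg : IsT f g u w) :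
    IsT f (h * g * h⁻¹) ((h : Matrix ι ι F) *ᵥ u) ((h : Matrix ι ι F) *ᵥ w) := by
  intro x
  have h1 := hg (((h⁻¹ : GL ι F) : Matrix ι ι F) *ᵥ x)
  rw [Units.val_mul, Units.val_mul, ← mulVec_mulVec, ← mulVec_mulVec, h1, mulVec_add, mulVec_smul, mulVec_inv]
  congr 2
  rw [← hh, mulVec_inv]

/-- moving the pair by an isometry: `w → w'` fixing `u` -/
lemma move {u w w' : ι → F} (h : ∃ g ∈ M, IsT f g u w) (huw : f u w = 0) (huw' : f u w' = 0) (hww : f w w' ≠ 0) :
    ∃ g ∈ M, IsT f g u w' := by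
  obtain ⟨g, hg, hgT⟩ := h
  obtain ⟨t, ht, htT, hiso⟩ := stransv_mem hf hM (w' - w) ((f w w')⁻¹)
  have hb := hf.bilinear
  have hd : ∀ x y z, f x (y - z) = f x y - f x z := by
    intro x y z
    have h1 := hb.add_right x (y - z) z
    rw [sub_add_cancel] at h1
    rw [h1]; ring
  have h1 : (t : Matrix ι ι F) *ᵥ u = u := by
    rw [htT u, hb.smul_right, hd, huw, huw']
    simp
  have h2 : (t : Matrix ι ι F) *ᵥ w = w' := by
    rw [htT w, hb.smul_right, hd, hf.alternating, sub_zero, inv_mul_cancel₀ hww]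
    simp
  have h3 := conj_IsT hiso hgT
  rw [h1, h2] at h3
  exact ⟨_, M.mul_mem (M.mul_mem ht hg) (M.inv_mem ht), h3⟩

/-- moving `u` -/
lemma move_vec {u u' : ι → F} (h : ∃ g ∈ M, ∃ w, f u w = 0 ∧ (∀ c : F, w ≠ c • u) ∧ IsT f g u w) (huu : f u u' ≠ 0) :
    ∃ g ∈ M, ∃ w, f u' w = 0 ∧ (∀ c : F, w ≠ c • u') ∧ IsT f g u' w := by
  obtain ⟨g, hg, w, hw, hwc, hgT⟩ := h
  obtain ⟨t, ht, htT, hiso⟩ := stransv_mem hf hM (u' - u) ((f u u')⁻¹)
  have hb := hf.bilinear
  have hd : ∀ x y z, f x (y - z) = f x y - f x z := by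
    intro x y z
    have h1 := hb.add_right x (y - z) z
    rw [sub_add_cancel] at h1
    rw [h1]; ring
  have h2 : (t : Matrix ι ι F) *ᵥ u = u' := by
    rw [htT u, hb.smul_right, hd, hf.alternating, sub_zero, inv_mul_cancel₀ huu]
    simp
  have h3 := conj_IsT hiso hgT
  rw [h2] at h3
  refine ⟨_, M.mul_mem (M.mul_mem ht hg) (M.inv_mem ht), _, ?_, ?_, h3⟩
  · rw [← h2, hiso, hw]
  · intro c hc
    apply hwc c
    have := congrArg (fun z => ((t⁻¹ : GL ι F) : Matrix ι ι F) *ᵥ z) hc
    simp only [← h2, ← mulVec_smul, inv_mulVec] at this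
    exact this

/-- for a pair `u, w` non-proportional, `w^⊥ ∩ u^⊥` is smaller than `u^⊥` -/
lemma exists_perp {u w : ι → F} (hu : u ≠ 0) (hwc : ∀ c : F, w ≠ c • u) : ∃ z, f u z = 0 ∧ f w z ≠ 0 := by
  by_contra hcon
  push Not at hcon
  have hb := hf.bilinear
  -- f w z = l f u z
  obtain ⟨-, x, hx⟩ := hf.nondegenerate u hu
  apply hwc (f w x / f u x)
  apply form_right_inj hb hf.nondegenerate
  intro z
  rw [hb.smul_right, hf.skew z w, hf.skew z u]
  have h1 := hcon (z + (-(f u z / f u x)) • x) (by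
    rw [hb.add_right, hb.smul_right]; field_simp; ring)
  rw [hb.add_right, hb.smul_right] at h1
  have h2 : f w z = f u z / f u x * f w x := by linear_combination h1
  rw [h2]; ring

theorem all_IsT {u0 w0 : ι → F} (h : ∃ g ∈ M, IsT f g u0 w0) (hu0 : u0 ≠ 0) (huw0 : f u0 w0 = 0)
    (hwc0 : ∀ c : F, w0 ≠ c • u0) (u w : ι → F) (huw : f u w = 0) : ∃ g ∈ M, IsT f g u w := by
  have hb := hf.bilinear
  by_cases hu : u = 0
  · subst hu
    refine ⟨1, M.one_mem, ?_⟩
    intro x
    simp
  by_cases hwc : ∀ c : F, w ≠ c • u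
  · -- first move u0 to u
    have h1 : ∃ g ∈ M, ∃ w, f u w = 0 ∧ (∀ c : F, w ≠ c • u) ∧ IsT f g u w := by
      obtain ⟨g, hg, hgT⟩ := h
      obtain ⟨z, hz1, hz2⟩ := exists_common hf hu0 hu
      have h2 := move_vec hf hM (u' := z) ⟨g, hg, w0, huw0, hwc0, hgT⟩ hz1
      exact move_vec hf hM h2 (swap_ne hf hz2)
    obtain ⟨g, hg, w1, hw1, hwc1, hgT⟩ := h1
    -- a common z in u^⊥ with f w1 z ≠ 0, f w z ≠ 0
    obtain ⟨z, hz0, hz1, hz2⟩ := two_nonzero (fun z => f w1 z) (fun z => f w z) (fun x y => hb.add_right _ _ _)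
      (fun x y => hb.add_right _ _ _) (fun z => f u z = 0) (fun x y hx hy => by
        show f u (x + y) = 0
        rw [hb.add_right, hx, hy, add_zero])
      (exists_perp hf hM hu hwc1) (exists_perp hf hM hu hwc)
    have h2 := move hf hM ⟨g, hg, hgT⟩ hw1 hz0 hz1
    exact move hf hM h2 hz0 huw (swap_ne hf hz2)
  · push Not at hwc
    obtain ⟨c, rfl⟩ := hwc
    obtain ⟨g, hg, hgT, -⟩ := stransv_mem hf hM u c
    exact ⟨g, hg, hgT⟩

end symp

/-- the similarity group of a symplectic form is maximal in SL -/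
theorem isMaximalIn (f : (ι → F) → (ι → F) → F) (hf : IsSymplecticForm f) (hn : 3 ≤ Fintype.card ι) :
    IsMaximalIn (specialLinear ι F) (similarityGroup f ⊓ specialLinear ι F) := by
  have hb := hf.bilinear
  constructor
  · refine lt_of_le_of_ne inf_le_right ?_
    intro heq
    -- find u, w independent with f u w = 0
    have hι : Nonempty ι := by rw [← Fintype.card_pos_iff]; omega
    obtain ⟨i⟩ := hι
    set u : ι → F := Pi.single i 1 with hu
    have hu0 : u ≠ 0 := by
      intro h
      have := congrFun h i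
      simp [hu] at this
    let L : (ι → F) →ₗ[F] F :=
      { toFun := fun w => f u w
        map_add' := fun x y => hb.add_right _ _ _
        map_smul' := fun c x => hb.smul_right _ _ _ }
    have hdim : 1 < Module.finrank F (LinearMap.ker L) := by
      have h1 := LinearMap.finrank_range_add_finrank_ker L
      have h2 : Module.finrank F (LinearMap.range L) ≤ 1 := by
        have := Submodule.finrank_le (LinearMap.range L)
        simpa using this
      rw [Module.finrank_fintype_fun_eq_card] at h1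
      omega
    obtain ⟨w, hw, hwc⟩ : ∃ w, f u w = 0 ∧ ∀ c : F, w ≠ c • u := by
      by_contra hcon
      push Not at hcon
      have hle : LinearMap.ker L ≤ Submodule.span F {u} := by
        intro w hw
        obtain ⟨c, hc⟩ := hcon w hw
        rw [hc]
        exact Submodule.smul_mem _ _ (Submodule.mem_span_singleton_self u)
      have h1 := Submodule.finrank_mono hle
      have h2 := finrank_span_singleton (K := F) hu0
      omega
    obtain ⟨g, hgT, hdet⟩ := exists_IsT hb u w hw
    have hgS : g ∈ similarityGroup f ⊓ specialLinear ι F := by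
      rw [heq]
      apply Units.ext
      exact hdet
    obtain ⟨c, hc⟩ := hgS.1
    -- c = 1
    obtain ⟨-, y, hy⟩ := hf.nondegenerate u hu0
    have hwu : f w u = 0 := swap_zero hf hw
    have key : ∀ x y, f y w * f x u + f x w * f u y = (c - 1) * f x y := by
      intro x y
      have := hc x y
      rw [hgT x, hgT y] at this
      simp only [hb.add_left, hb.add_right, hb.smul_left, hb.smul_right, hf.alternating u] at this
      linear_combination this
    have hc1 : (c : F) - 1 = 0 := by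
      have := key u y
      rw [hf.alternating, hw, mul_zero, zero_mul, zero_add] at this
      exact (mul_eq_zero.1 this.symm).resolve_right hy
    have hyu : f y u ≠ 0 := swap_ne hf hy
    apply hwc (f y w / f y u)
    apply form_right_inj hb hf.nondegenerate
    intro x
    rw [hb.smul_right]
    have := key x y
    rw [hc1, zero_mul, hf.skew u y] at this
    field_simp
    linear_combination -this
  · intro M hM hMS
    by_cases hsub : M ≤ similarityGroup f
    · left
      exact le_antisymm (le_inf hsub hMS) hM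
    · right
      refine le_antisymm hMS ?_
      obtain ⟨g, hg, hgn⟩ : ∃ g ∈ M, g ∉ similarityGroup f := by
        by_contra hcon
        push Not at hcon
        exact hsub hcon
      have h1 : ∃ u, ∀ l : F, ∃ v, f v u ≠ l * f ((g : Matrix ι ι F) *ᵥ v) ((g : Matrix ι ι F) *ᵥ u) := by
        by_contra hcon
        push Not at hcon
        exact hgn (similarity_of_prop hf hcon)
      obtain ⟨u, hu⟩ := h1
      have hu0 : u ≠ 0 := by
        rintro rfl
        obtain ⟨v, hv⟩ := hu 0
        apply hv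
        have := hb.smul_right 0 v 0
        simpa using this
      -- the transvection
      obtain ⟨t, ht, htT, -⟩ := stransv_mem hf hM u 1
      obtain ⟨w, hw⟩ := cov_surj hb hf.nondegenerate (fun i => f (((g⁻¹ : GL ι F) : Matrix ι ι F) *ᵥ (Pi.single i 1)) u)
      have hw' : ∀ x, f x w = f (((g⁻¹ : GL ι F) : Matrix ι ι F) *ᵥ x) u := by
        intro x
        rw [← cov_dot hb, hw]
        have hbb : IsBilinearForm (fun x y : ι → F => f (((g⁻¹ : GL ι F) : Matrix ι ι F) *ᵥ x) y) :=
          { add_left := by intro x y v; rw [mulVec_add, hb.add_left]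
            smul_left := by intro c x v; rw [mulVec_smul, hb.smul_left]
            add_right := by intro v x y; exact hb.add_right _ _ _
            smul_right := by intro c v x; exact hb.smul_right _ _ _ }
        exact cov_dot hbb u x
      have hT : IsT f (g * t * g⁻¹) ((g : Matrix ι ι F) *ᵥ u) w := by
        intro x
        have h1 := htT (((g⁻¹ : GL ι F) : Matrix ι ι F) *ᵥ x)
        rw [one_smul] at h1
        rw [Units.val_mul, Units.val_mul, ← mulVec_mulVec, ← mulVec_mulVec, h1, mulVec_add, mulVec_smul, mulVec_inv,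
          hw']
      have hall := all_IsT hf hM ⟨_, M.mul_mem (M.mul_mem hg ht) (M.inv_mem hg), hT⟩ (mulVec_ne_zero g hu0)
        (by rw [hw', inv_mulVec, hf.alternating]) (by
          intro c hc
          obtain ⟨v, hv⟩ := hu c
          apply hv
          have h2 := hw' ((g : Matrix ι ι F) *ᵥ v)
          rw [inv_mulVec] at h2
          rw [← h2, hc, hb.smul_right])
      intro s hs
      refine mem_of_IsT hb hf.nondegenerate hall s ?_
      have := congrArg Units.val (show Matrix.GeneralLinearGroup.det s = 1 from hs)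
      exact this

end CfsgH9.MaxSymp
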