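import Mathlib
import Cfsg.Prelude.Def_GeometricClasses
import Cfsg.Agent.H9.Transv
import Cfsg.Agent.H9.MaxSymp

set_option autoImplicit false

/-! Maximality of subspace stabilisers in SL. -/

namespace CfsgH9.MaxRedSL

open Matrix Cfsg Cfsg.Geo CfsgH9.Tv
open CfsgH9.MaxSymp (inv_mulVec mulVec_inv mulVec_ne_zero)

variable {ι : Type} [Fintype ι] [DecidableEq ι] {F : Type*} [Field F]

/-- a covector separating `y` from `U` -/
lemma exists_covec (U : Submodule F (ι → F)) {y : ι → F} (hy : y ∉ U) :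
    ∃ a : ι → F, (∀ u ∈ U, a ⬝ᵥ u = 0) ∧ a ⬝ᵥ y = 1 := by
  obtain ⟨φ, hφy, hφ⟩ := Submodule.exists_le_ker_of_notMem hy
  have hdot : ∀ x, (fun i => φ (Pi.single i 1)) ⬝ᵥ x = φ x := by
    intro x
    conv_rhs => rw [← Finset.univ_sum_single x, map_sum]
    rw [dotProduct]
    refine Finset.sum_congr rfl fun i _ => ?_
    have : (Pi.single i (x i) : ι → F) = x i • Pi.single i 1 := by
      rw [← Pi.single_smul, smul_eq_mul, mul_one]
    rw [this, map_smul, smul_eq_mul, mul_comm]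
  refine ⟨(φ y)⁻¹ • (fun i => φ (Pi.single i 1)), ?_, ?_⟩
  · intro u hu
    rw [smul_dotProduct, hdot, show φ u = 0 from hφ hu, smul_zero]
  · rw [smul_dotProduct, hdot, smul_eq_mul, inv_mul_cancel₀ hφy]

/-- a covector with prescribed values at two vectors independent modulo `U` -/
lemma exists_covec2 (U : Submodule F (ι → F)) {x y : ι → F} (hx : x ∉ U) (hy : y ∉ U ⊔ Submodule.span F {x}) (r s : F) :
    ∃ a : ι → F, (∀ u ∈ U, a ⬝ᵥ u = 0) ∧ a ⬝ᵥ x = r ∧ a ⬝ᵥ y = s := by
  obtain ⟨a, ha, hax⟩ := exists_covec U hx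
  obtain ⟨b, hb, hby⟩ := exists_covec _ hy
  have hbx : b ⬝ᵥ x = 0 := hb x (Submodule.mem_sup_right (Submodule.mem_span_singleton_self x))
  refine ⟨r • a + (s - r * (a ⬝ᵥ y)) • b, ?_, ?_, ?_⟩
  · intro u hu
    rw [add_dotProduct, smul_dotProduct, smul_dotProduct, ha u hu, hb u (Submodule.mem_sup_left hu)]
    simp
  · rw [add_dotProduct, smul_dotProduct, smul_dotProduct, hax, hbx]
    simp
  · rw [add_dotProduct, smul_dotProduct, smul_dotProduct, hby]
    simp

lemma mem_stab_iff (W : Submodule F (ι → F)) (g : GL ι F) :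
    g ∈ subspaceStabilizer W ↔ ∀ v, v ∈ W ↔ (g : Matrix ι ι F) *ᵥ v ∈ W := Iff.rfl

/-- over a field, mapping `W` into `W` suffices -/
lemma mem_stab_of (W : Submodule F (ι → F)) (g : GL ι F) (h : ∀ v ∈ W, (g : Matrix ι ι F) *ᵥ v ∈ W) :
    g ∈ subspaceStabilizer W := by
  rw [mem_stab_iff]
  intro v
  refine ⟨h v, fun hv => ?_⟩
  -- the restriction is injective hence surjective
  let L : W →ₗ[F] W := (Matrix.mulVecLin (g : Matrix ι ι F)).restrict (p := W) (q := W) (fun v hv => by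
    rw [mulVecLin_apply]; exact h v hv)
  have hinj : Function.Injective L := by
    intro a b hab
    have h1 : (g : Matrix ι ι F) *ᵥ (a : ι → F) = (g : Matrix ι ι F) *ᵥ (b : ι → F) := congrArg Subtype.val hab
    apply Subtype.ext
    rw [← inv_mulVec g a, h1, inv_mulVec]
  obtain ⟨w, hw⟩ := (LinearMap.injective_iff_surjective.1 hinj) ⟨_, hv⟩
  have h2 : (g : Matrix ι ι F) *ᵥ (w : ι → F) = (g : Matrix ι ι F) *ᵥ v := congrArg Subtype.val hw
  rw [← inv_mulVec g v, ← h2, inv_mulVec]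
  exact w.2

lemma tv_mem_SL (u a : ι → F) (h : a ⬝ᵥ u = 0) : tv u a h ∈ specialLinear ι F := Units.ext (det_tv u a h)

lemma tv_stab_center (W : Submodule F (ι → F)) {u a : ι → F} (h : a ⬝ᵥ u = 0) (hu : u ∈ W) :
    tv u a h ∈ subspaceStabilizer W := by
  apply mem_stab_of
  intro v hv
  rw [tv_mulVec]
  exact W.add_mem hv (W.smul_mem _ hu)

lemma tv_stab_axis (W : Submodule F (ι → F)) {u a : ι → F} (h : a ⬝ᵥ u = 0) (ha : ∀ w ∈ W, a ⬝ᵥ w = 0) :
    tv u a h ∈ subspaceStabilizer W := by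
  apply mem_stab_of
  intro v hv
  rw [tv_mulVec, ha v hv, zero_smul, add_zero]
  exact hv

/-- the set of vectors all of whose transvections lie in `M` -/
def X (M : Subgroup (GL ι F)) (u : ι → F) : Prop := ∀ a (h : a ⬝ᵥ u = 0), tv u a h ∈ M

variable {M : Subgroup (GL ι F)}

lemma X_map {h : GL ι F} (hh : h ∈ M) {u : ι → F} (hu : X M u) : X M ((h : Matrix ι ι F) *ᵥ u) := by
  intro a ha
  have h0 : (a ᵥ* (h : Matrix ι ι F)) ⬝ᵥ u = 0 := by rw [← dotProduct_mulVec, ha]
  obtain ⟨h', he⟩ := tv_conj h u (a ᵥ* (h : Matrix ι ι F)) h0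
  have h1 : (a ᵥ* (h : Matrix ι ι F)) ᵥ* ((h⁻¹ : GL ι F) : Matrix ι ι F) = a := by
    rw [vecMul_vecMul, ← Units.val_mul, mul_inv_cancel, Units.val_one, vecMul_one]
  have h2 : tv ((h : Matrix ι ι F) *ᵥ u) a ha = h * tv u (a ᵥ* (h : Matrix ι ι F)) h0 * h⁻¹ := by
    rw [he]
    congr 1
    exact h1.symm
  rw [h2]
  exact M.mul_mem (M.mul_mem hh (hu _ _)) (M.inv_mem hh)

lemma X_smul {u : ι → F} (hu : X M u) (c : F) : X M (c • u) := by
  intro a ha
  have h0 : (c • a) ⬝ᵥ u = 0 := by rw [smul_dotProduct, ← dotProduct_smul, ha]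
  have h1 : tv (c • u) a ha = tv u (c • a) h0 := by
    apply ext_mulVec
    intro x
    rw [tv_mulVec, tv_mulVec, smul_dotProduct, smul_smul, smul_eq_mul, mul_comm]
  rw [h1]
  exact hu _ _

lemma X_add {u v : ι → F} (hu : X M u) (hv : X M v) : X M (u + v) := by
  by_cases huv : v ∈ Submodule.span F {u}
  · obtain ⟨c, rfl⟩ := Submodule.mem_span_singleton.1 huv
    have h1 : u + c • u = (1 + c) • u := by rw [add_smul, one_smul]
    rw [h1]
    exact X_smul hu _
  · obtain ⟨a, ha, hav⟩ := exists_covec _ huv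
    have hau : a ⬝ᵥ u = 0 := ha u (Submodule.mem_span_singleton_self u)
    have h1 : X M (((tv u a hau : GL ι F) : Matrix ι ι F) *ᵥ v) := X_map (hu _ _) hv
    rw [tv_mulVec, hav, one_smul, add_comm] at h1
    exact h1

theorem isMaximalIn (W : Submodule F (ι → F)) (hW0 : W ≠ ⊥) (hW1 : W ≠ ⊤) :
    IsMaximalIn (specialLinear ι F) (subspaceStabilizer W ⊓ specialLinear ι F) := by
  obtain ⟨w, hw, hw0⟩ := (Submodule.ne_bot_iff _).1 hW0
  obtain ⟨y, hy⟩ : ∃ y, y ∉ W := by
    by_contra hcon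
    push Not at hcon
    exact hW1 (eq_top_iff.2 fun v _ => hcon v)
  constructor
  · refine lt_of_le_of_ne inf_le_right ?_
    intro heq
    have hyw : y ∉ (⊥ : Submodule F (ι → F)) ⊔ Submodule.span F {w} := by
      rw [bot_sup_eq]
      intro h
      obtain ⟨c, rfl⟩ := Submodule.mem_span_singleton.1 h
      exact hy (W.smul_mem c hw)
    obtain ⟨a, -, haw, hay⟩ := exists_covec2 ⊥ (x := w) (by simpa using hw0) hyw 1 1
    have h0 : a ⬝ᵥ (y - w) = 0 := by rw [dotProduct_sub, haw, hay, sub_self]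
    have h1 : tv (y - w) a h0 ∈ subspaceStabilizer W ⊓ specialLinear ι F := by
      rw [heq]; exact tv_mem_SL _ _ _
    have h2 := (h1.1 w).1 hw
    apply hy
    have h3 : ((tv (y - w) a h0 : GL ι F) : Matrix ι ι F) *ᵥ w = y := by
      rw [tv_mulVec, haw, one_smul]; abel
    rw [← h3]
    exact h2
  · intro M hM hMS
    by_cases hsub : M ≤ subspaceStabilizer W
    · left
      exact le_antisymm (le_inf hsub hMS) hM
    · right
      refine le_antisymm hMS ?_
      obtain ⟨g, hg, hgn⟩ : ∃ g ∈ M, g ∉ subspaceStabilizer W := by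
        by_contra hcon
        push Not at hcon
        exact hsub hcon
      obtain ⟨x, hxW, hgx⟩ : ∃ x ∈ W, (g : Matrix ι ι F) *ᵥ x ∉ W := by
        by_contra hcon
        push Not at hcon
        exact hgn (mem_stab_of W g hcon)
      have hXW : ∀ u ∈ W, X M u := fun u hu a h => hM ⟨tv_stab_center W h hu, tv_mem_SL _ _ _⟩
      set z := (g : Matrix ι ι F) *ᵥ x with hz
      have hXz : X M z := X_map hg (hXW x hxW)
      have hall : ∀ y, X M y := by
        intro y
        by_cases hyz : y ∈ W ⊔ Submodule.span F {z}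
        · obtain ⟨u, hu, v, hv, rfl⟩ := Submodule.mem_sup.1 hyz
          obtain ⟨c, rfl⟩ := Submodule.mem_span_singleton.1 hv
          exact X_add (hXW u hu) (X_smul hXz c)
        · obtain ⟨a, haW, haz, hay⟩ := exists_covec2 W hgx hyz 1 1
          have h0 : a ⬝ᵥ (y - z) = 0 := by rw [dotProduct_sub, haz, hay, sub_self]
          have h1 : tv (y - z) a h0 ∈ M := hM ⟨tv_stab_axis W h0 haW, tv_mem_SL _ _ _⟩
          have h2 := X_map h1 hXz
          rw [tv_mulVec, haz, one_smul] at h2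
          have h3 : z + (y - z) = y := by abel
          rwa [h3] at h2
      intro s hs
      refine mem_of_tv (fun u a h => hall u a h) s ?_
      exact congrArg Units.val (show Matrix.GeneralLinearGroup.det s = 1 from hs)

end CfsgH9.MaxRedSL
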