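import Mathlib
import Cfsg.Prelude.Def_GeometricClasses
import Cfsg.Agent.H9.Transv
import Cfsg.Agent.H9.MaxSymp

set_option autoImplicit false

/-! The isometry group of a symplectic form is generated by transvections. -/

namespace CfsgH9.SpGen

open Matrix Cfsg Cfsg.Geo CfsgH9.Tv CfsgH9.MaxSymp

variable {ι : Type} [Fintype ι] [DecidableEq ι] {F : Type*} [Field F]
variable {f : (ι → F) → (ι → F) → F}

/-- the fixed subspace -/
def fixS (g : GL ι F) : Submodule F (ι → F) where
  carrier := {x | (g : Matrix ι ι F) *ᵥ x = x}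
  add_mem' := by
    intro x y hx hy
    have hx' : (g : Matrix ι ι F) *ᵥ x = x := hx
    have hy' : (g : Matrix ι ι F) *ᵥ y = y := hy
    show (g : Matrix ι ι F) *ᵥ (x + y) = x + y
    rw [mulVec_add, hx', hy']
  zero_mem' := mulVec_zero _
  smul_mem' := by
    intro c x hx
    have hx' : (g : Matrix ι ι F) *ᵥ x = x := hx
    show (g : Matrix ι ι F) *ᵥ (c • x) = c • x
    rw [mulVec_smul, hx']

lemma mem_fixS {g : GL ι F} {x : ι → F} : x ∈ fixS g ↔ (g : Matrix ι ι F) *ᵥ x = x := Iff.rfl

omit [DecidableEq ι] [Fintype ι] in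
lemma sub_right (hf : IsSymplecticForm f) (x y z : ι → F) : f x (y - z) = f x y - f x z := by
  have h1 := hf.bilinear.add_right x (y - z) z
  rw [sub_add_cancel] at h1
  rw [h1]; ring

omit [DecidableEq ι] [Fintype ι] in
lemma sub_left (hf : IsSymplecticForm f) (x y z : ι → F) : f (x - y) z = f x z - f y z := by
  have h1 := hf.bilinear.add_left (x - y) y z
  rw [sub_add_cancel] at h1
  rw [h1]; ring

theorem mem_of_isometry (hf : IsSymplecticForm f) {M : Subgroup (GL ι F)}
    (hM : ∀ (u : ι → F) (c : F), ∃ g ∈ M, IsT f g u (c • u)) (g : GL ι F)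
    (hg : ∀ x y, f ((g : Matrix ι ι F) *ᵥ x) ((g : Matrix ι ι F) *ᵥ y) = f x y) : g ∈ M := by
  have hb := hf.bilinear
  -- first step : if f(x, gx) ≠ 0
  have step1 : ∀ g : GL ι F, (∀ x y, f ((g : Matrix ι ι F) *ᵥ x) ((g : Matrix ι ι F) *ᵥ y) = f x y) →
      ∀ x, f x ((g : Matrix ι ι F) *ᵥ x) ≠ 0 → ∃ t ∈ M,
        (∀ x y, f (((t * g : GL ι F) : Matrix ι ι F) *ᵥ x) (((t * g : GL ι F) : Matrix ι ι F) *ᵥ y) = f x y) ∧
        fixS g ≤ fixS (t * g) ∧ x ∈ fixS (t * g) := by
    intro g hg x hx
    obtain ⟨t, ht, htT⟩ := hM ((g : Matrix ι ι F) *ᵥ x - x) ((f x ((g : Matrix ι ι F) *ᵥ x))⁻¹)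
    have hiso := isom_IsT hf htT
    have htx : (t : Matrix ι ι F) *ᵥ x = (g : Matrix ι ι F) *ᵥ x := by
      rw [htT x, hb.smul_right, sub_right hf, hf.alternating, sub_zero, inv_mul_cancel₀ hx, one_smul]
      abel
    have hfix : ∀ y ∈ fixS g, (t : Matrix ι ι F) *ᵥ y = y := by
      intro y hy
      rw [mem_fixS] at hy
      have h1 : f y ((g : Matrix ι ι F) *ᵥ x) = f y x := by
        conv_lhs => rw [← hy]
        rw [hg]
      rw [htT y, hb.smul_right, sub_right hf, h1, sub_self, mul_zero, zero_smul, add_zero]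
    have hinv : ∀ x y, f (((t⁻¹ : GL ι F) : Matrix ι ι F) *ᵥ x) (((t⁻¹ : GL ι F) : Matrix ι ι F) *ᵥ y) = f x y := by
      intro x y
      rw [← hiso, mulVec_inv, mulVec_inv]
    refine ⟨t⁻¹, M.inv_mem ht, ?_, ?_, ?_⟩
    · intro x y
      rw [Units.val_mul, ← mulVec_mulVec, ← mulVec_mulVec, hinv, hg]
    · intro y hy
      have h1 := hfix y hy
      rw [mem_fixS] at hy ⊢
      rw [Units.val_mul, ← mulVec_mulVec, hy]
      conv_lhs => rw [← h1]
      exact inv_mulVec t y
    · rw [mem_fixS, Units.val_mul, ← mulVec_mulVec, ← htx]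
      exact inv_mulVec t x
  -- second step
  have step2 : ∀ g : GL ι F, (∀ x y, f ((g : Matrix ι ι F) *ᵥ x) ((g : Matrix ι ι F) *ᵥ y) = f x y) →
      ∀ x, x ∉ fixS g → ∃ t ∈ M,
        (∀ x y, f (((t * g : GL ι F) : Matrix ι ι F) *ᵥ x) (((t * g : GL ι F) : Matrix ι ι F) *ᵥ y) = f x y) ∧
        fixS g ≤ fixS (t * g) ∧ x ∈ fixS (t * g) := by
    intro g hg x hx
    by_cases hx0 : f x ((g : Matrix ι ι F) *ᵥ x) = 0
    · -- choose u
      have hgx : (g : Matrix ι ι F) *ᵥ x ≠ x := hx
      have h1 : ((g⁻¹ : GL ι F) : Matrix ι ι F) *ᵥ x - x ≠ 0 := by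
        intro h
        apply hgx
        have h2 : ((g⁻¹ : GL ι F) : Matrix ι ι F) *ᵥ x = x := sub_eq_zero.1 h
        conv_lhs => rw [← h2]
        exact mulVec_inv g x
      have h2 : x - (g : Matrix ι ι F) *ᵥ x ≠ 0 := sub_ne_zero.2 (Ne.symm hgx)
      obtain ⟨y, hy1, hy2⟩ := exists_common hf h1 h2
      set u := (g : Matrix ι ι F) *ᵥ y - y with hu
      have hxu : f x u ≠ 0 := by
        rw [hu, sub_right hf]
        have : f x ((g : Matrix ι ι F) *ᵥ y) = f (((g⁻¹ : GL ι F) : Matrix ι ι F) *ᵥ x) y := by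
          conv_rhs => rw [← hg, mulVec_inv]
        rw [this, ← sub_left hf]
        exact hy1
      have hgxu : f ((g : Matrix ι ι F) *ᵥ x) u ≠ 0 := by
        rw [hu, sub_right hf, hg, ← sub_left hf]
        exact hy2
      obtain ⟨t, ht, htT⟩ := hM u 1
      rw [one_smul] at htT
      have hiso : ∀ x y, f ((t : Matrix ι ι F) *ᵥ x) ((t : Matrix ι ι F) *ᵥ y) = f x y :=
        isom_IsT hf (c := 1) (by rw [one_smul]; exact htT)
      have hiso2 : ∀ x y, f (((t * g : GL ι F) : Matrix ι ι F) *ᵥ x) (((t * g : GL ι F) : Matrix ι ι F) *ᵥ y) = f x y := by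
        intro x y
        rw [Units.val_mul, ← mulVec_mulVec, ← mulVec_mulVec, hiso, hg]
      have hfix : fixS g ≤ fixS (t * g) := by
        intro z hz
        rw [mem_fixS] at hz ⊢
        rw [Units.val_mul, ← mulVec_mulVec, hz, htT z]
        have : f z u = 0 := by
          rw [hu, sub_right hf]
          have : f z ((g : Matrix ι ι F) *ᵥ y) = f z y := by
            conv_lhs => rw [← hz]
            rw [hg]
          rw [this, sub_self]
        rw [this, zero_smul, add_zero]
      have hne : f x (((t * g : GL ι F) : Matrix ι ι F) *ᵥ x) ≠ 0 := by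
        rw [Units.val_mul, ← mulVec_mulVec, htT, hb.add_right, hx0, zero_add, hb.smul_right]
        exact mul_ne_zero hgxu hxu
      obtain ⟨s, hs, hs1, hs2, hs3⟩ := step1 (t * g) hiso2 x hne
      refine ⟨s * t, M.mul_mem hs ht, ?_, ?_, ?_⟩
      · rw [mul_assoc]; exact hs1
      · rw [mul_assoc]; exact hfix.trans hs2
      · rw [mul_assoc]; exact hs3
    · exact step1 g hg x hx0
  -- induction
  have key : ∀ k : ℕ, ∀ g : GL ι F, (∀ x y, f ((g : Matrix ι ι F) *ᵥ x) ((g : Matrix ι ι F) *ᵥ y) = f x y) →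
      Module.finrank F (ι → F) - Module.finrank F (fixS g) = k → g ∈ M := by
    intro k
    induction k using Nat.strong_induction_on with
    | _ k ih =>
      intro g hg hk
      by_cases hall : ∀ x, x ∈ fixS g
      · have : g = 1 := by
          apply ext_mulVec
          intro x
          rw [Units.val_one, one_mulVec]
          exact hall x
        rw [this]; exact M.one_mem
      · push Not at hall
        obtain ⟨x, hx⟩ := hall
        obtain ⟨t, ht, h1, h2, h3⟩ := step2 g hg x hx
        have hlt : fixS g < fixS (t * g) := lt_of_le_of_ne h2 (fun h => hx (h ▸ h3))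
        have hlt2 := Submodule.finrank_lt_finrank_of_lt hlt
        have hle := Submodule.finrank_le (fixS (t * g))
        have := ih _ (by omega) (t * g) h1 rfl
        have h4 := M.mul_mem (M.inv_mem ht) this
        rwa [inv_mul_cancel_left] at h4
  exact key _ g hg rfl

/-- any isometry has determinant one -/
lemma det_isometry (hf : IsSymplecticForm f) (g : GL ι F)
    (hg : ∀ x y, f ((g : Matrix ι ι F) *ᵥ x) ((g : Matrix ι ι F) *ᵥ y) = f x y) : g ∈ specialLinear ι F := by
  refine mem_of_isometry hf ?_ g hg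
  intro u c
  obtain ⟨g, hg, hdet⟩ := exists_IsT hf.bilinear u (c • u) (by rw [hf.bilinear.smul_right, hf.alternating, mul_zero])
  exact ⟨g, Units.ext hdet, hg⟩

/-- the standard form is symplectic -/
lemma sympForm_isSymplectic (m : ℕ) : IsSymplecticForm (sympForm m F) := by
  have hb : IsBilinearForm (sympForm m F) :=
    { add_left := by intro x y v; simp [sympForm, add_dotProduct]
      smul_left := by intro c x v; simp [sympForm, smul_dotProduct]
      add_right := by intro v x y; simp [sympForm, mulVec_add, dotProduct_add]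
      smul_right := by intro c v x; simp [sympForm, mulVec_smul, dotProduct_smul] }
  have hexp : ∀ u v : Fin m ⊕ Fin m → F, sympForm m F u v =
      ∑ i, (u (Sum.inr i) * v (Sum.inl i) - u (Sum.inl i) * v (Sum.inr i)) := by
    intro u v
    rw [sympForm, Matrix.J, dotProduct, Fintype.sum_sum_type, ← Finset.sum_add_distrib]
    refine Finset.sum_congr rfl fun i _ => ?_
    simp [fromBlocks_mulVec, Matrix.neg_mulVec]
    ring
  have hskew : ∀ v w, sympForm m F v w = - sympForm m F w v := by
    intro v w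
    rw [hexp, hexp, ← Finset.sum_neg_distrib]
    refine Finset.sum_congr rfl fun i _ => ?_
    ring
  refine ⟨hb, hskew, ?_, ?_⟩
  · intro v
    rw [hexp]
    apply Finset.sum_eq_zero
    intro i _
    ring
  · intro v hv
    have h1 : ∃ x, sympForm m F v x ≠ 0 := by
      by_contra hcon
      push Not at hcon
      apply hv
      ext j
      rcases j with j | j
      · have := hcon (Pi.single (Sum.inr j) 1)
        rw [hexp] at this
        simpa [Pi.single_apply, Finset.sum_ite_eq] using this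
      · have := hcon (Pi.single (Sum.inl j) 1)
        rw [hexp] at this
        simpa [Pi.single_apply, Finset.sum_ite_eq] using this
    obtain ⟨x, hx⟩ := h1
    refine ⟨⟨x, ?_⟩, x, hx⟩
    rw [hskew]
    simpa using hx

lemma mem_spGL_iff (m : ℕ) (g : GL (Fin m ⊕ Fin m) F) : g ∈ spGL m F ↔
    ∀ x y, sympForm m F ((g : Matrix _ _ F) *ᵥ x) ((g : Matrix _ _ F) *ᵥ y) = sympForm m F x y := Iff.rfl

end CfsgH9.SpGen
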