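import Mathlib
import Cfsg.Prelude.Def_GeometricClasses
import Cfsg.Agent.H9.Transv
import Cfsg.Agent.H9.MaxSymp
import Cfsg.Agent.H9.SpGen
import Cfsg.Agent.H9.MaxRedSL

set_option autoImplicit false

/-! Maximality of subspace and decomposition stabilisers in the symplectic group. -/

namespace CfsgH9.MaxRedSp

open Matrix Cfsg Cfsg.Geo CfsgH9.Tv CfsgH9.MaxSymp CfsgH9.SpGen
open CfsgH9.MaxRedSL (mem_stab_of mem_stab_iff)

variable {ι : Type} [Fintype ι] [DecidableEq ι] {F : Type*} [Field F]
variable {f : (ι → F) → (ι → F) → F}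

/-- all transvections with centre `u` lie in `M` -/
def XS (f : (ι → F) → (ι → F) → F) (M : Subgroup (GL ι F)) (u : ι → F) : Prop :=
  ∀ (c : F) (g : GL ι F), IsT f g u (c • u) → g ∈ M

variable {M : Subgroup (GL ι F)}

lemma XS_map (hf : IsSymplecticForm f) {h : GL ι F} (hh : h ∈ M)
    (hiso : ∀ x y, f ((h : Matrix ι ι F) *ᵥ x) ((h : Matrix ι ι F) *ᵥ y) = f x y) {u : ι → F} (hu : XS f M u) :
    XS f M ((h : Matrix ι ι F) *ᵥ u) := by
  intro c g hg
  have h1 : IsT f (h⁻¹ * g * h) u (c • u) := by
    intro x
    rw [Units.val_mul, Units.val_mul, ← mulVec_mulVec, ← mulVec_mulVec, hg, mulVec_add, mulVec_smul, inv_mulVec,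
      inv_mulVec, ← mulVec_smul, hiso]
  have h2 := M.mul_mem (M.mul_mem hh (hu c _ h1)) (M.inv_mem hh)
  have h3 : h * (h⁻¹ * g * h) * h⁻¹ = g := by group
  rwa [h3] at h2

lemma XS_exists (hf : IsSymplecticForm f) {u : ι → F} (hu : XS f M u) (c : F) :
    ∃ g ∈ M, IsT f g u (c • u) ∧ ∀ x y, f ((g : Matrix ι ι F) *ᵥ x) ((g : Matrix ι ι F) *ᵥ y) = f x y := by
  obtain ⟨g, hg, -⟩ := exists_IsT hf.bilinear u (c • u) (by rw [hf.bilinear.smul_right, hf.alternating, mul_zero])
  exact ⟨g, hu c g hg, hg, isom_IsT hf hg⟩

lemma XS_step (hf : IsSymplecticForm f) {u w : ι → F} (hu : XS f M u) (hw : XS f M w) (c : F) :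
    XS f M (w + (c * f w u) • u) := by
  obtain ⟨g, hg, hgT, hiso⟩ := XS_exists hf hu c
  have := XS_map hf hg hiso hw
  rwa [hgT w, hf.bilinear.smul_right] at this

lemma XS_smul (hf : IsSymplecticForm f) {u : ι → F} (hu : XS f M u) (c : F) : XS f M (c • u) := by
  intro d g hg
  apply hu (c * d * c) g
  intro x
  rw [hg x, hf.bilinear.smul_right, hf.bilinear.smul_right, hf.bilinear.smul_right, smul_smul]
  congr 2
  ring

lemma XS_zero : XS f M 0 := by
  intro c g hg
  have : g = 1 := by
    apply ext_mulVec
    intro x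
    rw [hg x, smul_zero, add_zero, Units.val_one, one_mulVec]
  rw [this]
  exact M.one_mem

/-- hyperbolic lines -/
lemma XS_add (hf : IsSymplecticForm f) {u w : ι → F} (hu : XS f M u) (hw : XS f M w) (h : f w u ≠ 0) :
    XS f M (w + u) := by
  have := XS_step hf hu hw (f w u)⁻¹
  rwa [inv_mul_cancel₀ h, one_smul] at this

/-- changing a component within a non-degenerate subspace -/
lemma change (hf : IsSymplecticForm f) {E : Submodule F (ι → F)} (hE : ∀ x ∈ E, x ≠ 0 → ∃ y ∈ E, f x y ≠ 0)
    (P : (ι → F) → Prop) (hP : ∀ w ∈ E, ∀ u ∈ E, ∀ c : F, P w → P (w + (c * f w u) • u)) {w w' : ι → F}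
    (hw : w ∈ E) (hw0 : w ≠ 0) (hPw : P w) (hw' : w' ∈ E) (hw'0 : w' ≠ 0) : P w' := by
  have hb := hf.bilinear
  have step : ∀ w w', w ∈ E → w' ∈ E → f w w' ≠ 0 → P w → P w' := by
    intro w w' hw hw' hne hPw
    have h1 := hP w hw (w' - w) (E.sub_mem hw' hw) (f w w')⁻¹ hPw
    rw [sub_right hf, hf.alternating, sub_zero, inv_mul_cancel₀ hne, one_smul] at h1
    have h2 : w + (w' - w) = w' := by abel
    rwa [h2] at h1
  obtain ⟨z, hz, h1, h2⟩ := two_nonzero (fun z => f w z) (fun z => f w' z) (fun x y => hb.add_right _ _ _)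
    (fun x y => hb.add_right _ _ _) (fun z => z ∈ E) (fun x y hx hy => E.add_mem hx hy) (hE w hw hw0) (hE w' hw' hw'0)
  exact step z w' hz hw' (MaxSymp.swap_ne hf h2) (step w z hw hz h1 hPw)

/-- the bilinear form as a Mathlib bilinear form -/
def toB (hb : IsBilinearForm f) : LinearMap.BilinForm F (ι → F) :=
  LinearMap.mk₂ F f hb.add_left (fun c x v => by rw [hb.smul_left, smul_eq_mul]) (fun v x y => hb.add_right v x y)
    (fun c v x => by rw [hb.smul_right, smul_eq_mul])

@[simp] lemma toB_apply (hb : IsBilinearForm f) (x y : ι → F) : toB hb x y = f x y := rfl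

/-- orthogonal subspace -/
def perp (hb : IsBilinearForm f) (W : Submodule F (ι → F)) : Submodule F (ι → F) where
  carrier := {x | ∀ w ∈ W, f x w = 0}
  add_mem' := by
    intro x y hx hy w hw
    rw [hb.add_left, hx w hw, hy w hw, add_zero]
  zero_mem' := by
    intro w _
    have := hb.smul_left 0 0 w
    simpa using this
  smul_mem' := by
    intro c x hx w hw
    rw [hb.smul_left, hx w hw, mul_zero]

lemma mem_perp (hb : IsBilinearForm f) {W : Submodule F (ι → F)} {x : ι → F} :
    x ∈ perp hb W ↔ ∀ w ∈ W, f x w = 0 := Iff.rfl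

lemma toB_isRefl (hf : IsSymplecticForm f) : (toB hf.bilinear).IsRefl := by
  intro x y h
  exact MaxSymp.swap_zero hf h

lemma perp_eq (hf : IsSymplecticForm f) (W : Submodule F (ι → F)) :
    perp hf.bilinear W = (toB hf.bilinear).orthogonal W := by
  ext x
  rw [mem_perp, LinearMap.BilinForm.mem_orthogonal_iff]
  constructor
  · intro h w hw
    exact MaxSymp.swap_zero hf (h w hw)
  · intro h w hw
    exact MaxSymp.swap_zero hf (h w hw)

lemma toB_nondeg (hf : IsSymplecticForm f) : (toB hf.bilinear).Nondegenerate := by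
  constructor
  · intro x hx
    by_contra hne
    obtain ⟨-, y, hy⟩ := hf.nondegenerate x hne
    exact hy (hx y)
  · intro x hx
    by_contra hne
    obtain ⟨⟨y, hy⟩, -⟩ := hf.nondegenerate x hne
    exact hy (hx y)

lemma finrank_perp (hf : IsSymplecticForm f) (W : Submodule F (ι → F)) :
    Module.finrank F (perp hf.bilinear W) = Fintype.card ι - Module.finrank F W := by
  rw [perp_eq hf, LinearMap.BilinForm.finrank_orthogonal (toB_nondeg hf),
    Module.finrank_fintype_fun_eq_card]

lemma perp_perp (hf : IsSymplecticForm f) (W : Submodule F (ι → F)) :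
    perp hf.bilinear (perp hf.bilinear W) = W := by
  symm
  apply Submodule.eq_of_le_of_finrank_eq
  · intro w hw x hx
    exact MaxSymp.swap_zero hf (hx w hw)
  · rw [finrank_perp hf, finrank_perp hf]
    have := Submodule.finrank_le W
    rw [Module.finrank_fintype_fun_eq_card] at this
    omega

/-- for a non-degenerate subspace -/
lemma exists_decomp (hf : IsSymplecticForm f) {W : Submodule F (ι → F)} (hW : IsNondegenerateOn f W) (x : ι → F) :
    ∃ a ∈ W, ∃ b ∈ perp hf.bilinear W, x = a + b := by
  have hdis : W ⊓ perp hf.bilinear W = ⊥ := by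
    rw [eq_bot_iff]
    rintro w ⟨hw, hw'⟩
    by_contra hne
    obtain ⟨-, y, hy, hyw⟩ := hW w hw hne
    exact hyw (hw' y hy)
  have hsup : W ⊔ perp hf.bilinear W = ⊤ := by
    apply Submodule.eq_top_of_finrank_eq
    have h1 := Submodule.finrank_sup_add_finrank_inf_eq W (perp hf.bilinear W)
    rw [hdis, finrank_bot, add_zero, finrank_perp hf] at h1
    rw [h1, Module.finrank_fintype_fun_eq_card]
    have := Submodule.finrank_le W
    rw [Module.finrank_fintype_fun_eq_card] at this
    omega
  have hx : x ∈ W ⊔ perp hf.bilinear W := by rw [hsup]; trivial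
  obtain ⟨a, ha, b, hb, rfl⟩ := Submodule.mem_sup.1 hx
  exact ⟨a, ha, b, hb, rfl⟩

lemma isT_stab_left (hf : IsSymplecticForm f) {W : Submodule F (ι → F)} {u : ι → F} (hu : u ∈ W) {c : F} {g : GL ι F}
    (hg : IsT f g u (c • u)) : g ∈ subspaceStabilizer W := by
  apply mem_stab_of
  intro v hv
  rw [hg v]
  exact W.add_mem hv (W.smul_mem _ hu)

lemma isT_stab_right (hf : IsSymplecticForm f) {W : Submodule F (ι → F)} {u : ι → F} (hu : u ∈ perp hf.bilinear W) {c : F}
    {g : GL ι F} (hg : IsT f g u (c • u)) : g ∈ subspaceStabilizer W := by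
  apply mem_stab_of
  intro v hv
  rw [hg v, hf.bilinear.smul_right, MaxSymp.swap_zero hf (hu v hv), mul_zero, zero_smul, add_zero]
  exact hv

lemma union_sub {A B C : Submodule F (ι → F)} (h : ∀ x ∈ A, x ∈ B ∨ x ∈ C) : A ≤ B ∨ A ≤ C := by
  by_contra hcon
  push Not at hcon
  obtain ⟨h1, h2⟩ := hcon
  obtain ⟨x, hx, hxB⟩ := SetLike.not_le_iff_exists.1 h1
  obtain ⟨y, hy, hyC⟩ := SetLike.not_le_iff_exists.1 h2
  have hxC := (h x hx).resolve_left hxB
  have hyB := (h y hy).resolve_right hyC
  rcases h _ (A.add_mem hx hy) with h3 | h3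
  · apply hxB
    have := B.sub_mem h3 hyB
    rwa [add_sub_cancel_right] at this
  · apply hyC
    have := C.sub_mem h3 hxC
    rwa [add_sub_cancel_left] at this

/-- image of a subspace under a matrix -/
def im (g : GL ι F) (W : Submodule F (ι → F)) : Submodule F (ι → F) := W.map (mulVecLin (g : Matrix ι ι F))

lemma mem_im {g : GL ι F} {W : Submodule F (ι → F)} {x : ι → F} (hx : x ∈ W) : (g : Matrix ι ι F) *ᵥ x ∈ im g W :=
  ⟨x, hx, rfl⟩

lemma finrank_im (g : GL ι F) (W : Submodule F (ι → F)) : Module.finrank F (im g W) = Module.finrank F W := by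
  have hinj : Function.Injective (mulVecLin (g : Matrix ι ι F)) := by
    intro x y h
    have h' : (g : Matrix ι ι F) *ᵥ x = (g : Matrix ι ι F) *ᵥ y := h
    rw [← inv_mulVec g x, h', inv_mulVec]
  exact (LinearEquiv.finrank_eq (Submodule.equivMapOfInjective _ hinj W)).symm

/-- if all vectors are centres, `M` contains all isometries -/
lemma le_of_all_XS (hf : IsSymplecticForm f) {K : Subgroup (GL ι F)}
    (hK : ∀ g : GL ι F, g ∈ K ↔ ∀ x y, f ((g : Matrix ι ι F) *ᵥ x) ((g : Matrix ι ι F) *ᵥ y) = f x y)
    (h : ∀ u, XS f M u) : K ≤ M := by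
  intro g hg
  refine mem_of_isometry hf ?_ g ((hK g).1 hg)
  intro u c
  obtain ⟨g, hg, hgT, -⟩ := XS_exists hf (h u) c
  exact ⟨g, hg, hgT⟩

lemma isT_mem_K (hf : IsSymplecticForm f) {K : Subgroup (GL ι F)}
    (hK : ∀ g : GL ι F, g ∈ K ↔ ∀ x y, f ((g : Matrix ι ι F) *ᵥ x) ((g : Matrix ι ι F) *ᵥ y) = f x y) {g : GL ι F}
    {u : ι → F} {c : F} (hg : IsT f g u (c • u)) : g ∈ K := (hK g).2 (isom_IsT hf hg)

lemma perp_nondeg (hf : IsSymplecticForm f) {W : Submodule F (ι → F)} (hW : IsNondegenerateOn f W) :
    ∀ x ∈ perp hf.bilinear W, x ≠ 0 → ∃ y ∈ perp hf.bilinear W, f x y ≠ 0 := by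
  intro x hx hx0
  obtain ⟨-, y, hy⟩ := hf.nondegenerate x hx0
  obtain ⟨a, ha, b, hb, rfl⟩ := exists_decomp hf hW y
  refine ⟨b, hb, ?_⟩
  rw [hf.bilinear.add_right, hx a ha, zero_add] at hy
  exact hy

/-- stabilisers of small non-degenerate subspaces are maximal -/
theorem nondeg_max (hf : IsSymplecticForm f) {K : Subgroup (GL ι F)}
    (hK : ∀ g : GL ι F, g ∈ K ↔ ∀ x y, f ((g : Matrix ι ι F) *ᵥ x) ((g : Matrix ι ι F) *ᵥ y) = f x y)
    (W : Submodule F (ι → F)) (hW0 : W ≠ ⊥) (hW : IsNondegenerateOn f W)
    (hdim : 2 * Module.finrank F W < Fintype.card ι) : IsMaximalIn K (subspaceStabilizer W ⊓ K) := by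
  have hb := hf.bilinear
  have hdp := finrank_perp hf W
  have hW1 : perp hb W ≠ ⊥ := by
    intro h
    rw [h, finrank_bot] at hdp
    omega
  obtain ⟨w, hw, hw0⟩ := (Submodule.ne_bot_iff _).1 hW0
  obtain ⟨v, hv, hv0⟩ := (Submodule.ne_bot_iff _).1 hW1
  have hdis : ∀ x, x ∈ W → x ∈ perp hb W → x = 0 := by
    intro x hx hx'
    by_contra hne
    obtain ⟨-, y, hy, hyw⟩ := hW x hx hne
    exact hyw (hx' y hy)
  constructor
  · refine lt_of_le_of_ne inf_le_right ?_
    intro heq
    -- the transvection with centre w + v does not stabilise W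
    obtain ⟨g, hg, -⟩ := exists_IsT hb (w + v) (w + v) (hf.alternating _)
    have hgK : g ∈ K := isT_mem_K hf hK (c := 1) (by rw [one_smul]; exact hg)
    rw [← heq] at hgK
    obtain ⟨-, y, hy, hyw⟩ := hW w hw hw0
    have h1 : (g : Matrix ι ι F) *ᵥ y ∈ W := (hgK.1 y).1 hy
    rw [hg y, hb.add_right, MaxSymp.swap_zero hf (hv y hy), add_zero] at h1
    have h2 : f y w • (w + v) ∈ W := by
      have := W.sub_mem h1 hy
      rwa [add_sub_cancel_left] at this
    have hyw' : f y w ≠ 0 := MaxSymp.swap_ne hf hyw
    have h3 : w + v ∈ W := by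
      have := W.smul_mem (f y w)⁻¹ h2
      rwa [smul_smul, inv_mul_cancel₀ hyw', one_smul] at this
    have h4 : v ∈ W := by
      have := W.sub_mem h3 hw
      rwa [add_sub_cancel_left] at this
    exact hv0 (hdis v h4 hv)
  · intro M hM hMK
    by_cases hsub : M ≤ subspaceStabilizer W
    · left
      exact le_antisymm (le_inf hsub hMK) hM
    · right
      refine le_antisymm hMK ?_
      obtain ⟨g, hg, hgn⟩ : ∃ g ∈ M, g ∉ subspaceStabilizer W := by
        by_contra hcon
        push Not at hcon
        exact hsub hcon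
      have hiso := (hK g).1 (hMK hg)
      have hXW : ∀ u ∈ W, XS f M u := fun u hu c g hg => hM ⟨isT_stab_left hf hu hg, isT_mem_K hf hK hg⟩
      have hXP : ∀ u ∈ perp hb W, XS f M u := fun u hu c g hg => hM ⟨isT_stab_right hf hu hg, isT_mem_K hf hK hg⟩
      -- a vector of W^⊥ moved outside of W ∪ W^⊥
      obtain ⟨z, hz, hz1, hz2⟩ : ∃ z ∈ perp hb W, (g : Matrix ι ι F) *ᵥ z ∉ W ∧ (g : Matrix ι ι F) *ᵥ z ∉ perp hb W := by
        by_contra hcon
        push Not at hcon
        have h1 : im g (perp hb W) ≤ W ∨ im g (perp hb W) ≤ perp hb W := by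
          apply union_sub
          rintro _ ⟨x, hx, rfl⟩
          rw [mulVecLin_apply]
          by_cases h : (g : Matrix ι ι F) *ᵥ x ∈ W
          · exact Or.inl h
          · exact Or.inr (hcon x hx h)
        rcases h1 with h1 | h1
        · have := Submodule.finrank_mono h1
          rw [finrank_im] at this
          omega
        · have h2 : im g (perp hb W) = perp hb W := Submodule.eq_of_le_of_finrank_eq h1 (finrank_im g _)
          apply hgn
          apply mem_stab_of
          intro x hx
          rw [← perp_perp hf W]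
          intro y hy
          rw [← h2] at hy
          obtain ⟨y', hy', rfl⟩ := hy
          rw [mulVecLin_apply, hiso]
          exact MaxSymp.swap_zero hf (hy' x hx)
      have hXz := XS_map hf hg hiso (hXP z hz)
      obtain ⟨a, ha, b, hbb, he⟩ := exists_decomp hf hW ((g : Matrix ι ι F) *ᵥ z)
      rw [he] at hXz hz1 hz2
      have ha0 : a ≠ 0 := by
        rintro rfl
        apply hz2
        rw [zero_add]; exact hbb
      have hb0 : b ≠ 0 := by
        rintro rfl
        apply hz1
        rw [add_zero]; exact ha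
      -- all a' + b'
      have hall1 : ∀ a' ∈ W, a' ≠ 0 → XS f M (a' + b) := by
        intro a' ha' ha'0
        refine change hf (E := W) (fun x hx hx0 => (hW x hx hx0).2) (fun w => XS f M (w + b)) ?_ ha ha0 hXz ha' ha'0
        intro w hw u hu c hP
        have h1 := XS_step hf (hXW u hu) hP c
        rw [hb.add_left, hbb u hu, add_zero] at h1
        have h2 : w + b + (c * f w u) • u = w + (c * f w u) • u + b := by abel
        rwa [h2] at h1
      have hall2 : ∀ a' ∈ W, a' ≠ 0 → ∀ b' ∈ perp hb W, b' ≠ 0 → XS f M (a' + b') := by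
        intro a' ha' ha'0 b' hb' hb'0
        refine change hf (E := perp hb W) (perp_nondeg hf hW) (fun w => XS f M (a' + w)) ?_ hbb hb0 (hall1 a' ha' ha'0)
          hb' hb'0
        intro w hw u hu c hP
        have h1 := XS_step hf (hXP u hu) hP c
        rw [hb.add_left, MaxSymp.swap_zero hf (hu a' ha'), zero_add] at h1
        have h2 : a' + w + (c * f w u) • u = a' + (w + (c * f w u) • u) := by abel
        rwa [h2] at h1
      refine le_of_all_XS hf hK ?_
      intro u
      obtain ⟨a', ha', b', hb', rfl⟩ := exists_decomp hf hW u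
      by_cases h1 : a' = 0
      · subst h1; rw [zero_add]; exact hXP b' hb'
      by_cases h2 : b' = 0
      · subst h2; rw [add_zero]; exact hXW a' ha'
      exact hall2 a' ha' h1 b' hb' h2

/-- stabilisers of totally isotropic subspaces are maximal -/
theorem isotropic_max (hf : IsSymplecticForm f) {K : Subgroup (GL ι F)}
    (hK : ∀ g : GL ι F, g ∈ K ↔ ∀ x y, f ((g : Matrix ι ι F) *ᵥ x) ((g : Matrix ι ι F) *ᵥ y) = f x y)
    (W : Submodule F (ι → F)) (hW0 : W ≠ ⊥) (hW : IsTotallySingularFor f W) :
    IsMaximalIn K (subspaceStabilizer W ⊓ K) := by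
  have hb := hf.bilinear
  have hWP : W ≤ perp hb W := fun x hx y hy => hW x hx y hy
  obtain ⟨w, hw, hw0⟩ := (Submodule.ne_bot_iff _).1 hW0
  constructor
  · refine lt_of_le_of_ne inf_le_right ?_
    intro heq
    obtain ⟨-, y, hy⟩ := hf.nondegenerate w hw0
    obtain ⟨g, hg, -⟩ := exists_IsT hb y y (hf.alternating _)
    have hgK : g ∈ K := isT_mem_K hf hK (c := 1) (by rw [one_smul]; exact hg)
    rw [← heq] at hgK
    have h1 : (g : Matrix ι ι F) *ᵥ w ∈ W := (hgK.1 w).1 hw
    rw [hg w] at h1
    have h2 : f w y • y ∈ W := by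
      have := W.sub_mem h1 hw
      rwa [add_sub_cancel_left] at this
    have h3 : y ∈ W := by
      have := W.smul_mem (f w y)⁻¹ h2
      rwa [smul_smul, inv_mul_cancel₀ hy, one_smul] at this
    exact hy (hW w hw y h3)
  · intro M hM hMK
    by_cases hsub : M ≤ subspaceStabilizer W
    · left
      exact le_antisymm (le_inf hsub hMK) hM
    · right
      refine le_antisymm hMK ?_
      obtain ⟨g, hg, hgn⟩ : ∃ g ∈ M, g ∉ subspaceStabilizer W := by
        by_contra hcon
        push Not at hcon
        exact hsub hcon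
      have hiso := (hK g).1 (hMK hg)
      have hXP : ∀ u ∈ perp hb W, XS f M u := fun u hu c g hg => hM ⟨isT_stab_right hf hu hg, isT_mem_K hf hK hg⟩
      have hXW : ∀ u ∈ W, XS f M u := fun u hu => hXP u (hWP hu)
      -- a vector of W^⊥ moved outside W^⊥
      obtain ⟨z, hz, hz2⟩ : ∃ z ∈ perp hb W, (g : Matrix ι ι F) *ᵥ z ∉ perp hb W := by
        by_contra hcon
        push Not at hcon
        have h1 : im g (perp hb W) ≤ perp hb W := by
          rintro _ ⟨x, hx, rfl⟩
          exact hcon x hx
        have h2 : im g (perp hb W) = perp hb W := Submodule.eq_of_le_of_finrank_eq h1 (finrank_im g _)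
        apply hgn
        apply mem_stab_of
        intro x hx
        rw [← perp_perp hf W]
        intro y hy
        rw [← h2] at hy
        obtain ⟨y', hy', rfl⟩ := hy
        rw [mulVecLin_apply, hiso]
        exact MaxSymp.swap_zero hf (hy' x hx)
      have hXz := XS_map hf hg hiso (hXP z hz)
      have hsubr : ∀ x y z, f x (y - z) = f x y - f x z := sub_right hf
      -- cosets of W^⊥
      have hcoset : ∀ x, XS f M x → x ∉ perp hb W → ∀ u ∈ perp hb W, XS f M (x + u) := by
        intro x hx hxn u hu
        by_cases h : f x u = 0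
        · obtain ⟨u0, hu0, hxu0⟩ : ∃ u0 ∈ W, f x u0 ≠ 0 := by
            by_contra hcon
            push Not at hcon
            exact hxn hcon
          have h1 := XS_add hf (hXW u0 hu0) hx hxu0
          have h2 : f (x + u0) (u - u0) ≠ 0 := by
            rw [hb.add_left, hsubr, hsubr, h, hf.alternating, MaxSymp.swap_zero hf (hu u0 hu0)]
            simpa using hxu0
          have h3 := XS_add hf (hXP (u - u0) ((perp hb W).sub_mem hu (hWP hu0))) h1 h2
          have h4 : x + u0 + (u - u0) = x + u := by abel
          rwa [h4] at h3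
        · exact XS_add hf (hXP u hu) hx h
      -- XS is additive
      have hadd : ∀ x y, XS f M x → XS f M y → XS f M (x + y) := by
        intro x y hx hy
        by_cases hxn : x ∈ perp hb W
        · by_cases hyn : y ∈ perp hb W
          · exact hXP _ ((perp hb W).add_mem hxn hyn)
          · rw [add_comm]; exact hcoset y hy hyn x hxn
        · by_cases hyn : y ∈ perp hb W
          · exact hcoset x hx hxn y hyn
          · by_cases h : f x y = 0
            · -- y ∉ W^⊥ so some u ∈ W with f y u ≠ 0
              obtain ⟨u0, hu0, hyu0⟩ : ∃ u0 ∈ W, f y u0 ≠ 0 := by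
                by_contra hcon
                push Not at hcon
                exact hyn hcon
              by_cases hxu : f x u0 = 0
              · have h1 := hcoset x hx hxn u0 (hWP hu0)
                have h2 : f (x + u0) y ≠ 0 := by
                  rw [hb.add_left, h, zero_add]; exact MaxSymp.swap_ne hf hyu0
                have h3 := XS_add hf hy h1 h2
                have h4 : x + u0 + y ∉ perp hb W := by
                  intro hc
                  have h5 := hc u0 hu0
                  rw [hb.add_left, hb.add_left, hxu, hf.alternating] at h5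
                  apply hyu0
                  simpa using h5
                have h5 := hcoset _ h3 h4 (-u0) ((perp hb W).neg_mem (hWP hu0))
                have h6 : x + u0 + y + -u0 = x + y := by abel
                rwa [h6] at h5
              · -- consider x + c u0 ; f (x + u0) y
                have h1 := hcoset x hx hxn u0 (hWP hu0)
                have h2 : f (x + u0) y ≠ 0 := by
                  rw [hb.add_left, h, zero_add]; exact MaxSymp.swap_ne hf hyu0
                have h3 := XS_add hf hy h1 h2
                by_cases h4 : x + u0 + y ∈ perp hb W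
                · -- then x + y ∈ perp
                  apply hXP
                  have h5 := (perp hb W).sub_mem h4 (hWP hu0)
                  have h6 : x + u0 + y - u0 = x + y := by abel
                  rwa [h6] at h5
                · have h5 := hcoset _ h3 h4 (-u0) ((perp hb W).neg_mem (hWP hu0))
                  have h6 : x + u0 + y + -u0 = x + y := by abel
                  rwa [h6] at h5
            · exact XS_add hf hy hx h
      let S : Submodule F (ι → F) :=
        { carrier := {x | XS f M x}
          add_mem' := fun {a b} ha hb => hadd a b ha hb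
          zero_mem' := XS_zero
          smul_mem' := fun c x hx => XS_smul hf hx c }
      have hSmap : ∀ h ∈ M, ∀ x ∈ S, (h : Matrix ι ι F) *ᵥ x ∈ S := fun h hh x hx => XS_map hf hh ((hK h).1 (hMK hh)) hx
      have hStop : S = ⊤ := by
        by_contra hne
        -- S^⊥ ≠ 0
        have hSle : perp hb S ≤ W := by
          intro x hx
          rw [← perp_perp hf W]
          intro y hy
          exact hx y (hXP y hy)
        have hSne : perp hb S ≠ ⊥ := by
          intro h
          apply hne
          rw [← perp_perp hf S, h]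
          rw [eq_top_iff]
          intro x _ y hy
          rw [(Submodule.mem_bot F).1 hy]
          have := hb.smul_right 0 x 0
          simpa using this
        obtain ⟨y, hy, hy0⟩ := (Submodule.ne_bot_iff _).1 hSne
        -- an element of W outside S^⊥
        obtain ⟨a, ha, haS⟩ : ∃ a ∈ W, a ∉ perp hb S := by
          by_contra hcon
          push Not at hcon
          -- then W ≤ S^⊥ so S ≤ W^⊥, contradiction with z
          apply hz2
          intro u hu
          exact MaxSymp.swap_zero hf (hcon u hu _ hXz)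
        -- b with f y b ≠ 0, f a b = 0
        have ha0 : a ≠ 0 := by
          rintro rfl
          exact haS (perp hb S).zero_mem
        obtain ⟨b, hb1, hb2⟩ : ∃ b, f a b = 0 ∧ f y b ≠ 0 := by
          refine MaxSymp.exists_perp (M := ⊤) hf le_top ha0 ?_
          intro c hc
          have hc0 : c ≠ 0 := by
            rintro rfl
            rw [zero_smul] at hc
            exact hy0 hc
          apply haS
          have := (perp hb S).smul_mem c⁻¹ hy
          rwa [hc, smul_smul, inv_mul_cancel₀ hc0, one_smul] at this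
        have hba : f b a = 0 := MaxSymp.swap_zero hf hb1
        obtain ⟨t1, ht1, -⟩ := exists_IsT hb (a + b) (a + b) (hf.alternating _)
        obtain ⟨t2, ht2, -⟩ := exists_IsT hb a ((-1 : F) • a) (by rw [hb.smul_right, hf.alternating, mul_zero])
        obtain ⟨t3, ht3, -⟩ := exists_IsT hb b ((-1 : F) • b) (by rw [hb.smul_right, hf.alternating, mul_zero])
        have ht1K : t1 ∈ K := isT_mem_K hf hK (c := 1) (by rw [one_smul]; exact ht1)
        have ht2K : t2 ∈ K := isT_mem_K hf hK ht2
        have ht3K : t3 ∈ K := isT_mem_K hf hK ht3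
        have hact : ∀ x, ((t1 * t2 * t3 : GL ι F) : Matrix ι ι F) *ᵥ x = x + f x b • a + f x a • b := by
          intro x
          rw [Units.val_mul, Units.val_mul, ← mulVec_mulVec, ← mulVec_mulVec, ht3 x, ht2, ht1]
          simp only [hb.add_left, hb.add_right, hb.smul_left, hb.smul_right, hf.alternating, hb1, hba]
          simp only [mul_zero, add_zero, zero_add, neg_mul, one_mul, neg_smul, smul_add, add_smul, neg_zero]
          abel
        have hstab : t1 * t2 * t3 ∈ subspaceStabilizer W := by
          apply mem_stab_of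
          intro x hx
          rw [hact, hW x hx a ha, zero_smul, add_zero]
          exact W.add_mem hx (W.smul_mem _ ha)
        have hhM : t1 * t2 * t3 ∈ M := hM ⟨hstab, K.mul_mem (K.mul_mem ht1K ht2K) ht3K⟩
        have hiso2 := (hK _).1 (hMK hhM)
        have h1 : ((t1 * t2 * t3 : GL ι F) : Matrix ι ι F) *ᵥ y ∈ perp hb S := by
          intro s hs
          have h2 := hSmap _ (M.inv_mem hhM) s hs
          have h3 := hy _ h2
          rw [← hiso2, mulVec_inv] at h3
          exact h3
        rw [hact, hW y (hSle hy) a ha, zero_smul, add_zero] at h1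
        have h2 := (perp hb S).sub_mem h1 hy
        rw [add_sub_cancel_left] at h2
        apply haS
        have := (perp hb S).smul_mem (f y b)⁻¹ h2
        rwa [smul_smul, inv_mul_cancel₀ hb2, one_smul] at this
      refine le_of_all_XS hf hK ?_
      intro u
      have : u ∈ S := by rw [hStop]; trivial
      exact this

end CfsgH9.MaxRedSp
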