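import Mathlib
import Cfsg.Prelude.Def_GeometricClasses
import Cfsg.Agent.H9.Transv
import Cfsg.Agent.H9.MaxSymp
import Cfsg.Agent.H9.SpGen
import Cfsg.Agent.H9.MaxRedSL
import Cfsg.Agent.H9.MaxRedSp
import Cfsg.Agent.H9.Alt

set_option autoImplicit false

/-! Maximality of stabilisers of orthogonal decompositions in the symplectic group. -/

namespace CfsgH9.MaxImpSp

open Matrix Cfsg Cfsg.Geo CfsgH9.Tv CfsgH9.MaxSymp CfsgH9.SpGen CfsgH9.MaxRedSp
open CfsgH9.MaxRedSL (mem_stab_of mem_stab_iff)

variable {ι : Type} [Fintype ι] [DecidableEq ι] {F : Type*} [Field F]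
variable {f : (ι → F) → (ι → F) → F}

/-- the matrix of a linear automorphism -/
def glOf (e : (ι → F) ≃ₗ[F] (ι → F)) : GL ι F where
  val := LinearMap.toMatrix' (e : (ι → F) →ₗ[F] (ι → F))
  inv := LinearMap.toMatrix' (e.symm : (ι → F) →ₗ[F] (ι → F))
  val_inv := by rw [← LinearMap.toMatrix'_comp]; simp
  inv_val := by rw [← LinearMap.toMatrix'_comp]; simp

lemma glOf_mulVec (e : (ι → F) ≃ₗ[F] (ι → F)) (x : ι → F) : ((glOf e : GL ι F) : Matrix ι ι F) *ᵥ x = e x := by
  show (LinearMap.toMatrix' (e : (ι → F) →ₗ[F] (ι → F))) *ᵥ x = e x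
  rw [LinearMap.toMatrix'_mulVec]
  rfl

lemma mem_decomp_of {t : ℕ} {k : ℕ} {D : Fin t → Submodule F (ι → F)} (hD : IsMDecomposition k D) {g : GL ι F}
    (σ : Equiv.Perm (Fin t)) (h : ∀ i, ∀ x ∈ D i, (g : Matrix ι ι F) *ᵥ x ∈ D (σ i)) :
    g ∈ decompositionStabilizer D := by
  refine ⟨σ, fun i => ?_⟩
  apply Submodule.eq_of_le_of_finrank_eq
  · rintro _ ⟨x, hx, rfl⟩
    rw [toLin'_apply]
    exact h i x hx
  · have : Module.finrank F (im g (D i)) = Module.finrank F (D i) := finrank_im g (D i)
    rw [hD.finrank_eq, ← hD.finrank_eq i, ← this]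
    rfl

/-- permuting isometries -/
lemma exists_perm (hf : IsSymplecticForm f) {t k : ℕ} {D : Fin t → Submodule F (ι → F)}
    (hD : IsNondegenerateMDecomposition f k D) (τ : Equiv.Perm (Fin t)) :
    ∃ g : GL ι F, (∀ x y, f ((g : Matrix ι ι F) *ᵥ x) ((g : Matrix ι ι F) *ᵥ y) = f x y) ∧
      ∀ i, ∀ x ∈ D i, (g : Matrix ι ι F) *ᵥ x ∈ D (τ i) := by
  have hbil := hf.bilinear
  set m := k / 2 with hm
  have hex : ∀ i, ∃ b : Module.Basis (Fin m ⊕ Fin m) F (D i), ∀ x y, f (b x) (b y) = Alt.gram F m x y := by
    intro i
    obtain ⟨m', b, hb, hm'⟩ := Alt.exists_basis (B := (toB hbil).restrict (D i)) (by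
      intro x hx
      have hx' : (x : ι → F) ≠ 0 := fun h => hx (Subtype.ext h)
      obtain ⟨-, y, hy, hxy⟩ := hD.nondegenerate i x x.2 hx'
      exact ⟨⟨y, hy⟩, hxy⟩) (fun x => hf.alternating _)
    rw [hD.decomp.finrank_eq] at hm'
    have : m' = m := by omega
    subst this
    exact ⟨b, hb⟩
  choose b hb using hex
  have hint := DirectSum.isInternal_submodule_of_iSupIndep_of_iSup_eq_top hD.decomp.indep hD.decomp.iSup_eq_top
  set C := hint.collectedBasis b with hC
  have hCapp : ∀ a, C a = (b a.1 a.2 : ι → F) := fun a => by rw [hC]; simp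
  let e : (Σ _ : Fin t, Fin m ⊕ Fin m) ≃ (Σ _ : Fin t, Fin m ⊕ Fin m) :=
    { toFun := fun a => ⟨τ a.1, a.2⟩
      invFun := fun a => ⟨τ.symm a.1, a.2⟩
      left_inv := fun a => by simp
      right_inv := fun a => by simp }
  let φ := C.equiv C e
  have hφ : ∀ a, φ (C a) = C ⟨τ a.1, a.2⟩ := fun a => C.equiv_apply a C e
  refine ⟨glOf φ, ?_, ?_⟩
  · have h1 : (toB hbil).comp (φ : (ι → F) →ₗ[F] (ι → F)) (φ : (ι → F) →ₗ[F] (ι → F)) = toB hbil := by
      apply LinearMap.BilinForm.ext_basis C
      intro a a'
      rw [LinearMap.BilinForm.comp_apply]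
      show f (φ (C a)) (φ (C a')) = f (C a) (C a')
      rw [hφ, hφ, hCapp, hCapp, hCapp, hCapp]
      by_cases h : a.1 = a'.1
      · obtain ⟨i, x⟩ := a
        obtain ⟨j, y⟩ := a'
        simp only at h
        subst h
        simp only [hb]
      · rw [hD.orthogonal _ _ h _ (SetLike.coe_mem _) _ (SetLike.coe_mem _)]
        exact hD.orthogonal _ _ (fun h' => h (τ.injective h')) _ (SetLike.coe_mem _) _ (SetLike.coe_mem _)
    intro x y
    rw [glOf_mulVec, glOf_mulVec]
    have := congrArg (fun B => B x y) h1
    exact this
  · intro i x hx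
    rw [glOf_mulVec]
    have h1 := (b i).sum_repr ⟨x, hx⟩
    have h2 : x = ∑ j, (b i).repr ⟨x, hx⟩ j • C ⟨i, j⟩ := by
      have := congrArg Subtype.val h1
      rw [Submodule.coe_sum] at this
      simp only [Submodule.coe_smul] at this
      simp only [hCapp]
      exact this.symm
    rw [h2, map_sum]
    refine Submodule.sum_mem _ fun j _ => ?_
    rw [map_smul, hφ, hCapp]
    exact Submodule.smul_mem _ _ (SetLike.coe_mem _)

/-- all stabilisers of decompositions are maximal except for planes over the field with two elements -/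
theorem decomp_max [Finite F] (hf : IsSymplecticForm f) {K : Subgroup (GL ι F)}
    (hK : ∀ g : GL ι F, g ∈ K ↔ ∀ x y, f ((g : Matrix ι ι F) *ᵥ x) ((g : Matrix ι ι F) *ᵥ y) = f x y)
    {t k : ℕ} {D : Fin t → Submodule F (ι → F)} (hD : IsNondegenerateMDecomposition f k D)
    (hne : ¬ (k = 2 ∧ Nat.card F = 2)) : IsMaximalIn K (decompositionStabilizer D ⊓ K) := by
  classical
  have hb := hf.bilinear
  have ht2 := hD.decomp.two_le
  -- non-zero vectors
  have hDne : ∀ i, ∃ x ∈ D i, x ≠ 0 := by
    intro i
    have h1 : D i ≠ ⊥ := by
      intro h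
      have := hD.decomp.finrank_eq i
      rw [h, finrank_bot] at this
      have := hD.decomp.pos
      omega
    obtain ⟨x, hx, hx0⟩ := (Submodule.ne_bot_iff _).1 h1
    exact ⟨x, hx, hx0⟩
  have hnd : ∀ i, ∀ x ∈ D i, x ≠ 0 → ∃ y ∈ D i, f x y ≠ 0 := fun i x hx hx0 => (hD.nondegenerate i x hx hx0).2
  have hsum_f : ∀ (w : Fin t → (ι → F)), (∀ i, w i ∈ D i) → ∀ i, ∀ u ∈ D i, f (∑ j, w j) u = f (w i) u := by
    intro w hw i u hu
    have h1 : f (∑ j, w j) u = ∑ j, f (w j) u := by
      have := map_sum ((toB hb).flip u) w Finset.univ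
      exact this
    rw [h1]
    apply Finset.sum_eq_single i
    · intro j _ hj
      exact hD.orthogonal j i hj _ (hw j) _ hu
    · intro h; exact absurd (Finset.mem_univ i) h
  have huniq : ∀ (w w' : Fin t → (ι → F)), (∀ i, w i ∈ D i) → (∀ i, w' i ∈ D i) → ∑ j, w j = ∑ j, w' j → w = w' := by
    intro w w' hw hw' h
    funext i
    by_contra hne
    obtain ⟨y, hy, hwy⟩ := hnd i (w i - w' i) ((D i).sub_mem (hw i) (hw' i)) (sub_ne_zero.2 hne)
    apply hwy
    rw [sub_left hf, ← hsum_f w hw i y hy, ← hsum_f w' hw' i y hy, h, sub_self]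
  have hexp : ∀ x : ι → F, ∃ w : Fin t → (ι → F), (∀ i, w i ∈ D i) ∧ ∑ j, w j = x := by
    intro x
    have hx : x ∈ iSup D := by rw [hD.decomp.iSup_eq_top]; trivial
    rw [Submodule.mem_iSup_iff_exists_finsupp] at hx
    obtain ⟨w, hw, hwx⟩ := hx
    refine ⟨w, hw, ?_⟩
    rw [← hwx, Finsupp.sum_fintype]
    intro i; rfl
  have h01 : ∃ i j : Fin t, i ≠ j := ⟨⟨0, by omega⟩, ⟨1, by omega⟩, by simp [Fin.ext_iff]⟩
  -- transvections with centre in D i
  have hstabD : ∀ i, ∀ u ∈ D i, ∀ (c : F) (g : GL ι F), IsT f g u (c • u) → g ∈ decompositionStabilizer D := by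
    intro i u hu c g hg
    refine mem_decomp_of hD.decomp 1 ?_
    intro j x hx
    rw [hg x]
    by_cases hij : j = i
    · subst hij
      exact (D j).add_mem hx ((D j).smul_mem _ hu)
    · rw [hb.smul_right, hD.orthogonal j i hij x hx u hu, mul_zero, zero_smul, add_zero]
      exact hx
  constructor
  · refine lt_of_le_of_ne inf_le_right ?_
    intro heq
    obtain ⟨i, j, hij⟩ := h01
    obtain ⟨x, hx, hx0⟩ := hDne i
    obtain ⟨y, hy, hy0⟩ := hDne j
    obtain ⟨g, hg, -⟩ := exists_IsT hb (x + y) (x + y) (hf.alternating _)
    have hgK : g ∈ K := isT_mem_K hf hK (c := 1) (by rw [one_smul]; exact hg)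
    rw [← heq] at hgK
    obtain ⟨σ, hσ⟩ := hgK.1
    obtain ⟨z, hz, hxz⟩ := hnd i x hx hx0
    -- g z = z + f z x (x + y)
    have h1 : (g : Matrix ι ι F) *ᵥ z ∈ D (σ i) := by
      rw [← hσ i]
      exact ⟨z, hz, by rw [toLin'_apply]⟩
    rw [hg z, hb.add_right, hD.orthogonal i j hij z hz y hy, add_zero] at h1
    have hzx : f z x ≠ 0 := MaxSymp.swap_ne hf hxz
    -- components: in D i : z + c x ; in D j : c y
    set w : Fin t → (ι → F) := Function.update (Function.update 0 i (z + f z x • x)) j (f z x • y) with hw
    have hwi : w i = z + f z x • x := by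
      rw [hw, Function.update_of_ne hij, Function.update_self]
    have hwj : w j = f z x • y := by rw [hw, Function.update_self]
    have hwo : ∀ l, l ≠ i → l ≠ j → w l = 0 := by
      intro l hl hl'
      rw [hw, Function.update_of_ne hl', Function.update_of_ne hl]; rfl
    have hwD : ∀ l, w l ∈ D l := by
      intro l
      by_cases hl : l = i
      · subst hl; rw [hwi]; exact (D l).add_mem hz ((D l).smul_mem _ hx)
      by_cases hl' : l = j
      · subst hl'; rw [hwj]; exact (D l).smul_mem _ hy
      rw [hwo l hl hl']; exact (D l).zero_mem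
    have hws : ∑ l, w l = z + f z x • (x + y) := by
      rw [← Finset.sum_subset (Finset.subset_univ {i, j}) (fun l _ hl => by
        simp only [Finset.mem_insert, Finset.mem_singleton, not_or] at hl
        exact hwo l hl.1 hl.2), Finset.sum_pair hij, hwi, hwj, smul_add, add_assoc]
    have h2 : w = Function.update (0 : Fin t → (ι → F)) (σ i) (z + f z x • (x + y)) := by
      apply huniq w _ hwD
      · intro l
        by_cases hl : l = σ i
        · subst hl; rw [Function.update_self]; exact h1
        · rw [Function.update_of_ne hl]; exact (D l).zero_mem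
      · rw [hws, Finset.sum_update_of_mem (Finset.mem_univ _)]
        simp
    have hwj0 : w j ≠ 0 := by rw [hwj]; exact smul_ne_zero hzx hy0
    have hwi0 : w i ≠ 0 := by
      intro h
      rw [hwi] at h
      have h3 : f x (z + f z x • x) = 0 := by
        rw [h]; have := hb.smul_right 0 x 0; simpa using this
      rw [hb.add_right, hb.smul_right, hf.alternating, mul_zero, add_zero] at h3
      exact hxz h3
    have h4 : j = σ i := by
      by_contra h
      apply hwj0
      rw [h2, Function.update_of_ne h]; rfl
    have h5 : i = σ i := by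
      by_contra h
      apply hwi0
      rw [h2, Function.update_of_ne h]; rfl
    exact hij (h5.trans h4.symm)
  · intro M hM hMK
    by_cases hsub : M ≤ decompositionStabilizer D
    · left
      exact le_antisymm (le_inf hsub hMK) hM
    right
    refine le_antisymm hMK ?_
    obtain ⟨g, hg, hgn⟩ : ∃ g ∈ M, g ∉ decompositionStabilizer D := by
      by_contra hcon
      push Not at hcon
      exact hsub hcon
    have hiso := (hK g).1 (hMK hg)
    have hXD : ∀ i, ∀ u ∈ D i, XS f M u := fun i u hu c g hg => hM ⟨hstabD i u hu c g hg, isT_mem_K hf hK hg⟩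
    -- a vector moved off the D's
    obtain ⟨i0, z, hz, hgz⟩ : ∃ i0, ∃ z ∈ D i0, ∀ j, (g : Matrix ι ι F) *ᵥ z ∉ D j := by
      by_contra hcon
      push Not at hcon
      apply hgn
      -- define σ
      have h1 : ∀ i, ∃ j, ∀ x ∈ D i, (g : Matrix ι ι F) *ᵥ x ∈ D j := by
        intro i
        obtain ⟨x0, hx0, hx00⟩ := hDne i
        obtain ⟨j, hj⟩ := hcon i x0 hx0
        refine ⟨j, ?_⟩
        have hstep : ∀ x ∈ D i, ∀ y ∈ D i, f x y ≠ 0 → (g : Matrix ι ι F) *ᵥ x ∈ D j → (g : Matrix ι ι F) *ᵥ y ∈ D j := by
          intro x hx y hy hxy hgx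
          obtain ⟨l, hl⟩ := hcon i y hy
          by_cases hlj : l = j
          · rw [← hlj]; exact hl
          · exfalso
            apply hxy
            rw [← hiso]
            exact hD.orthogonal j l (Ne.symm hlj) _ hgx _ hl
        intro x hx
        by_cases hx1 : x = 0
        · subst hx1; rw [mulVec_zero]; exact (D j).zero_mem
        obtain ⟨y, hy, h1, h2⟩ := two_nonzero (fun z => f x0 z) (fun z => f x z) (fun x y => hb.add_right _ _ _)
          (fun x y => hb.add_right _ _ _) (fun z => z ∈ D i) (fun x y hx hy => (D i).add_mem hx hy)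
          (hnd i x0 hx0 hx00) (hnd i x hx hx1)
        exact hstep y hy x hx (MaxSymp.swap_ne hf h2) (hstep x0 hx0 y hy h1 hj)
      choose σ hσ using h1
      have hσinj : Function.Injective σ := by
        intro i j hij
        by_contra hne
        -- D (σ i) contains g(D i) and g(D j), orthogonal and of full dimension
        obtain ⟨x, hx, hx0⟩ := hDne i
        have h2 : im g (D j) = D (σ j) := by
          apply Submodule.eq_of_le_of_finrank_eq
          · rintro _ ⟨y, hy, rfl⟩
            exact hσ j y hy
          · rw [finrank_im, hD.decomp.finrank_eq, hD.decomp.finrank_eq]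
        have h3 : (g : Matrix ι ι F) *ᵥ x ∈ im g (D j) := by rw [h2, ← hij]; exact hσ i x hx
        obtain ⟨y, hy, hyx⟩ := h3
        have h4 : y = x := by
          have h5 : (g : Matrix ι ι F) *ᵥ y = (g : Matrix ι ι F) *ᵥ x := hyx
          rw [← inv_mulVec g y, h5, inv_mulVec]
        rw [h4] at hy
        obtain ⟨u, hu, hxu⟩ := hnd i x hx hx0
        exact hxu (hD.orthogonal j i (Ne.symm hne) x hy u hu)
      exact mem_decomp_of hD.decomp (Equiv.ofBijective σ (Finite.injective_iff_bijective.1 hσinj)) (fun i x hx => hσ i x hx)
    have hXz := XS_map hf hg hiso (hXD i0 z hz)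
    obtain ⟨w, hw, hwz⟩ := hexp ((g : Matrix ι ι F) *ᵥ z)
    rw [← hwz] at hXz hgz
    -- changing components preserving the support
    have hchange : ∀ (w w' : Fin t → (ι → F)), (∀ i, w i ∈ D i) → (∀ i, w' i ∈ D i) → (∀ i, w i = 0 ↔ w' i = 0) →
        XS f M (∑ j, w j) → XS f M (∑ j, w' j) := by
      intro w w' hw hw' hsupp hX
      have key : ∀ T : Finset (Fin t), XS f M (∑ j, if j ∈ T then w' j else w j) := by
        intro T
        induction T using Finset.induction_on with
        | empty => simpa using hX
        | insert a T haT ih =>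
          by_cases ha0 : w a = 0
          · have h1 : (∑ j, if j ∈ insert a T then w' j else w j) = ∑ j, if j ∈ T then w' j else w j := by
              refine Finset.sum_congr rfl fun j _ => ?_
              by_cases hja : j = a
              · subst hja
                rw [if_pos (Finset.mem_insert_self _ _), if_neg haT, (hsupp j).1 ha0, ha0]
              · by_cases hjT : j ∈ T
                · rw [if_pos (Finset.mem_insert_of_mem hjT), if_pos hjT]
                · rw [if_neg (by simp [hja, hjT]), if_neg hjT]
            rw [h1]; exact ih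
          · -- use change in D a
            set v : Fin t → (ι → F) := fun j => if j ∈ T then w' j else w j with hv
            have hvD : ∀ j, v j ∈ D j := by
              intro j
              rw [hv]
              by_cases hjT : j ∈ T
              · simp only [if_pos hjT]; exact hw' j
              · simp only [if_neg hjT]; exact hw j
            have hva : v a = w a := by rw [hv]; simp only [if_neg haT]
            have h2 : ∀ x, x ∈ D a → ∑ j, Function.update v a x j = x + ∑ j ∈ Finset.univ \ {a}, v j := by
              intro x _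
              rw [Finset.sum_update_of_mem (Finset.mem_univ a)]
            have h3 : (∑ j, if j ∈ insert a T then w' j else w j) = ∑ j, Function.update v a (w' a) j := by
              refine Finset.sum_congr rfl fun j _ => ?_
              by_cases hja : j = a
              · subst hja
                rw [if_pos (Finset.mem_insert_self _ _), Function.update_self]
              · rw [Function.update_of_ne hja, hv]
                by_cases hjT : j ∈ T
                · simp only [if_pos (Finset.mem_insert_of_mem hjT), if_pos hjT]
                · simp only [if_neg (show ¬ j ∈ insert a T by simp [hja, hjT]), if_neg hjT]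
            rw [h3]
            refine change hf (E := D a) (hnd a) (fun x => XS f M (∑ j, Function.update v a x j)) ?_ (hw a) ha0 ?_ (hw' a)
              (fun h => ha0 ((hsupp a).2 h))
            · intro x hx u hu c hP
              have hupd : ∀ l, Function.update v a x l ∈ D l := by
                intro l
                by_cases hl : l = a
                · subst hl; rw [Function.update_self]; exact hx
                · rw [Function.update_of_ne hl]; exact hvD l
              have h4 := XS_step hf (hXD a u hu) hP c
              rw [hsum_f _ hupd a u hu, Function.update_self] at h4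
              show XS f M (∑ j, Function.update v a (x + (c * f x u) • u) j)
              rw [h2 _ ((D a).add_mem hx ((D a).smul_mem _ hu))]
              rw [h2 _ hx] at h4
              have h5 : x + ∑ j ∈ Finset.univ \ {a}, v j + (c * f x u) • u =
                x + (c * f x u) • u + ∑ j ∈ Finset.univ \ {a}, v j := by abel
              rwa [h5] at h4
            · show XS f M (∑ j, Function.update v a (w a) j)
              rw [← hva, Function.update_eq_self]
              exact ih
      have := key Finset.univ
      simpa using this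
    -- the support has at least two elements
    obtain ⟨p, q, hpq, hwp, hwq⟩ : ∃ p q, p ≠ q ∧ w p ≠ 0 ∧ w q ≠ 0 := by
      by_contra hcon
      push Not at hcon
      by_cases hall : ∀ i, w i = 0
      · apply hgz i0
        rw [Finset.sum_eq_zero (fun i _ => hall i)]
        exact (D i0).zero_mem
      · push Not at hall
        obtain ⟨p, hp⟩ := hall
        apply hgz p
        rw [Finset.sum_eq_single p (fun q _ hq => by
          by_contra hne
          exact hne (hcon p q (Ne.symm hq) hp)) (fun h => absurd (Finset.mem_univ p) h)]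
        exact hw p
    -- vectors with support {p,q}
    have hpair : ∃ x ∈ D p, ∃ y ∈ D q, x ≠ 0 ∧ y ≠ 0 ∧ XS f M (x + y) := by
      -- a vector u in D p with f u (w p) ≠ 0
      obtain ⟨u, hu, hwu⟩ := hnd p (w p) (hw p) hwp
      -- a vector y in D q, y ≠ 0, y ≠ - w q, f (w q) y = 0
      obtain ⟨y, hy, hy0, hyw, hfy⟩ : ∃ y ∈ D q, y ≠ 0 ∧ y + w q ≠ 0 ∧ f (w q) y = 0 := by
        by_cases hF : ∃ c : F, c ≠ 0 ∧ c ≠ -1
        · obtain ⟨c, hc0, hc1⟩ := hF
          refine ⟨c • w q, (D q).smul_mem _ (hw q), smul_ne_zero hc0 hwq, ?_, ?_⟩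
          · have : c • w q + w q = (c + 1) • w q := by rw [add_smul, one_smul]
            rw [this]
            refine smul_ne_zero ?_ hwq
            intro h
            exact hc1 (eq_neg_of_add_eq_zero_left h)
          · rw [hb.smul_right, hf.alternating, mul_zero]
        · -- |F| = 2
          push Not at hF
          have hcard : Nat.card F = 2 := by
            have h11 : (1 : F) = -1 := hF 1 one_ne_zero
            rw [Nat.card_eq_two_iff]
            refine ⟨0, 1, zero_ne_one, ?_⟩
            rw [Set.eq_univ_iff_forall]
            intro c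
            by_cases hc : c = 0
            · left; exact hc
            · right
              show c = 1
              rw [hF c hc, ← h11]
          have hk : k ≠ 2 := fun h => hne ⟨h, hcard⟩
          -- k ≥ 3
          have hk2 : 2 < k := by
            obtain ⟨m', b', -, hm'⟩ := Alt.exists_basis (B := (toB hb).restrict (D q)) (by
              intro x hx
              have hx' : (x : ι → F) ≠ 0 := fun h => hx (Subtype.ext h)
              obtain ⟨y, hy, hxy⟩ := hnd q x x.2 hx'
              exact ⟨⟨y, hy⟩, hxy⟩) (fun x => hf.alternating _)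
            rw [hD.decomp.finrank_eq] at hm'
            have := hD.decomp.pos
            omega
          -- kernel of f (w q) on D q
          let L : D q →ₗ[F] F := ((toB hb) (w q)).comp (D q).subtype
          have h1 := LinearMap.finrank_range_add_finrank_ker L
          have h2 : Module.finrank F (LinearMap.range L) ≤ 1 := by
            have := Submodule.finrank_le (LinearMap.range L)
            simpa using this
          rw [hD.decomp.finrank_eq] at h1
          have h3 : ¬ (LinearMap.ker L ≤ Submodule.span F {(⟨w q, hw q⟩ : D q)}) := by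
            intro hle
            have h4 := Submodule.finrank_mono hle
            have h5 : Module.finrank F (Submodule.span F {(⟨w q, hw q⟩ : D q)}) = 1 :=
              finrank_span_singleton (fun h => hwq (congrArg Subtype.val h))
            omega
          obtain ⟨y, hy, hyn⟩ := SetLike.not_le_iff_exists.1 h3
          refine ⟨y, y.2, ?_, ?_, hy⟩
          · intro h
            apply hyn
            have : y = 0 := Subtype.ext h
            rw [this]; exact Submodule.zero_mem _
          · intro h
            apply hyn
            rw [Submodule.mem_span_singleton]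
            refine ⟨-1, ?_⟩
            apply Subtype.ext
            rw [Submodule.coe_smul, neg_one_smul]
            exact (eq_neg_of_add_eq_zero_left h).symm
      -- w' : p ↦ c u, q ↦ y, others ↦ - w i
      have hu0 : u ≠ 0 := by
        rintro rfl
        apply hwu
        have := hb.smul_right 0 (w p) 0
        simpa using this
      set w' : Fin t → (ι → F) := fun i => if i = p then u else if i = q then y else - w i with hw'
      have hw'p : w' p = u := by rw [hw']; simp
      have hw'q : w' q = y := by rw [hw']; simp [Ne.symm hpq]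
      have hw'o : ∀ i, i ≠ p → i ≠ q → w' i = - w i := by
        intro i h1 h2; rw [hw']; simp [h1, h2]
      have hw'D : ∀ i, w' i ∈ D i := by
        intro i
        by_cases h1 : i = p
        · subst h1; rw [hw'p]; exact hu
        by_cases h2 : i = q
        · subst h2; rw [hw'q]; exact hy
        rw [hw'o i h1 h2]; exact (D i).neg_mem (hw i)
      have hX' : XS f M (∑ j, w' j) := by
        refine hchange w w' hw hw'D ?_ hXz
        intro i
        by_cases h1 : i = p
        · subst h1; rw [hw'p]; exact ⟨fun h => absurd h hwp, fun h => absurd h hu0⟩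
        by_cases h2 : i = q
        · subst h2; rw [hw'q]; exact ⟨fun h => absurd h hwq, fun h => absurd h hy0⟩
        rw [hw'o i h1 h2, neg_eq_zero]
      -- the form value
      have hval : f (∑ j, w j) (∑ j, w' j) ≠ 0 := by
        have h1 : f (∑ j, w j) (∑ j, w' j) = ∑ j, f (w j) (w' j) := by
          have h2 : f (∑ j, w j) (∑ j, w' j) = ∑ j, f (∑ i, w i) (w' j) := by
            have := map_sum ((toB hb) (∑ j, w j)) w' Finset.univ
            exact this
          rw [h2]
          exact Finset.sum_congr rfl fun j _ => hsum_f w hw j _ (hw'D j)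
        rw [h1, Finset.sum_eq_single p]
        · rw [hw'p]; exact hwu
        · intro i _ hi
          by_cases h2 : i = q
          · subst h2; rw [hw'q]; exact hfy
          · rw [hw'o i hi h2, ← neg_one_smul F, hb.smul_right, hf.alternating, mul_zero]
        · intro h; exact absurd (Finset.mem_univ p) h
      have h5 := XS_add hf hX' hXz hval
      refine ⟨w p + u, (D p).add_mem (hw p) hu, w q + y, (D q).add_mem (hw q) hy, ?_, ?_, ?_⟩
      · intro h
        apply hwu
        have h6 : f (w p) (w p + u) = 0 := by
          rw [h]; have := hb.smul_right 0 (w p) 0; simpa using this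
        rwa [hb.add_right, hf.alternating, zero_add] at h6
      · rw [add_comm]; exact hyw
      · have h6 : ∑ j, w j + ∑ j, w' j = w p + u + (w q + y) := by
          rw [← Finset.sum_add_distrib, ← Finset.sum_subset (Finset.subset_univ {p, q}) (fun l _ hl => by
            simp only [Finset.mem_insert, Finset.mem_singleton, not_or] at hl
            rw [hw'o l hl.1 hl.2]; simp), Finset.sum_pair hpq, hw'p, hw'q]
        rwa [h6] at h5
    obtain ⟨x0, hx0, y0, hy0, hx00, hy00, hX0⟩ := hpair
    -- all pairs
    have hpairs : ∀ i j, i ≠ j → ∀ x ∈ D i, ∀ y ∈ D j, x ≠ 0 → y ≠ 0 → XS f M (x + y) := by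
      intro i j hij x hx y hy hx0' hy0'
      -- a permutation mapping p to i and q to j
      obtain ⟨τ, hτp, hτq⟩ : ∃ τ : Equiv.Perm (Fin t), τ p = i ∧ τ q = j := by
        refine ⟨Equiv.swap (Equiv.swap p i q) j * Equiv.swap p i, ?_, ?_⟩
        · rw [Equiv.Perm.mul_apply, Equiv.swap_apply_left, Equiv.swap_apply_of_ne_of_ne]
          · intro h
            have h2 : Equiv.swap p i p = Equiv.swap p i q := by rw [Equiv.swap_apply_left]; exact h
            exact hpq ((Equiv.swap p i).injective h2)
          · exact hij
        · rw [Equiv.Perm.mul_apply, Equiv.swap_apply_left]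
      obtain ⟨h, hhiso, hh⟩ := exists_perm hf hD τ
      have hhM : h ∈ M := hM ⟨mem_decomp_of hD.decomp τ hh, (hK h).2 hhiso⟩
      have h1 := XS_map hf hhM hhiso hX0
      rw [mulVec_add] at h1
      have h2 := hh p x0 hx0
      have h3 := hh q y0 hy0
      rw [hτp] at h2
      rw [hτq] at h3
      -- use hchange with supports {i,j}
      have hsingle : ∀ a b : ι → F, a ∈ D i → b ∈ D j → ∃ v : Fin t → (ι → F), (∀ l, v l ∈ D l) ∧ v i = a ∧ v j = b ∧
          (∀ l, l ≠ i → l ≠ j → v l = 0) ∧ ∑ l, v l = a + b := by
        intro a b ha hb'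
        refine ⟨fun l => if l = i then a else if l = j then b else 0, ?_, by simp, by simp [Ne.symm hij], ?_, ?_⟩
        · intro l
          by_cases h1 : l = i
          · subst h1; simp [ha]
          by_cases h2 : l = j
          · subst h2; simp [h1, hb']
          simp [h1, h2]
        · intro l h1 h2; simp [h1, h2]
        · rw [← Finset.sum_subset (Finset.subset_univ {i, j}) (fun l _ hl => by
            simp only [Finset.mem_insert, Finset.mem_singleton, not_or] at hl
            simp [hl.1, hl.2]), Finset.sum_pair hij]
          simp [Ne.symm hij]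
      obtain ⟨v, hvD, hvi, hvj, hvo, hvs⟩ := hsingle _ _ h2 h3
      obtain ⟨v', hv'D, hv'i, hv'j, hv'o, hv's⟩ := hsingle x y hx hy
      rw [← hv's]
      refine hchange v v' hvD hv'D ?_ (by rw [hvs]; exact h1)
      intro l
      by_cases hl : l = i
      · subst hl
        rw [hvi, hv'i]
        exact ⟨fun h => absurd h (mulVec_ne_zero _ hx00), fun h => absurd h hx0'⟩
      by_cases hl' : l = j
      · subst hl'
        rw [hvj, hv'j]
        exact ⟨fun h => absurd h (mulVec_ne_zero _ hy00), fun h => absurd h hy0'⟩
      rw [hvo l hl hl', hv'o l hl hl']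
    -- all vectors, by induction on the support
    have hallfin : ∀ T : Finset (Fin t), ∀ w : Fin t → (ι → F), (∀ i, w i ∈ D i) → XS f M (∑ j ∈ T, w j) := by
      intro T
      induction T using Finset.induction_on with
      | empty => intro w _; simpa using XS_zero
      | insert a T haT ih =>
        intro w hw
        rw [Finset.sum_insert haT]
        by_cases hwa : w a = 0
        · rw [hwa, zero_add]; exact ih w hw
        by_cases hT : ∀ j ∈ T, w j = 0
        · rw [Finset.sum_eq_zero hT, add_zero]; exact hXD a _ (hw a)
        push Not at hT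
        obtain ⟨b, hbT, hwb⟩ := hT
        have hab : a ≠ b := fun h => haT (h ▸ hbT)
        -- choose v ∈ D b with f (w b) v ≠ 0 ; write w a + w b = (w a + v) + (w b - v)
        obtain ⟨v, hv, hwv⟩ := hnd b (w b) (hw b) hwb
        have hv0 : v ≠ 0 := by
          rintro rfl
          apply hwv
          have := hb.smul_right 0 (w b) 0
          simpa using this
        have h1 := hpairs a b hab (w a) (hw a) v hv hwa hv0
        have h2 := ih (Function.update w b (w b - v)) (by
          intro l
          by_cases hl : l = b
          · subst hl; rw [Function.update_self]; exact (D l).sub_mem (hw l) hv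
          · rw [Function.update_of_ne hl]; exact hw l)
        have h3 : ∑ j ∈ T, Function.update w b (w b - v) j = (w b - v) + ∑ j ∈ T \ {b}, w j :=
          Finset.sum_update_of_mem hbT _ _
        have h4 : ∑ j ∈ T, w j = w b + ∑ j ∈ T \ {b}, w j := by
          rw [← Finset.sum_update_of_mem hbT w (w b), Function.update_eq_self]
        rw [h3] at h2
        have h5 : f (w b - v + ∑ j ∈ T \ {b}, w j) (w a + v) ≠ 0 := by
          have h6 : ∀ S : Finset (Fin t), ∀ u, u ∈ D a ∨ u ∈ D b → (a ∉ S) → (b ∉ S) → f (∑ j ∈ S, w j) u = 0 := by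
            intro S u hu haS hbS
            have h7 : f (∑ j ∈ S, w j) u = ∑ j ∈ S, f (w j) u := by
              have := map_sum ((toB hb).flip u) w S
              exact this
            rw [h7]
            apply Finset.sum_eq_zero
            intro j hj
            rcases hu with hu | hu
            · exact hD.orthogonal j a (fun h => haS (h ▸ hj)) _ (hw j) _ hu
            · exact hD.orthogonal j b (fun h => hbS (h ▸ hj)) _ (hw j) _ hu
          have haS : a ∉ T \ {b} := fun h => haT (Finset.mem_sdiff.1 h).1
          have hbS : b ∉ T \ {b} := by simp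
          rw [hb.add_left, hb.add_right, hb.add_right, h6 _ _ (Or.inl (hw a)) haS hbS, h6 _ _ (Or.inr hv) haS hbS,
            sub_left hf, sub_left hf, hf.alternating v, hD.orthogonal b a (Ne.symm hab) _ (hw b) _ (hw a),
            hD.orthogonal b a (Ne.symm hab) _ hv _ (hw a)]
          simpa using hwv
        have h6 := XS_add hf h1 h2 h5
        have h7 : w b - v + ∑ j ∈ T \ {b}, w j + (w a + v) = w a + ∑ j ∈ T, w j := by
          rw [h4]; abel
        rwa [h7] at h6
    refine le_of_all_XS hf hK ?_
    intro u
    obtain ⟨w, hw, hwu⟩ := hexp u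
    rw [← hwu]
    exact hallfin _ w hw

end CfsgH9.MaxImpSp
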