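import Mathlib
import Cfsg.Prelude.Def_ClassicalGeometry
import Cfsg.Agent.H9.SpGen
import Cfsg.Agent.H9.WittInst
import Cfsg.Agent.H9.MaxImpSp

set_option autoImplicit false

/-! Bridge between Mathlib's symplectic group and isometries of `sympForm`. -/

namespace CfsgH9.SpBridge

open Matrix Cfsg Cfsg.Geo CfsgH9.Tv CfsgH9.MaxSymp CfsgH9.SpGen CfsgH9.MaxRedSp CfsgH9.MaxImpSp

variable {F : Type*} [Field F] {m : ℕ}

lemma mem_iff (A : Matrix (Fin m ⊕ Fin m) (Fin m ⊕ Fin m) F) :
    A ∈ Matrix.symplecticGroup (Fin m) F ↔ ∀ u v, sympForm m F (A *ᵥ u) (A *ᵥ v) = sympForm m F u v := by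
  rw [SymplecticGroup.mem_iff']
  have key : ∀ u v, sympForm m F (A *ᵥ u) (A *ᵥ v) = u ⬝ᵥ ((Aᵀ * J (Fin m) F * A) *ᵥ v) := by
    intro u v
    rw [sympForm, mulVec_mulVec, ← Matrix.vecMul_transpose, ← dotProduct_mulVec, mulVec_mulVec, Matrix.mul_assoc]
  constructor
  · intro h u v
    rw [key, h]; rfl
  · intro h
    ext i j
    have h1 := h (Pi.single i 1) (Pi.single j 1)
    rw [key, sympForm] at h1
    simpa using h1

lemma transv_mulVec (v : Fin m ⊕ Fin m → F) (c : F) (x : Fin m ⊕ Fin m → F) :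
    sympTransvection m v c *ᵥ x = x + (c * sympForm m F x v) • v := by
  rw [sympTransvection, add_mulVec, one_mulVec, smul_mulVec, sympForm, dotProduct_comm x]
  congr 1
  ext i
  simp only [Pi.smul_apply, smul_eq_mul, mulVec, vecMulVec_apply, dotProduct]
  rw [Finset.mul_sum, Finset.mul_sum, Finset.sum_mul]
  exact Finset.sum_congr rfl fun j _ => by ring

lemma transv_mem (v : Fin m ⊕ Fin m → F) (c : F) : sympTransvection m v c ∈ Matrix.symplecticGroup (Fin m) F := by
  have hf := sympForm_isSymplectic (F := F) m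
  have hb := hf.bilinear
  rw [mem_iff]
  intro x y
  rw [transv_mulVec, transv_mulVec]
  simp only [hb.add_left, hb.add_right, hb.smul_left, hb.smul_right, hf.alternating]
  rw [hf.skew v y]
  ring

/-- the inclusion in GL -/
def toGL (m : ℕ) (F : Type*) [Field F] : Matrix.symplecticGroup (Fin m) F →* GL (Fin m ⊕ Fin m) F :=
  (spToMat m F).toHomUnits

lemma toGL_val (A : Matrix.symplecticGroup (Fin m) F) : ((toGL m F A : GL (Fin m ⊕ Fin m) F) :
    Matrix (Fin m ⊕ Fin m) (Fin m ⊕ Fin m) F) = (A : Matrix (Fin m ⊕ Fin m) (Fin m ⊕ Fin m) F) := rfl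

lemma toGL_inj : Function.Injective (toGL m F) := by
  intro A B h
  apply Subtype.ext
  rw [← toGL_val, h, toGL_val]

/-- the generating set of transvections -/
def tset (m : ℕ) (F : Type*) [Field F] : Set (Matrix.symplecticGroup (Fin m) F) :=
  {A | ∃ (w : Fin m ⊕ Fin m → F) (c : F), (A : Matrix (Fin m ⊕ Fin m) (Fin m ⊕ Fin m) F) = sympTransvection m w c}

theorem closure_eq_top : Subgroup.closure (tset m F) = ⊤ := by
  rw [eq_top_iff]
  intro A _
  have h1 : toGL m F A ∈ (Subgroup.closure (tset m F)).map (toGL m F) := by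
    refine mem_of_isometry (sympForm_isSymplectic (F := F) m) ?_ _ ?_
    · intro u c
      refine ⟨toGL m F ⟨_, transv_mem u c⟩, ⟨_, Subgroup.subset_closure ⟨u, c, rfl⟩, rfl⟩, ?_⟩
      intro x
      rw [toGL_val, transv_mulVec, (sympForm_isSymplectic (F := F) m).bilinear.smul_right]
    · intro x y
      rw [toGL_val]
      exact (mem_iff _).1 A.2 x y
  obtain ⟨B, hB, hBA⟩ := h1
  rwa [← toGL_inj hBA]

/-- the form as a bilinear form -/
noncomputable def form (m : ℕ) (F : Type*) [Field F] : LinearMap.BilinForm F (Fin m ⊕ Fin m → F) :=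
  toB (sympForm_isSymplectic (F := F) m).bilinear

lemma form_apply (x y : Fin m ⊕ Fin m → F) : form m F x y = sympForm m F x y := rfl

lemma fm (m : ℕ) (F : Type*) [Field F] : Witt.Fm (σ := RingHom.id F) (form m F) (fun _ => (0 : F)) 0 (fun _ => 0) (-1) :=
  Witt.fm_alt (form m F) (toB_nondeg (sympForm_isSymplectic (F := F) m)) (sympForm_isSymplectic (F := F) m).alternating

/-- from a linear isometry to an element of the symplectic group -/
lemma exists_mem {g : (Fin m ⊕ Fin m → F) ≃ₗ[F] (Fin m ⊕ Fin m → F)}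
    (hg : ∀ u v, sympForm m F (g u) (g v) = sympForm m F u v) :
    ∃ A : Matrix.symplecticGroup (Fin m) F, ∀ x, (A : Matrix (Fin m ⊕ Fin m) (Fin m ⊕ Fin m) F) *ᵥ x = g x := by
  refine ⟨⟨(glOf g : GL (Fin m ⊕ Fin m) F), ?_⟩, fun x => glOf_mulVec g x⟩
  rw [mem_iff]
  intro u v
  rw [glOf_mulVec, glOf_mulVec, hg]

/-- transitivity on hyperbolic pairs -/
theorem exists_pair {u v u' v' : Fin m ⊕ Fin m → F} (h : sympForm m F u v = 1) (h' : sympForm m F u' v' = 1) :
    ∃ A : Matrix.symplecticGroup (Fin m) F, (A : Matrix (Fin m ⊕ Fin m) (Fin m ⊕ Fin m) F) *ᵥ u = u' ∧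
      (A : Matrix (Fin m ⊕ Fin m) (Fin m ⊕ Fin m) F) *ᵥ v = v' := by
  have hf := sympForm_isSymplectic (F := F) m
  have hb := hf.bilinear
  have hne : ∀ {u v : Fin m ⊕ Fin m → F}, sympForm m F u v = 1 → u ≠ 0 := by
    rintro u v h rfl
    have h1 := hb.smul_left 0 0 v
    rw [zero_smul, zero_mul] at h1
    rw [h1] at h
    exact zero_ne_one h
  have hP0 : Witt.Pres (form m F) (fun _ => (0 : F)) (⊥ : Submodule F (Fin m ⊕ Fin m → F)) LinearMap.id :=
    ⟨fun _ _ _ _ => rfl, fun _ _ => rfl, fun _ _ h => h⟩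
  obtain ⟨f1, hf1, -, hf1u⟩ := (fm m F).step hP0 (w := u) (w' := u') (by simpa using hne h) (by
    intro x hx
    rw [Submodule.mem_bot] at hx
    rw [hx, map_zero]
    exact (hne h').symm) (by
    intro x hx
    rw [Submodule.mem_bot] at hx
    rw [hx, map_zero, map_zero, map_zero]) rfl
  have hvn : v ∉ (⊥ : Submodule F (Fin m ⊕ Fin m → F)) ⊔ Submodule.span F {u} := by
    rw [bot_sup_eq, Submodule.mem_span_singleton]
    rintro ⟨c, rfl⟩
    rw [hb.smul_right, hf.alternating, mul_zero] at h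
    exact zero_ne_one h
  obtain ⟨f2, hf2, hf2U, hf2v⟩ := (fm m F).step hf1 (w := v) (w' := v') hvn (by
    intro x hx hxv
    rw [bot_sup_eq] at hx
    obtain ⟨c, rfl⟩ := Submodule.mem_span_singleton.1 hx
    rw [map_smul, hf1u] at hxv
    rw [← hxv, hb.smul_right, hf.alternating, mul_zero] at h'
    exact zero_ne_one h') (by
    intro x hx
    rw [bot_sup_eq] at hx
    obtain ⟨c, rfl⟩ := Submodule.mem_span_singleton.1 hx
    rw [map_smul, hf1u, map_smul, map_smul, form_apply, form_apply, hf.skew v' u', hf.skew v u, h, h']) rfl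
  obtain ⟨g, hg, hgf⟩ := (fm m F).extend _ _ f2 le_rfl hf2
  obtain ⟨A, hA⟩ := exists_mem (g := g) hg.1
  refine ⟨A, ?_, ?_⟩
  · rw [hA, hgf u (Submodule.mem_sup_left (Submodule.mem_sup_right (Submodule.mem_span_singleton_self u))),
      hf2U u (Submodule.mem_sup_right (Submodule.mem_span_singleton_self u)), hf1u]
  · rw [hA, hgf v (Submodule.mem_sup_right (Submodule.mem_span_singleton_self v)), hf2v]

end CfsgH9.SpBridge
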