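import Mathlib
import Cfsg.Prelude.Def_Classical
import Cfsg.Prelude.Def_ClassicalGeometry
import Cfsg.Agent.H9.Orders2
import Cfsg.Agent.H9.SpBridge

set_option autoImplicit false

/-! The standard forms, and their isometry groups. -/

namespace CfsgH9.ClForms

open Matrix Cfsg CfsgH9.Witt CfsgH9.CountHyp CfsgH9.MaxImpSp CfsgH9.Tv

section general

variable {ι : Type} [Fintype ι] [DecidableEq ι] {F : Type*} [Field F]

/-- the linear automorphism of a matrix -/
def toEquiv (g : GL ι F) : (ι → F) ≃ₗ[F] (ι → F) where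
  toFun := fun x => (g : Matrix ι ι F) *ᵥ x
  map_add' := fun x y => mulVec_add _ _ _
  map_smul' := fun c x => mulVec_smul _ _ _
  invFun := fun x => ((g⁻¹ : GL ι F) : Matrix ι ι F) *ᵥ x
  left_inv := fun x => MaxSymp.inv_mulVec g x
  right_inv := fun x => MaxSymp.mulVec_inv g x

lemma toEquiv_apply (g : GL ι F) (x : ι → F) : toEquiv g x = (g : Matrix ι ι F) *ᵥ x := rfl

lemma isom_of_norm' {V : Type*} [AddCommGroup V] [Module F V] (Q : QuadraticForm F V) {g : V ≃ₗ[F] V}
    (hg : ∀ x, Q (g x) = Q x) : Isom (σ := RingHom.id F) (QuadraticMap.polarBilin Q) Q g := by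
  refine ⟨fun u v => ?_, hg⟩
  rw [QuadraticMap.polarBilin_apply_apply, QuadraticMap.polarBilin_apply_apply, QuadraticMap.polar, QuadraticMap.polar,
    ← map_add, hg, hg, hg]

/-- the isometry group of a quadratic form, as matrices and as linear maps -/
def isoEquiv (Q : QuadraticForm F (ι → F)) :
    isometryGroup F (⇑Q) ≃ G (σ := RingHom.id F) (QuadraticMap.polarBilin Q) Q where
  toFun g := ⟨toEquiv g.1, isom_of_norm' Q (fun x => g.2 x x)⟩
  invFun g := ⟨glOf g.1, fun x _ => by
    show Q (((glOf g.1 : GL ι F) : Matrix ι ι F) *ᵥ x) = Q x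
    rw [glOf_mulVec]; exact g.2.2 x⟩
  left_inv g := by
    apply Subtype.ext
    apply ext_mulVec
    intro x
    rw [glOf_mulVec]; rfl
  right_inv g := by
    apply Subtype.ext
    ext1 x
    show ((glOf g.1 : GL ι F) : Matrix ι ι F) *ᵥ x = _
    rw [glOf_mulVec]

end general

section sp

variable {F : Type*} [Field F]

/-- the symplectic group as linear maps -/
def spEquiv (m : ℕ) : Matrix.symplecticGroup (Fin m) F ≃ G (σ := RingHom.id F) (SpBridge.form m F) (fun _ => (0 : F)) where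
  toFun A := ⟨toEquiv (SpBridge.toGL m F A), fun x y => (SpBridge.mem_iff _).1 A.2 x y, fun _ => rfl⟩
  invFun g := ⟨(glOf g.1 : GL (Fin m ⊕ Fin m) F), by
    rw [SpBridge.mem_iff]
    intro u v
    rw [glOf_mulVec, glOf_mulVec]
    exact g.2.1 u v⟩
  left_inv A := by
    apply Subtype.ext
    apply Matrix.toLin'.injective
    refine LinearMap.ext fun x => ?_
    show ((glOf (toEquiv (SpBridge.toGL m F A)) : GL (Fin m ⊕ Fin m) F) : Matrix (Fin m ⊕ Fin m) (Fin m ⊕ Fin m) F) *ᵥ x =
      (A : Matrix (Fin m ⊕ Fin m) (Fin m ⊕ Fin m) F) *ᵥ x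
    rw [glOf_mulVec]; rfl
  right_inv g := by
    apply Subtype.ext
    ext1 x
    show ((glOf g.1 : GL (Fin m ⊕ Fin m) F) : Matrix (Fin m ⊕ Fin m) (Fin m ⊕ Fin m) F) *ᵥ x = _
    rw [glOf_mulVec]

theorem card_sp [Finite F] (m : ℕ) : Nat.card (Matrix.symplecticGroup (Fin m) F) =
    Nat.card F ^ (m ^ 2) * ∏ i ∈ Finset.range m, (Nat.card F ^ (2 * (i + 1)) - 1) := by
  rw [Nat.card_congr (spEquiv m), card_G_alt m (SpBridge.fm m F)]
  rw [Module.finrank_fintype_fun_eq_card, Fintype.card_sum, Fintype.card_fin]; omega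

end sp

section forms

variable (m : ℕ) (F : Type*) [Field F]

/-- plus type -/
def qPlus : QuadraticForm F (Fin m ⊕ Fin m → F) :=
  ∑ i : Fin m, QuadraticMap.linMulLin (LinearMap.proj (Sum.inl i)) (LinearMap.proj (Sum.inr i))

lemma qPlus_coe : ⇑(qPlus m F) = quadFormPlus m F := by
  funext v
  simp [qPlus, quadFormPlus, QuadraticMap.sum_apply]

/-- odd dimension -/
def qOdd : QuadraticForm F (Unit ⊕ (Fin m ⊕ Fin m) → F) :=
  QuadraticMap.linMulLin (LinearMap.proj (Sum.inl ())) (LinearMap.proj (Sum.inl ())) +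
  ∑ i : Fin m, QuadraticMap.linMulLin (LinearMap.proj (Sum.inr (Sum.inl i))) (LinearMap.proj (Sum.inr (Sum.inr i)))

lemma qOdd_coe : ⇑(qOdd m F) = quadFormOdd m F := by
  funext v
  simp [qOdd, quadFormOdd, QuadraticMap.sum_apply, pow_two]

variable {F} in
/-- minus type -/
def qMinus (a b : F) : QuadraticForm F ((Fin m ⊕ Fin m) ⊕ Fin 2 → F) :=
  (∑ i : Fin m, QuadraticMap.linMulLin (LinearMap.proj (Sum.inl (Sum.inl i))) (LinearMap.proj (Sum.inl (Sum.inr i)))) +
  (QuadraticMap.linMulLin (LinearMap.proj (Sum.inr 0)) (LinearMap.proj (Sum.inr 0)) +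
   QuadraticMap.linMulLin (a • LinearMap.proj (Sum.inr 0)) (LinearMap.proj (Sum.inr 1)) +
   QuadraticMap.linMulLin (b • LinearMap.proj (Sum.inr 1)) (LinearMap.proj (Sum.inr 1)))

variable {F} in
lemma qMinus_coe (a b : F) : ⇑(qMinus m a b) = quadFormMinus m F a b := by
  funext v
  simp [qMinus, quadFormMinus, QuadraticMap.sum_apply, pow_two, mul_assoc]

lemma polar_plus (u v : Fin m ⊕ Fin m → F) : QuadraticMap.polar (qPlus m F) u v =
    ∑ i : Fin m, (u (Sum.inl i) * v (Sum.inr i) + u (Sum.inr i) * v (Sum.inl i)) := by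
  rw [QuadraticMap.polar, qPlus_coe]
  simp only [quadFormPlus, Pi.add_apply]
  rw [← Finset.sum_sub_distrib, ← Finset.sum_sub_distrib]
  exact Finset.sum_congr rfl fun i _ => by ring

lemma polar_odd (u v : Unit ⊕ (Fin m ⊕ Fin m) → F) : QuadraticMap.polar (qOdd m F) u v = 2 * (u (Sum.inl ()) * v (Sum.inl ())) +
    ∑ i : Fin m, (u (Sum.inr (Sum.inl i)) * v (Sum.inr (Sum.inr i)) + u (Sum.inr (Sum.inr i)) * v (Sum.inr (Sum.inl i))) := by
  have h : ∑ i : Fin m, (u (Sum.inr (Sum.inl i)) * v (Sum.inr (Sum.inr i)) + u (Sum.inr (Sum.inr i)) * v (Sum.inr (Sum.inl i))) =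
      ∑ i : Fin m, ((u + v) (Sum.inr (Sum.inl i)) * (u + v) (Sum.inr (Sum.inr i))) -
        ∑ i : Fin m, (u (Sum.inr (Sum.inl i)) * u (Sum.inr (Sum.inr i))) -
        ∑ i : Fin m, (v (Sum.inr (Sum.inl i)) * v (Sum.inr (Sum.inr i))) := by
    rw [← Finset.sum_sub_distrib, ← Finset.sum_sub_distrib]
    exact Finset.sum_congr rfl fun i _ => by simp only [Pi.add_apply]; ring
  rw [h, QuadraticMap.polar, qOdd_coe]
  simp only [quadFormOdd, Pi.add_apply]
  ring

variable {F} in
lemma polar_minus (a b : F) (u v : (Fin m ⊕ Fin m) ⊕ Fin 2 → F) : QuadraticMap.polar (qMinus m a b) u v =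
    ∑ i : Fin m, (u (Sum.inl (Sum.inl i)) * v (Sum.inl (Sum.inr i)) + u (Sum.inl (Sum.inr i)) * v (Sum.inl (Sum.inl i))) +
    (2 * (u (Sum.inr 0) * v (Sum.inr 0)) + a * (u (Sum.inr 0) * v (Sum.inr 1) + u (Sum.inr 1) * v (Sum.inr 0)) +
      2 * b * (u (Sum.inr 1) * v (Sum.inr 1))) := by
  have h : ∑ i : Fin m, (u (Sum.inl (Sum.inl i)) * v (Sum.inl (Sum.inr i)) + u (Sum.inl (Sum.inr i)) * v (Sum.inl (Sum.inl i))) =
      ∑ i : Fin m, ((u + v) (Sum.inl (Sum.inl i)) * (u + v) (Sum.inl (Sum.inr i))) -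
        ∑ i : Fin m, (u (Sum.inl (Sum.inl i)) * u (Sum.inl (Sum.inr i))) -
        ∑ i : Fin m, (v (Sum.inl (Sum.inl i)) * v (Sum.inl (Sum.inr i))) := by
    rw [← Finset.sum_sub_distrib, ← Finset.sum_sub_distrib]
    exact Finset.sum_congr rfl fun i _ => by simp only [Pi.add_apply]; ring
  rw [h, QuadraticMap.polar, qMinus_coe]
  simp only [quadFormMinus, Pi.add_apply]
  ring

lemma nondeg_of_left {V : Type*} [AddCommGroup V] [Module F V] (Q : QuadraticForm F V)
    (h : ∀ u, (∀ v, QuadraticMap.polar Q u v = 0) → u = 0) : (QuadraticMap.polarBilin Q).Nondegenerate := by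
  constructor
  · intro u hu; exact h u (fun v => hu v)
  · intro u hu; exact h u (fun v => by rw [QuadraticMap.polar_comm]; exact hu v)

lemma nondeg_plus : (QuadraticMap.polarBilin (qPlus m F)).Nondegenerate := by
  apply nondeg_of_left
  intro u hu
  ext i
  rcases i with i | i
  · have h := hu (Pi.single (Sum.inr i) 1)
    rw [polar_plus, Finset.sum_eq_single i] at h
    · simpa using h
    · intro j _ hj
      simp [Pi.single_apply, hj]
    · intro h; exact absurd (Finset.mem_univ i) h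
  · have h := hu (Pi.single (Sum.inl i) 1)
    rw [polar_plus, Finset.sum_eq_single i] at h
    · simpa using h
    · intro j _ hj
      simp [Pi.single_apply, hj]
    · intro h; exact absurd (Finset.mem_univ i) h

lemma nondeg_odd (h2 : (2 : F) ≠ 0) : (QuadraticMap.polarBilin (qOdd m F)).Nondegenerate := by
  apply nondeg_of_left
  intro u hu
  ext i
  rcases i with i | (i | i)
  · have h := hu (Pi.single (Sum.inl ()) 1)
    rw [polar_odd, Finset.sum_eq_zero] at h
    · have h3 : 2 * u (Sum.inl ()) = 0 := by simpa using h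
      exact (mul_eq_zero.1 h3).resolve_left h2
    · intro j _; simp
  · have h := hu (Pi.single (Sum.inr (Sum.inr i)) 1)
    rw [polar_odd, Finset.sum_eq_single i] at h
    · simpa using h
    · intro j _ hj
      simp [Pi.single_apply, hj]
    · intro h; exact absurd (Finset.mem_univ i) h
  · have h := hu (Pi.single (Sum.inr (Sum.inl i)) 1)
    rw [polar_odd, Finset.sum_eq_single i] at h
    · simpa using h
    · intro j _ hj
      simp [Pi.single_apply, hj]
    · intro h; exact absurd (Finset.mem_univ i) h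

end forms

end CfsgH9.ClForms
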