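import Mathlib
import Cfsg.Prelude.Def_Classical
import Cfsg.Prelude.Def_LieClassical
import Cfsg.Agent.H9.ClForms
import Cfsg.Agent.S0754

set_option autoImplicit false

/-! The standard hermitian form. -/

namespace CfsgH9.HermF

open Matrix Cfsg CfsgH9.Witt CfsgH9.CountHyp

section sigma

variable {F : Type*} [Field F] [Fintype F] {q : ℕ} (hF : Fintype.card F = q ^ 2)

include hF

lemma q_pos : 0 < q := by
  rcases Nat.eq_zero_or_pos q with h | h
  · subst h
    have := Fintype.card_pos (α := F)
    simp [hF] at this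
  · exact h

lemma one_lt_q : 1 < q := by
  have h1 := Fintype.one_lt_card (α := F)
  rw [hF] at h1
  by_contra hcon
  have h2 := q_pos hF
  have : q = 1 := by omega
  rw [this] at h1
  simp at h1

/-- the involutive automorphism -/
theorem exists_sigma : ∃ σ : F →+* F, (∀ x, σ x = x ^ q) ∧ σ ≠ RingHom.id F ∧ ∀ x, σ (σ x) = x := by
  obtain ⟨p, hp⟩ := CharP.exists F
  obtain ⟨m, hprime, hm⟩ := FiniteField.card F p
  haveI : Fact p.Prime := ⟨hprime⟩
  have hdvd : q ∣ p ^ (m : ℕ) := by
    rw [← hm, hF]
    exact dvd_pow_self q two_ne_zero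
  obtain ⟨k, -, hk⟩ := (Nat.dvd_prime_pow hprime).1 hdvd
  refine ⟨iterateFrobenius F p k, ?_, ?_, ?_⟩
  · intro x
    rw [iterateFrobenius_def, hk]
  · intro h
    -- X^q - X would have q^2 roots
    have h1 : ∀ x : F, x ^ q = x := by
      intro x
      have := RingHom.congr_fun h x
      rwa [iterateFrobenius_def, ← hk] at this
    obtain ⟨g, hg⟩ := IsCyclic.exists_generator (α := Fˣ)
    have h2 : orderOf g = Nat.card Fˣ := orderOf_eq_card_of_forall_mem_zpowers hg
    have h3 : g ^ (q - 1) = 1 := by
      have h4 : g ^ q = g := Units.ext (by rw [Units.val_pow_eq_pow_val]; exact h1 _)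
      have h5 : g * g ^ (q - 1) = g * 1 := by
        rw [← pow_succ', Nat.sub_add_cancel (q_pos hF), h4, mul_one]
      exact mul_left_cancel h5
    have h4 := orderOf_dvd_of_pow_eq_one h3
    rw [h2, Nat.card_units, Nat.card_eq_fintype_card, hF] at h4
    have h5 := one_lt_q hF
    have h6 := Nat.le_of_dvd (by omega) h4
    have h7 : q * 2 ≤ q ^ 2 := by nlinarith
    omega
  · intro x
    rw [iterateFrobenius_def, iterateFrobenius_def, ← pow_mul, ← hk, ← pow_two, ← hF, FiniteField.pow_card]

lemma card_units' : Nat.card Fˣ = (q + 1) * (q - 1) := by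
  have hq0 := q_pos hF
  rw [Nat.card_units, Nat.card_eq_fintype_card, hF]
  obtain ⟨k, rfl⟩ : ∃ k, q = k + 1 := ⟨q - 1, by omega⟩
  simp only [Nat.add_sub_cancel]
  have : (k + 1) ^ 2 = (k + 1 + 1) * k + 1 := by ring
  rw [this, Nat.add_sub_cancel]

/-- the fixed field has `q` elements -/
lemma card_fixed : Nat.card {c : F // c ^ q = c} = q := by
  classical
  have hq0 := q_pos hF
  have e : {c : F // c ^ q = c} ≃ Option {u : Fˣ // u ^ (q - 1) = 1} :=
    { toFun := fun c => if h : c.1 = 0 then none else some ⟨Units.mk0 c.1 h, by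
        apply Units.ext
        rw [Units.val_pow_eq_pow_val, Units.val_mk0, Units.val_one]
        have h1 : c.1 * c.1 ^ (q - 1) = c.1 * 1 := by
          rw [← pow_succ', Nat.sub_add_cancel hq0, c.2, mul_one]
        exact mul_left_cancel₀ h h1⟩
      invFun := fun o => o.elim ⟨0, zero_pow (by omega)⟩ (fun u => ⟨(u.1 : F), by
        have h1 := congrArg Units.val u.2
        rw [Units.val_pow_eq_pow_val, Units.val_one] at h1
        calc ((u.1 : Fˣ) : F) ^ q = (u.1 : F) ^ (q - 1) * u.1 := by rw [← pow_succ, Nat.sub_add_cancel hq0]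
          _ = u.1 := by rw [h1, one_mul]⟩)
      left_inv := by
        rintro ⟨c, hc⟩
        by_cases h : c = 0
        · subst h; simp
        · simp [h]
      right_inv := by
        rintro (_ | ⟨u, hu⟩)
        · simp
        · simp }
  have h3 : Nat.card {u : Fˣ // u ^ (q - 1) = 1} = Nat.card (powMonoidHom (q - 1) : Fˣ →* Fˣ).ker := by
    congr 1
  rw [Nat.card_congr e, Finite.card_option, h3, IsCyclic.card_powMonoidHom_ker, card_units' hF,
    Nat.gcd_eq_right (dvd_mul_left _ _)]
  omega

lemma kap_herm {σ : F →+* F} (hσ : ∀ x, σ x = x ^ q) (hσ1 : σ ≠ RingHom.id F) (hσ2 : ∀ x, σ (σ x) = x) :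
    kap (AddMonoidHom.id F + (σ : F →+ F)) = q := by
  obtain ⟨k, hk0, hk⟩ := SF.exists_kappa (eqv_ne hσ1 hσ2) (fun a => hσ2 a)
  have hk' : σ k = -k := hk
  have h1 := card_fixed hF
  rw [kap]
  refine Eq.trans (Nat.card_congr
    { toFun := fun c => (⟨c.1 / k, by
        have h2 : c.1 + σ c.1 = 0 := c.2
        rw [← hσ, map_div₀, hk', eq_neg_of_add_eq_zero_right h2]
        field_simp⟩ : {c : F // c ^ q = c})
      invFun := fun c => ⟨c.1 * k, by
        show c.1 * k + σ (c.1 * k) = 0
        rw [map_mul, hk', hσ, c.2]; ring⟩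
      left_inv := fun c => Subtype.ext (div_mul_cancel₀ _ hk0)
      right_inv := fun c => Subtype.ext (mul_div_cancel_right₀ _ hk0) }) h1

end sigma

section form

variable {F : Type*} [Field F] {q : ℕ} {σ : F →+* F} (hσ : ∀ x, σ x = x ^ q) (n : ℕ)

/-- the hermitian form as a sesquilinear map -/
def hB : (Fin n → F) →ₛₗ[σ] (Fin n → F) →ₗ[F] F :=
  LinearMap.mk₂'ₛₗ σ (RingHom.id F) (fun v u => hermForm n F q u v)
    (by
      intro v v' u
      simp only [hermForm, Pi.add_apply, ← hσ, map_add]
      rw [← Finset.sum_add_distrib]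
      exact Finset.sum_congr rfl fun i _ => by ring)
    (by
      intro c v u
      simp only [hermForm, Pi.smul_apply, smul_eq_mul, ← hσ, map_mul]
      rw [Finset.mul_sum]
      exact Finset.sum_congr rfl fun i _ => by ring)
    (by
      intro v u u'
      simp only [hermForm, Pi.add_apply]
      rw [← Finset.sum_add_distrib]
      exact Finset.sum_congr rfl fun i _ => by ring)
    (by
      intro c v u
      simp only [hermForm, Pi.smul_apply, smul_eq_mul, RingHom.id_apply]
      rw [Finset.mul_sum]
      exact Finset.sum_congr rfl fun i _ => by ring)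

lemma hB_apply (v u : Fin n → F) : hB hσ n v u = hermForm n F q u v := rfl

lemma hB_symm (hσ2 : ∀ x, σ (σ x) = x) : (hB hσ n).IsSymm := by
  constructor
  intro x y
  rw [hB_apply, hB_apply, hermForm, hermForm, map_sum]
  refine Finset.sum_congr rfl fun i _ => ?_
  rw [map_mul, ← hσ, ← hσ, hσ2, mul_comm]

lemma hB_nondeg (hσ2 : ∀ x, σ (σ x) = x) : (hB hσ n).Nondegenerate := by
  have h1 : ∀ x, (∀ y, hB hσ n x y = 0) → x = 0 := by
    intro x hx
    ext i
    have h := hx (Pi.single i 1)
    rw [hB_apply, hermForm, Finset.sum_eq_single i] at h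
    · rw [Pi.single_eq_same, one_mul, ← hσ] at h
      exact (map_eq_zero σ).1 h
    · intro j _ hj
      rw [Pi.single_eq_of_ne hj, zero_mul]
    · intro h; exact absurd (Finset.mem_univ i) h
  refine ⟨h1, ?_⟩
  intro x hx
  apply h1
  intro y
  rw [← (hB_symm hσ n hσ2).eq, hx y, map_zero]

end form

section count

variable {F : Type*} [Field F] [Fintype F] {q : ℕ} (hF : Fintype.card F = q ^ 2)

include hF

/-- number of vectors of given norm -/
lemma norm_count (n : ℕ) : ∃ a b : ℤ, (Nat.card {v : Fin n → F // hermForm n F q v v = 0} : ℤ) = a ∧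
    (∀ c : F, c ≠ 0 → c ^ q = c → (Nat.card {v : Fin n → F // hermForm n F q v v = c} : ℤ) = b) ∧
    (q : ℤ) * a = q ^ (2 * n) + (-1) ^ n * (q - 1) * q ^ n ∧ (q : ℤ) * b = q ^ (2 * n) - (-1) ^ n * q ^ n := by
  classical
  induction n with
  | zero =>
    refine ⟨1, 0, ?_, ?_, by ring, by ring⟩
    · have : Nat.card {v : Fin 0 → F // hermForm 0 F q v v = 0} = 1 := by
        haveI : Unique {v : Fin 0 → F // hermForm 0 F q v v = 0} :=
          { default := ⟨0, by simp [hermForm]⟩
            uniq := fun v => Subtype.ext (Subsingleton.elim _ _) }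
        exact Nat.card_unique
      rw [this]; rfl
    · intro c hc _
      have hemp : IsEmpty {v : Fin 0 → F // hermForm 0 F q v v = c} := by
        refine ⟨fun v => hc ?_⟩
        have := v.2
        rw [hermForm] at this
        simpa using this.symm
      rw [@Nat.card_of_isEmpty _ hemp]; rfl
  | succ n ih =>
    obtain ⟨a, b, ha, hb, ha', hb'⟩ := ih
    obtain ⟨σ, hσ, hσ1, hσ2⟩ := exists_sigma hF
    have hq0 := q_pos hF
    -- the norm of a scalar is fixed
    have hnf : ∀ x : F, (x * x ^ q) ^ q = x * x ^ q := by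
      intro x
      rw [← hσ, map_mul, ← hσ x, hσ2, mul_comm]
    have hsub : ∀ c x : F, c ^ q = c → (c - x * x ^ q) ^ q = c - x * x ^ q := by
      intro c x hc
      rw [← hσ, map_sub, hσ, hσ, hc, hnf]
    have hsum : ∀ c : F, c ^ q = c → (Nat.card {v : Fin (n + 1) → F // hermForm (n + 1) F q v v = c} : ℤ) =
        ∑ x : F, (if x * x ^ q = c then a else b) := by
      intro c hc
      have e : {v : Fin (n + 1) → F // hermForm (n + 1) F q v v = c} ≃
          Σ x : F, {w : Fin n → F // hermForm n F q w w = c - x * x ^ q} :=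
        { toFun := fun v => ⟨v.1 0, ⟨Fin.tail v.1, by
            have h := v.2
            rw [hermForm, Fin.sum_univ_succ] at h
            rw [eq_sub_iff_add_eq, add_comm]
            exact h⟩⟩
          invFun := fun p => ⟨Fin.cons p.1 p.2.1, by
            have h := p.2.2
            rw [hermForm] at h
            rw [hermForm, Fin.sum_univ_succ]
            simp only [Fin.cons_zero, Fin.cons_succ]
            rw [h]; ring⟩
          left_inv := fun v => Subtype.ext (Fin.cons_self_tail v.1)
          right_inv := fun p => rfl }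
      rw [Nat.card_congr e, Nat.card_sigma, Nat.cast_sum]
      refine Finset.sum_congr rfl fun x _ => ?_
      by_cases hx : x * x ^ q = c
      · rw [if_pos hx, ← ha, hx, sub_self]
      · rw [if_neg hx]
        exact hb _ (sub_ne_zero.2 (Ne.symm hx)) (hsub c x hc)
    have hcount : ∀ c : F, ∑ x : F, (if x * x ^ q = c then a else b) =
        (Nat.card {x : F // x * x ^ q = c} : ℤ) * a + ((q : ℤ) ^ 2 - Nat.card {x : F // x * x ^ q = c}) * b := by
      intro c
      rw [Finset.sum_ite, Finset.sum_const, Finset.sum_const, nsmul_eq_mul, nsmul_eq_mul]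
      have h1 : (Finset.univ.filter (fun x : F => x * x ^ q = c)).card = Nat.card {x : F // x * x ^ q = c} := by
        rw [Nat.card_eq_fintype_card, Fintype.card_subtype]
      have h2 := Finset.card_filter_add_card_filter_not (s := (Finset.univ : Finset F)) (fun x : F => x * x ^ q = c)
      rw [Finset.card_univ, hF] at h2
      rw [h1] at h2 ⊢
      have h3 : ((Finset.univ.filter (fun x : F => ¬ x * x ^ q = c)).card : ℤ) = (q : ℤ) ^ 2 - Nat.card {x : F // x * x ^ q = c} := by
        have := congrArg (fun t : ℕ => (t : ℤ)) h2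
        push_cast at this
        linarith
      rw [h3]
    have hone : Nat.card {x : F // x * x ^ q = 0} = 1 := by
      haveI : Unique {x : F // x * x ^ q = 0} :=
        { default := ⟨0, by rw [zero_mul]⟩
          uniq := fun v => Subtype.ext (by
            rcases mul_eq_zero.1 v.2 with h | h
            · exact h
            · exact eq_zero_of_pow_eq_zero h) }
      exact Nat.card_unique
    have hq1 : ∀ c : F, c ≠ 0 → c ^ q = c → Nat.card {x : F // x * x ^ q = c} = q + 1 := by
      intro c hc hcq
      rw [← Cfsg.Agent.S0754.result hF c hc hcq]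
      refine Nat.card_congr (Equiv.subtypeEquivRight fun x => ?_)
      rw [pow_succ']
    refine ⟨a + (q ^ 2 - 1) * b, (q + 1) * a + (q ^ 2 - q - 1) * b, ?_, ?_, ?_, ?_⟩
    · rw [hsum 0 (zero_pow (by omega)), hcount, hone]
      push_cast; ring
    · intro c hc hcq
      rw [hsum c hcq, hcount, hq1 c hc hcq]
      push_cast; ring
    · have : (q : ℤ) * (a + (q ^ 2 - 1) * b) = q * a + (q ^ 2 - 1) * (q * b) := by ring
      rw [this, ha', hb']; ring
    · have : (q : ℤ) * ((q + 1) * a + (q ^ 2 - q - 1) * b) = (q + 1) * (q * a) + (q ^ 2 - q - 1) * (q * b) := by ring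
      rw [this, ha', hb']; ring

end count

end CfsgH9.HermF
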