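import Mathlib
import Cfsg.Agent.H9.HermF

set_option autoImplicit false

/-! Orders of the unitary groups. -/

namespace CfsgH9.HermF

open Matrix Cfsg CfsgH9.Witt CfsgH9.CountHyp CfsgH9.MaxImpSp CfsgH9.Tv

universe u v

/-- the order of the unitary group -/
def guOrd (q n : ℕ) : ℕ := q ^ (n * (n - 1) / 2) * ∏ i ∈ Finset.range n, (if Even i then q ^ (i + 1) + 1 else q ^ (i + 1) - 1)

lemma guOrd_succ_succ (q n : ℕ) : guOrd q (n + 2) =
    guOrd q n * (q ^ (2 * n + 1) * ((if Even n then q ^ (n + 1) + 1 else q ^ (n + 1) - 1) *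
      (if Even n then q ^ (n + 2) - 1 else q ^ (n + 2) + 1))) := by
  rw [guOrd, guOrd, Finset.prod_range_succ, Finset.prod_range_succ]
  have h1 : (n + 2) * (n + 2 - 1) / 2 = n * (n - 1) / 2 + (2 * n + 1) := by
    rcases Nat.eq_zero_or_pos n with rfl | hn
    · rfl
    · obtain ⟨k, rfl⟩ : ∃ k, n = k + 1 := ⟨n - 1, by omega⟩
      have e1 : (k + 1 + 2) * (k + 1 + 2 - 1) = (k + 1) * (k + 1 - 1) + 2 * (2 * (k + 1) + 1) := by
        have : k + 1 + 2 - 1 = k + 2 := by omega
        rw [this, Nat.add_sub_cancel]; ring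
      rw [e1, Nat.add_mul_div_left _ _ (by norm_num)]
  have h2 : (if Even (n + 1) then q ^ (n + 1 + 1) + 1 else q ^ (n + 1 + 1) - 1) =
      (if Even n then q ^ (n + 2) - 1 else q ^ (n + 2) + 1) := by
    by_cases h : Even n
    · rw [if_pos h, if_neg (by rw [Nat.even_add_one]; simpa using h)]
    · rw [if_neg h, if_pos (by rw [Nat.even_add_one]; exact h)]
  rw [h1, h2, pow_add]
  ring

section rec

variable {F : Type u} [Field F] [Fintype F] {q : ℕ} {σ : F →+* F}

/-- the relation for the number of zeros -/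
def zrel (q n z : ℕ) : Prop := (q : ℤ) * z = q ^ (2 * n) + (-1) ^ n * (q - 1) * q ^ n

theorem card_G_herm (hF : Fintype.card F = q ^ 2) (hσ : ∀ x, σ x = x ^ q) (hσ1 : σ ≠ RingHom.id F) (hσ2 : ∀ x, σ (σ x) = x)
    (n : ℕ) : ∀ {V : Type v} [AddCommGroup V] [Module F V] [Finite V] (B : V →ₛₗ[σ] V →ₗ[F] F), B.IsSymm →
      B.Nondegenerate → Module.finrank F V = n → zrel q n (zc (fun x => B x x)) →
      Nat.card (G B (fun x => B x x)) = guOrd q n := by
  induction n using Nat.strong_induction_on with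
  | _ n ih =>
    intro V _ _ _ B hS hB hV hz
    haveI : Module.Finite F V := Module.Finite.of_finite
    have hq0 := q_pos hF
    have hq1 := one_lt_q hF
    have h := fm_herm σ hσ1 hσ2 B hS hB
    have hF' : Nat.card F = q ^ 2 := by rw [Nat.card_eq_fintype_card, hF]
    rcases n with _ | _ | n
    · rw [card_G_of_finrank_zero hV]
      simp [guOrd]
    · haveI : Nontrivial V := Module.nontrivial_of_finrank_pos (R := F) (by omega)
      obtain ⟨x0, hx0⟩ := exists_ne (0 : V)
      have hz1 : zc (fun x => B x x) = 1 := by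
        rw [zrel] at hz
        have h1 : (q : ℤ) * (zc (fun x => B x x) : ℤ) = q * 1 := by rw [hz]; ring
        have h2 := mul_left_cancel₀ (by exact_mod_cast hq0.ne') h1
        exact_mod_cast h2
      have hne : B x0 x0 ≠ 0 := fun h0 => hx0 (zc_eq_one_iff (N := fun x => B x x) (by simp) hz1 x0 h0)
      rw [card_G_one h hV hx0]
      have h1 : Nat.card {c : F // c ≠ 0 ∧ B (c • x0) (c • x0) = B x0 x0} = Nat.card {x : F // x ^ (q + 1) = 1} := by
        refine Nat.card_congr (Equiv.subtypeEquivRight fun c => ?_)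
        have h2 : B (c • x0) (c • x0) = c ^ (q + 1) * B x0 x0 := by
          simp only [LinearMap.map_smulₛₗ, LinearMap.smul_apply, map_smul, smul_eq_mul, hσ, RingHom.id_apply]
          ring
        rw [h2]
        constructor
        · rintro ⟨-, h3⟩
          exact mul_right_cancel₀ hne (by rw [h3, one_mul])
        · intro h3
          refine ⟨?_, by rw [h3, one_mul]⟩
          rintro rfl
          rw [zero_pow (by omega)] at h3
          exact zero_ne_one h3
      rw [h1, Cfsg.Agent.S0754.result hF 1 one_ne_zero (one_pow q)]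
      simp [guOrd]
    · have hz2 : ((zc (fun x => B x x) : ℕ) : ℤ) - 1 = ((if Even n then q ^ (n + 1) + 1 else q ^ (n + 1) - 1) *
          (if Even n then q ^ (n + 2) - 1 else q ^ (n + 2) + 1) : ℕ) := by
        rw [zrel] at hz
        have hq0' : (q : ℤ) ≠ 0 := by exact_mod_cast hq0.ne'
        apply mul_left_cancel₀ hq0'
        have hp1 : 1 ≤ q ^ (n + 1) := Nat.one_le_pow _ _ hq0
        have hp2 : 1 ≤ q ^ (n + 2) := Nat.one_le_pow _ _ hq0
        by_cases he : Even n
        · rw [if_pos he, if_pos he]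
          have h1 : (-1 : ℤ) ^ (n + 1 + 1) = 1 := by
            rw [pow_succ, pow_succ, he.neg_one_pow]; ring
          rw [mul_sub, hz, h1]
          push_cast [Nat.cast_sub hp2]
          ring
        · rw [if_neg he, if_neg he]
          have h1 : (-1 : ℤ) ^ (n + 1 + 1) = -1 := by
            rw [pow_succ, pow_succ, (Nat.not_even_iff_odd.1 he).neg_one_pow]; ring
          rw [mul_sub, hz, h1]
          push_cast [Nat.cast_sub hp1]
          ring
      have hzpos : 0 < ((if Even n then q ^ (n + 1) + 1 else q ^ (n + 1) - 1) *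
          (if Even n then q ^ (n + 2) - 1 else q ^ (n + 2) + 1)) := by
        have hp1 : 1 < q ^ (n + 1) := Nat.one_lt_pow (by omega) hq1
        have hp2 : 1 < q ^ (n + 2) := Nat.one_lt_pow (by omega) hq1
        apply Nat.mul_pos
        · split_ifs <;> omega
        · split_ifs <;> omega
      have hz3 : zc (fun x => B x x) = ((if Even n then q ^ (n + 1) + 1 else q ^ (n + 1) - 1) *
          (if Even n then q ^ (n + 2) - 1 else q ^ (n + 2) + 1)) + 1 := by
        have : ((zc (fun x => B x x) : ℕ) : ℤ) = (((if Even n then q ^ (n + 1) + 1 else q ^ (n + 1) - 1) *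
          (if Even n then q ^ (n + 2) - 1 else q ^ (n + 2) + 1)) + 1 : ℕ) := by
          rw [Nat.cast_add, ← hz2]; ring
        exact_mod_cast this
      obtain ⟨u, v, hp⟩ := exists_pair_of_zc h (by omega)
      have hW := finrank_perp h hp
      have h1 := card_G h hp
      have hWn : Module.finrank F (pperp B u v) = n := by omega
      have hcW : Nat.card (pperp B u v) = q ^ (2 * n) := by
        rw [card_eq_pow (F := F) (V := pperp B u v), hWn, hF', ← pow_mul]
      have hfp := fm_perp h hp
      have hih := ih n (by omega) (V := pperp B u v) (res B (pperp B u v)) ⟨fun x y => hS.eq x y⟩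
        ⟨hfp.nondeg, fun x hx => hfp.nondeg x (fun y => hfp.refl (hx y))⟩ hWn (by
          have h2 := zc_split h hp
          rw [kap_herm hF hσ hσ1 hσ2, hcW, hF'] at h2
          rw [zrel] at hz ⊢
          have hq0' : (q : ℤ) ≠ 0 := by exact_mod_cast hq0.ne'
          have hq2 : 1 ≤ q ^ 2 := Nat.one_le_pow _ _ hq0
          rw [h2] at hz
          push_cast [Nat.cast_sub hq2] at hz
          apply mul_left_cancel₀ (pow_ne_zero 2 hq0')
          have h3 : (-1 : ℤ) ^ (n + 1 + 1) = (-1) ^ n := by ring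
          rw [h3] at hz
          have h4 : ((zc fun x : pperp B u v => (res B (pperp B u v)) x x : ℕ) : ℤ) =
            ((zc fun w : pperp B u v => B (w : V) (w : V) : ℕ) : ℤ) := rfl
          rw [h4]
          linear_combination hz)
      have h5 : Nat.card (G (res B (pperp B u v)) (fun w : pperp B u v => B w w)) = guOrd q n := hih
      rw [h5, card_pair' h hp, kap_herm hF hσ hσ1 hσ2, hcW, hz3, Nat.add_sub_cancel] at h1
      rw [h1, guOrd_succ_succ]
      ring

end rec

section std

variable {F : Type*} [Field F] [Fintype F] {q : ℕ} {σ : F →+* F}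

lemma zrel_std (hF : Fintype.card F = q ^ 2) (hσ : ∀ x, σ x = x ^ q) (n : ℕ) :
    zrel q n (zc (fun x => hB hσ n x x)) := by
  obtain ⟨a, b, ha, -, ha', -⟩ := norm_count hF n
  rw [zrel, ← ha', ← ha]
  rfl

/-- GU as linear maps -/
def guEquiv (hσ : ∀ x, σ x = x ^ q) (n : ℕ) : GU n F q ≃ G (hB hσ n) (fun x => hB hσ n x x) where
  toFun g := ⟨ClForms.toEquiv g.1, fun x y => g.2 y x, fun x => g.2 x x⟩
  invFun g := ⟨(glOf g.1 : GL (Fin n) F), fun x y => by
    show hermForm n F q (((glOf g.1 : GL (Fin n) F) : Matrix (Fin n) (Fin n) F) *ᵥ x)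
      (((glOf g.1 : GL (Fin n) F) : Matrix (Fin n) (Fin n) F) *ᵥ y) = _
    rw [glOf_mulVec, glOf_mulVec]
    exact g.2.1 y x⟩
  left_inv g := by
    apply Subtype.ext
    apply ext_mulVec
    intro x
    rw [glOf_mulVec]; rfl
  right_inv g := by
    apply Subtype.ext
    ext1 x
    show ((glOf g.1 : GL (Fin n) F) : Matrix (Fin n) (Fin n) F) *ᵥ x = _
    rw [glOf_mulVec]

theorem card_GU (hF : Fintype.card F = q ^ 2) (n : ℕ) : Nat.card (GU n F q) = guOrd q n := by
  obtain ⟨σ, hσ, hσ1, hσ2⟩ := exists_sigma hF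
  rw [Nat.card_congr (guEquiv hσ n)]
  exact card_G_herm hF hσ hσ1 hσ2 n (hB hσ n) (hB_symm hσ n hσ2) (hB_nondeg hσ n hσ2)
    (by rw [Module.finrank_fintype_fun_eq_card, Fintype.card_fin]) (zrel_std hF hσ n)

end std

end CfsgH9.HermF
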