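import Mathlib
import Cfsg.Agent.H9.Transv
import Cfsg.Agent.H9.SigmaField
import Cfsg.Agent.H9.WittInst
import Cfsg.Agent.H9.SpGen
import Cfsg.Agent.H9.MaxImpSp

set_option autoImplicit false

/-! Hermitian forms on column vectors: quasi-reflections, generation of the unitary group. -/

namespace CfsgH9.Un

open Matrix CfsgH9.Tv CfsgH9.SpGen CfsgH9.Witt
open CfsgH9.MaxSymp (inv_mulVec mulVec_inv)

variable {ι : Type} [Fintype ι] [DecidableEq ι] {F : Type*} [Field F]

/-- a non-degenerate hermitian form, linear in the first variable -/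
structure Hm (σ : F →+* F) (f : (ι → F) → (ι → F) → F) : Prop where
  add_left : ∀ x y z, f (x + y) z = f x z + f y z
  smul_left : ∀ (c : F) x y, f (c • x) y = c * f x y
  symm : ∀ x y, f y x = σ (f x y)
  nondeg : ∀ x, x ≠ 0 → ∃ y, f x y ≠ 0
  inv : ∀ a, σ (σ a) = a
  ne : σ ≠ RingHom.id F

variable {σ : F →+* F} {f : (ι → F) → (ι → F) → F}

namespace Hm

variable (hf : Hm σ f)
include hf

omit [DecidableEq ι] [Fintype ι] in
lemma add_right (x y z : ι → F) : f x (y + z) = f x y + f x z := by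
  rw [hf.symm (y + z) x, hf.add_left, map_add, ← hf.symm, ← hf.symm]

omit [DecidableEq ι] [Fintype ι] in
lemma smul_right (c : F) (x y : ι → F) : f x (c • y) = σ c * f x y := by
  rw [hf.symm (c • y) x, hf.smul_left, map_mul, ← hf.symm]

omit [DecidableEq ι] [Fintype ι] in
lemma zero_left (y : ι → F) : f 0 y = 0 := by
  have := hf.smul_left 0 0 y
  simpa using this

omit [DecidableEq ι] [Fintype ι] in
lemma zero_right (y : ι → F) : f y 0 = 0 := by
  rw [hf.symm 0 y, hf.zero_left, map_zero]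

omit [DecidableEq ι] [Fintype ι] in
lemma neg_left (x y : ι → F) : f (-x) y = - f x y := by
  have := hf.smul_left (-1) x y
  simpa using this

omit [DecidableEq ι] [Fintype ι] in
lemma neg_right (x y : ι → F) : f x (-y) = - f x y := by
  have := hf.smul_right (-1) x y
  simpa using this

omit [DecidableEq ι] [Fintype ι] in
lemma sub_left (x y z : ι → F) : f (x - y) z = f x z - f y z := by
  rw [sub_eq_add_neg, hf.add_left, hf.neg_left]; ring

omit [DecidableEq ι] [Fintype ι] in
lemma sub_right (x y z : ι → F) : f x (y - z) = f x y - f x z := by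
  rw [sub_eq_add_neg, hf.add_right, hf.neg_right]; ring

omit [DecidableEq ι] [Fintype ι] in
lemma self (x : ι → F) : σ (f x x) = f x x := (hf.symm x x).symm

omit [DecidableEq ι] [Fintype ι] in
lemma swap {x y : ι → F} (h : f x y = 0) : f y x = 0 := by rw [hf.symm, h, map_zero]

omit [DecidableEq ι] [Fintype ι] in
lemma swap_ne {x y : ι → F} (h : f x y ≠ 0) : f y x ≠ 0 := fun h' => h (hf.swap h')

omit [DecidableEq ι] [Fintype ι] in
lemma kappa : ∃ k : F, k ≠ 0 ∧ σ k = -k := SF.exists_kappa (eqv_ne hf.ne hf.inv) (fun a => hf.inv a)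

omit [DecidableEq ι] [Fintype ι] in
lemma trace {b : F} (hb : σ b = b) : ∃ c : F, c + σ c = b :=
  SF.trace_surj (eqv_ne hf.ne hf.inv) (fun a => hf.inv a) (b := b) hb

omit [DecidableEq ι] [Fintype ι] in
lemma h90 {b : F} (hb : b * σ b = 1) : ∃ x : F, x ≠ 0 ∧ x = b * σ x :=
  SF.hilbert90 (eqv_ne hf.ne hf.inv) (fun a => hf.inv a) (b := b) hb

omit [DecidableEq ι] [Fintype ι] in
lemma norm [Finite F] {b : F} (hb : σ b = b) : ∃ c : F, c * σ c = b :=
  SF.norm_surj (eqv_ne hf.ne hf.inv) (fun a => hf.inv a) (b := b) hb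

omit [DecidableEq ι] [Fintype ι] in
/-- a sesquilinear form which vanishes on the diagonal is zero -/
lemma diag_zero (E : Submodule F (ι → F)) (s : (ι → F) → (ι → F) → F) (hadd : ∀ x y z, s (x + y) z = s x z + s y z)
    (hadd' : ∀ x y z, s x (y + z) = s x y + s x z)
    (hsm : ∀ (c : F) x y, s (c • x) y = c * s x y) (hsm' : ∀ (c : F) x y, s x (c • y) = σ c * s x y)
    (h0 : ∀ x ∈ E, s x x = 0) : ∀ x ∈ E, ∀ y ∈ E, s x y = 0 := by
  have h1 : ∀ x ∈ E, ∀ y ∈ E, s x y + s y x = 0 := by
    intro x hx y hy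
    have := h0 (x + y) (E.add_mem hx hy)
    rw [hadd, hadd', hadd', h0 x hx, h0 y hy, zero_add, add_zero] at this
    exact this
  obtain ⟨a, ha⟩ := SF.exists_ne (eqv_ne hf.ne hf.inv)
  have ha' : σ a ≠ a := ha
  intro x hx y hy
  have h2 := h1 (a • x) (E.smul_mem a hx) y hy
  rw [hsm, hsm'] at h2
  have h3 := h1 x hx y hy
  have h4 : (σ a - a) * s x y = 0 := by linear_combination σ a * h3 - h2
  exact (mul_eq_zero.1 h4).resolve_left (sub_ne_zero.2 ha')

omit [DecidableEq ι] [Fintype ι] in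
lemma exists_one [Finite F] {E : Submodule F (ι → F)} (hE : ∃ x ∈ E, ∃ y ∈ E, f x y ≠ 0) {b : F} (hb : σ b = b) :
    ∃ e ∈ E, f e e = b ∧ (b ≠ 0 → e ≠ 0) := by
  have h1 : ∃ e ∈ E, f e e ≠ 0 := by
    by_contra hc
    push Not at hc
    obtain ⟨x, hx, y, hy, hxy⟩ := hE
    exact hxy (hf.diag_zero E f hf.add_left hf.add_right hf.smul_left hf.smul_right hc x hx y hy)
  obtain ⟨e, he, hee⟩ := h1
  obtain ⟨c, hc⟩ := hf.norm (b := b * (f e e)⁻¹) (by rw [map_mul, map_inv₀, hf.self, hb])
  refine ⟨c • e, E.smul_mem c he, ?_, ?_⟩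
  · rw [hf.smul_left, hf.smul_right, ← mul_assoc, hc, mul_assoc, inv_mul_cancel₀ hee, mul_one]
  · intro hb0 h0
    apply hb0
    have h2 : f (c • e) (c • e) = b := by
      rw [hf.smul_left, hf.smul_right, ← mul_assoc, hc, mul_assoc, inv_mul_cancel₀ hee, mul_one]
    rw [h0, hf.zero_left] at h2
    exact h2.symm

end Hm

/-- the covector -/
def cov (f : (ι → F) → (ι → F) → F) (y : ι → F) : ι → F := fun i => f (Pi.single i 1) y

lemma cov_dot (hf : Hm σ f) (x y : ι → F) : cov f y ⬝ᵥ x = f x y := by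
  have h1 : ∀ s : Finset ι, f (∑ i ∈ s, x i • (Pi.single i 1 : ι → F)) y = ∑ i ∈ s, x i * f (Pi.single i 1) y := by
    intro s
    induction s using Finset.induction_on with
    | empty => simp [hf.zero_left]
    | insert a s ha ih => rw [Finset.sum_insert ha, Finset.sum_insert ha, hf.add_left, hf.smul_left, ih]
  have h2 : x = ∑ i, x i • (Pi.single i 1 : ι → F) := by
    ext j
    simp [Finset.sum_apply, Pi.single_apply]
  conv_rhs => rw [h2, h1]
  rw [dotProduct]
  exact Finset.sum_congr rfl fun i _ => by rw [cov, mul_comm]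

/-- quasi-reflections -/
def IsR (f : (ι → F) → (ι → F) → F) (g : GL ι F) (e : ι → F) (a : F) : Prop :=
  ∀ x, (g : Matrix ι ι F) *ᵥ x = x + (a * f x e) • e

/-- the condition for being an isometry -/
def Cd (σ : F →+* F) (f : (ι → F) → (ι → F) → F) (e : ι → F) (a : F) : Prop :=
  a + σ a + a * σ a * f e e = 0

/-- isometries -/
def Iso (f : (ι → F) → (ι → F) → F) (g : GL ι F) : Prop :=
  ∀ x y, f ((g : Matrix ι ι F) *ᵥ x) ((g : Matrix ι ι F) *ᵥ y) = f x y

lemma Iso.one : Iso f (1 : GL ι F) := by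
  intro x y; rw [Units.val_one, one_mulVec, one_mulVec]

lemma Iso.mul {g h : GL ι F} (hg : Iso f g) (hh : Iso f h) : Iso f (g * h) := by
  intro x y; rw [Units.val_mul, ← mulVec_mulVec, ← mulVec_mulVec, hg, hh]

lemma Iso.inv {g : GL ι F} (hg : Iso f g) : Iso f g⁻¹ := by
  intro x y; rw [← hg, mulVec_inv, mulVec_inv]

lemma IsR.val (hf : Hm σ f) {g : GL ι F} {e : ι → F} {a : F} (h : IsR f g e a) :
    (g : Matrix ι ι F) = 1 + vecMulVec e (a • cov f e) := by
  apply Matrix.ext_of_mulVec_single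
  intro i
  rw [h, add_mulVec, one_mulVec, vecMulVec_mulVec, smul_dotProduct, cov_dot hf, op_smul_eq_smul, smul_eq_mul]

lemma IsR.det (hf : Hm σ f) {g : GL ι F} {e : ι → F} {a : F} (h : IsR f g e a) :
    (g : Matrix ι ι F).det = 1 + a * f e e := by
  rw [h.val hf, vecMulVec_eq Unit, det_one_add_replicateCol_mul_replicateRow, smul_dotProduct, cov_dot hf, smul_eq_mul]

lemma IsR.iso (hf : Hm σ f) {g : GL ι F} {e : ι → F} {a : F} (h : IsR f g e a) (hc : Cd σ f e a) : Iso f g := by
  intro x y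
  rw [h, h]
  simp only [hf.add_left, hf.add_right, hf.smul_left, hf.smul_right, map_mul]
  have : σ (f y e) = f e y := (hf.symm y e).symm
  unfold Cd at hc
  rw [this]
  linear_combination (f x e * f e y) * hc

lemma exists_R (hf : Hm σ f) {e : ι → F} {a : F} (hc : Cd σ f e a) : ∃ g : GL ι F, IsR f g e a := by
  have hc' : a + σ a + a * σ a * f e e = 0 := hc
  have hdet : (1 + vecMulVec e (a • cov f e) : Matrix ι ι F).det ≠ 0 := by
    rw [vecMulVec_eq Unit, det_one_add_replicateCol_mul_replicateRow, smul_dotProduct, cov_dot hf, smul_eq_mul]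
    intro h0
    have h1 : a = 0 := by linear_combination hc' - σ a * h0
    rw [h1] at h0
    simp at h0
  refine ⟨Matrix.GeneralLinearGroup.mkOfDetNeZero _ hdet, ?_⟩
  intro x
  show (1 + vecMulVec e (a • cov f e)) *ᵥ x = _
  rw [add_mulVec, one_mulVec, vecMulVec_mulVec, smul_dotProduct, cov_dot hf, op_smul_eq_smul, smul_eq_mul]

lemma IsR.unique {g h : GL ι F} {e : ι → F} {a : F} (hg : IsR f g e a) (hh : IsR f h e a) : g = h :=
  ext_mulVec fun x => by rw [hg, hh]

lemma IsR.smul (hf : Hm σ f) {g : GL ι F} {c : F} {e : ι → F} {a : F} (hg : IsR f g (c • e) a) :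
    IsR f g e (a * σ c * c) := by
  intro x
  rw [hg, hf.smul_right]
  module

lemma IsR.smul' (hf : Hm σ f) {g : GL ι F} {c : F} {e : ι → F} {a : F} (hg : IsR f g e (a * σ c * c)) :
    IsR f g (c • e) a := by
  intro x
  rw [hg, hf.smul_right]
  module

lemma IsR.conj (hf : Hm σ f) {g h : GL ι F} {e : ι → F} {a : F} (hg : IsR f g e a) (hh : Iso f h) :
    IsR f (h * g * h⁻¹) ((h : Matrix ι ι F) *ᵥ e) a := by
  intro x
  rw [Units.val_mul, Units.val_mul, ← mulVec_mulVec, ← mulVec_mulVec, hg, mulVec_add, mulVec_smul, mulVec_inv]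
  congr 3
  rw [← hh, mulVec_inv]

lemma IsR.mul (hf : Hm σ f) {g h : GL ι F} {e : ι → F} {a b : F} (hg : IsR f g e a) (hh : IsR f h e b) :
    IsR f (g * h) e (a + b + a * b * f e e) := by
  intro x
  rw [Units.val_mul, ← mulVec_mulVec, hh, hg, hf.add_left, hf.smul_left]
  module

lemma IsR.zero {g : GL ι F} {e : ι → F} {a : F} (hg : IsR f g e a) (ha : a = 0) : g = 1 :=
  ext_mulVec fun x => by rw [hg, ha, Units.val_one, one_mulVec]; simp

/-- moving a vector by a quasi-reflection -/
lemma exists_move (hf : Hm σ f) {x y : ι → F} (hxy : f x x = f y y) (h : f x (x - y) ≠ 0) :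
    ∃ a, Cd σ f (x - y) a ∧ ∃ g : GL ι F, IsR f g (x - y) a ∧ (g : Matrix ι ι F) *ᵥ x = y := by
  have h0 : f (x - y) (x - y) = f x (x - y) + σ (f x (x - y)) := by
    rw [← hf.symm, hf.sub_left, hf.sub_right, hf.sub_right, hf.sub_left, hxy]; ring
  have h1 : σ (f x (x - y)) ≠ 0 := by
    rw [← hf.symm]; exact hf.swap_ne h
  have hc : Cd σ f (x - y) (-(f x (x - y))⁻¹) := by
    rw [Cd, h0, map_neg, map_inv₀]
    field_simp
    ring
  obtain ⟨g, hg⟩ := exists_R hf hc
  refine ⟨_, hc, g, hg, ?_⟩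
  rw [hg, neg_mul, inv_mul_cancel₀ h]
  module

/-- induction over isometries -/
theorem induct (hf : Hm σ f) {P : GL ι F → Prop} (h1 : P 1)
    (hstep : ∀ e a (r g : GL ι F), Cd σ f e a → IsR f r e a → Iso f g → P g → P (r * g)) (g : GL ι F) (hg : Iso f g) : P g := by
  have key : ∀ n, ∀ g : GL ι F, Iso f g → Fintype.card ι - Module.finrank F (fixS g) ≤ n → P g := by
    intro n
    induction n with
    | zero =>
      intro g hg hn
      have h2 : fixS g = ⊤ := by
        apply Submodule.eq_top_of_finrank_eq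
        have := Submodule.finrank_le (fixS g)
        rw [Module.finrank_fintype_fun_eq_card] at this ⊢
        omega
      have h3 : g = 1 := by
        apply ext_mulVec
        intro x
        have : x ∈ fixS g := by rw [h2]; trivial
        rw [Units.val_one, one_mulVec]; exact this
      rw [h3]; exact h1
    | succ n ih =>
      intro g hg hn
      by_cases hg1 : g = 1
      · rw [hg1]; exact h1
      obtain ⟨x, hx⟩ : ∃ x, f x (x - (g : Matrix ι ι F) *ᵥ x) ≠ 0 := by
        by_contra hc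
        push Not at hc
        apply hg1
        have h2 := hf.diag_zero ⊤ (fun x y => f x (y - (g : Matrix ι ι F) *ᵥ y))
          (fun x y z => hf.add_left _ _ _)
          (fun x y z => by
            show f x (y + z - (g : Matrix ι ι F) *ᵥ (y + z)) = _
            rw [mulVec_add, add_sub_add_comm, hf.add_right])
          (fun c x y => hf.smul_left _ _ _)
          (fun c x y => by
            show f x (c • y - (g : Matrix ι ι F) *ᵥ (c • y)) = _
            rw [mulVec_smul, ← smul_sub, hf.smul_right])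
          (fun x _ => hc x)
        apply ext_mulVec
        intro y
        rw [Units.val_one, one_mulVec]
        by_contra hne
        obtain ⟨z, hz⟩ := hf.nondeg (y - (g : Matrix ι ι F) *ᵥ y) (sub_ne_zero.2 (Ne.symm hne))
        exact hf.swap_ne hz (h2 z trivial y trivial)
      obtain ⟨a, hc, r, hr, hrx⟩ := exists_move hf (x := x) (y := (g : Matrix ι ι F) *ᵥ x) (hg x x).symm hx
      have hri := hr.iso hf hc
      have hfix : ∀ y ∈ fixS g, (r : Matrix ι ι F) *ᵥ y = y := by
        intro y hy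
        rw [mem_fixS] at hy
        have h2 : f y ((g : Matrix ι ι F) *ᵥ x) = f y x := by
          conv_lhs => rw [← hy]
          exact hg _ _
        rw [hr, hf.sub_right, h2, sub_self]
        simp
      have hiso2 : Iso f (r⁻¹ * g) := hri.inv.mul hg
      have hlt : Module.finrank F (fixS g) < Module.finrank F (fixS (r⁻¹ * g)) := by
        apply Submodule.finrank_lt_finrank_of_lt
        refine lt_of_le_of_ne ?_ ?_
        · intro y hy
          have h3 := hfix y hy
          rw [mem_fixS] at hy ⊢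
          rw [Units.val_mul, ← mulVec_mulVec, hy]
          conv_lhs => rw [← h3]
          exact inv_mulVec r y
        · intro heq
          have h3 : x ∈ fixS (r⁻¹ * g) := by
            rw [mem_fixS, Units.val_mul, ← mulVec_mulVec, ← hrx]
            exact inv_mulVec r x
          rw [← heq, mem_fixS] at h3
          apply hx
          rw [h3, sub_self, hf.zero_right]
      have h4 := ih (r⁻¹ * g) hiso2 (by
        have := Submodule.finrank_le (fixS (r⁻¹ * g))
        rw [Module.finrank_fintype_fun_eq_card] at this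
        omega)
      have h5 := hstep _ a r (r⁻¹ * g) hc hr hiso2 h4
      rwa [mul_inv_cancel_left] at h5
  exact key _ g hg le_rfl

/-! ### transvections -/

/-- the subgroup generated by transvections -/
def Tg (σ : F →+* F) (f : (ι → F) → (ι → F) → F) : Subgroup (GL ι F) :=
  Subgroup.closure {g | ∃ u a, f u u = 0 ∧ a + σ a = 0 ∧ IsR f g u a}

lemma Cd_of {u : ι → F} {a : F} (hu : f u u = 0) (ha : a + σ a = 0) : Cd σ f u a := by
  rw [Cd, hu, mul_zero, add_zero, ha]

lemma tv_mem {g : GL ι F} {u : ι → F} {a : F} (hu : f u u = 0) (ha : a + σ a = 0) (hg : IsR f g u a) : g ∈ Tg σ f :=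
  Subgroup.subset_closure ⟨u, a, hu, ha, hg⟩

lemma Tg_iso (hf : Hm σ f) {g : GL ι F} (hg : g ∈ Tg σ f) : Iso f g := by
  induction hg using Subgroup.closure_induction with
  | mem g hg =>
    obtain ⟨u, a, hu, ha, hr⟩ := hg
    exact hr.iso hf (Cd_of hu ha)
  | one => exact Iso.one
  | mul g h _ _ hg hh => exact hg.mul hh
  | inv g _ hg => exact hg.inv

lemma Tg_det (hf : Hm σ f) {g : GL ι F} (hg : g ∈ Tg σ f) : (g : Matrix ι ι F).det = 1 := by
  induction hg using Subgroup.closure_induction with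
  | mem g hg =>
    obtain ⟨u, a, hu, ha, hr⟩ := hg
    rw [hr.det hf, hu, mul_zero, add_zero]
  | one => rw [Units.val_one, Matrix.det_one]
  | mul g h _ _ hg hh => rw [Units.val_mul, Matrix.det_mul, hg, hh, mul_one]
  | inv g _ hg =>
    have h1 : ((g⁻¹ : GL ι F) : Matrix ι ι F).det * (g : Matrix ι ι F).det = 1 := by
      rw [← Matrix.det_mul, ← Units.val_mul, inv_mul_cancel, Units.val_one, Matrix.det_one]
    rwa [hg, mul_one] at h1

lemma Tg_conj (hf : Hm σ f) {g h : GL ι F} (hg : g ∈ Tg σ f) (hh : Iso f h) : h * g * h⁻¹ ∈ Tg σ f := by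
  induction hg using Subgroup.closure_induction with
  | mem g hg =>
    obtain ⟨u, a, hu, ha, hr⟩ := hg
    exact tv_mem (by rw [hh, hu]) ha (hr.conj hf hh)
  | one => rw [mul_one, mul_inv_cancel]; exact Subgroup.one_mem _
  | mul g k _ _ hg hk =>
    have : h * (g * k) * h⁻¹ = (h * g * h⁻¹) * (h * k * h⁻¹) := by group
    rw [this]; exact Subgroup.mul_mem _ hg hk
  | inv g _ hg =>
    have : h * g⁻¹ * h⁻¹ = (h * g * h⁻¹)⁻¹ := by group
    rw [this]; exact Subgroup.inv_mem _ hg

/-- moving by a transvection -/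
lemma move_T (hf : Hm σ f) {x y : ι → F} (hx : f x x = 1) (hy : f y y = 1) (h1 : f x y ≠ 1) (h2 : f x y + σ (f x y) = 2) :
    ∃ g ∈ Tg σ f, (g : Matrix ι ι F) *ᵥ x = y := by
  obtain ⟨a, hc, g, hg, hgx⟩ := exists_move hf (x := x) (y := y) (by rw [hx, hy]) (by
    rw [hf.sub_right, hx, sub_ne_zero]; exact Ne.symm h1)
  have h3 : f (x - y) (x - y) = 0 := by
    rw [hf.sub_left, hf.sub_right, hf.sub_right, hx, hy, hf.symm x y]
    linear_combination -h2
  refine ⟨g, tv_mem h3 ?_ hg, hgx⟩
  rw [Cd, h3, mul_zero, add_zero] at hc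
  exact hc

end CfsgH9.Un
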