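import Mathlib
import Cfsg.Agent.H9.Un

set_option autoImplicit false

/-! Orthogonal complements, transitivity of transvections on unit vectors, generation of SU. -/

namespace CfsgH9.Un

open Matrix CfsgH9.Tv CfsgH9.SpGen CfsgH9.Witt
open CfsgH9.MaxSymp (inv_mulVec mulVec_inv)

variable {ι : Type} [Fintype ι] [DecidableEq ι] {F : Type*} [Field F]
variable {σ : F →+* F} {f : (ι → F) → (ι → F) → F}

/-- as a Mathlib sesquilinear map -/
def toS (hf : Hm σ f) : (ι → F) →ₛₗ[σ] (ι → F) →ₗ[F] F :=
  LinearMap.mk₂'ₛₗ σ (RingHom.id F) (fun y x => f x y) (fun y y' x => hf.add_right x y y')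
    (fun c y x => by rw [hf.smul_right]; rfl) (fun y x x' => hf.add_left x x' y)
    (fun c y x => by rw [hf.smul_left]; rfl)

lemma toS_apply (hf : Hm σ f) (x y : ι → F) : toS hf y x = f x y := rfl

lemma fm (hf : Hm σ f) : Fm (toS hf) (fun x => f x x) (AddMonoidHom.id F + (σ : F →+ F)) (fun c => σ c * c) 1 := by
  refine fm_herm σ hf.ne hf.inv (toS hf) ⟨fun x y => ?_⟩ ⟨fun x hx => ?_, fun x hx => ?_⟩
  · rw [toS_apply, toS_apply]; exact (hf.symm _ _).symm
  · by_contra hne
    obtain ⟨y, hy⟩ := hf.nondeg x hne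
    exact hf.swap_ne hy (hx y)
  · by_contra hne
    obtain ⟨y, hy⟩ := hf.nondeg x hne
    exact hy (hx y)

lemma rep (hf : Hm σ f) (l : (ι → F) →ₗ[F] F) : ∃ z, ∀ x, l x = f x z := by
  obtain ⟨z, hz⟩ := (fm hf).rep l
  exact ⟨z, fun x => (hz x).symm⟩

/-- a linear functional -/
def fl (hf : Hm σ f) (y : ι → F) : (ι → F) →ₗ[F] F where
  toFun x := f x y
  map_add' x x' := hf.add_left x x' y
  map_smul' c x := by rw [hf.smul_left]; rfl

lemma fl_apply (hf : Hm σ f) (x y : ι → F) : fl hf y x = f x y := rfl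

/-- orthogonal complement -/
def perp (hf : Hm σ f) (W : Submodule F (ι → F)) : Submodule F (ι → F) where
  carrier := {x | ∀ w ∈ W, f x w = 0}
  add_mem' := fun {x y} hx hy w hw => by rw [hf.add_left, hx w hw, hy w hw, add_zero]
  zero_mem' := fun w _ => hf.zero_left w
  smul_mem' := fun c x hx w hw => by rw [hf.smul_left, hx w hw, mul_zero]

lemma mem_perp (hf : Hm σ f) {W : Submodule F (ι → F)} {x : ι → F} : x ∈ perp hf W ↔ ∀ w ∈ W, f x w = 0 := Iff.rfl

lemma exists_perp (hf : Hm σ f) {W : Submodule F (ι → F)} {w : ι → F} (hw : w ∉ W) :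
    ∃ v ∈ perp hf W, f v w = 1 := by
  obtain ⟨φ, hφ, hφW⟩ := Submodule.exists_dual_map_eq_bot_of_notMem hw inferInstance
  obtain ⟨z, hz⟩ := rep hf φ
  have h1 : f z w ≠ 0 := by
    intro h
    apply hφ
    rw [hz]; exact hf.swap h
  have h2 : z ∈ perp hf W := by
    intro u hu
    have h3 : φ u ∈ W.map φ := ⟨u, hu, rfl⟩
    rw [hφW, Submodule.mem_bot, hz] at h3
    exact hf.swap h3
  exact ⟨(f z w)⁻¹ • z, (perp hf W).smul_mem _ h2, by rw [hf.smul_left, inv_mul_cancel₀ h1]⟩

lemma perp_perp (hf : Hm σ f) (W : Submodule F (ι → F)) : perp hf (perp hf W) = W := by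
  apply le_antisymm
  · intro x hx
    by_contra hxW
    obtain ⟨v, hv, hv1⟩ := exists_perp hf hxW
    exact one_ne_zero (hv1.symm.trans (hf.swap (hx v hv)))
  · intro x hx v hv
    exact hf.swap (hv x hx)

lemma finrank_perp_ge (hf : Hm σ f) (W : Submodule F (ι → F)) :
    Fintype.card ι ≤ Module.finrank F (perp hf W) + Module.finrank F W := by
  let b := Module.finBasis F W
  let φ : (ι → F) →ₗ[F] (Fin (Module.finrank F W) → F) := LinearMap.pi (fun i => fl hf (b i : ι → F))
  have hker : LinearMap.ker φ = perp hf W := by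
    ext x
    rw [LinearMap.mem_ker]
    constructor
    · intro h w hw
      have h1 : ∀ i, f x (b i : ι → F) = 0 := fun i => congrFun h i
      have h2 : W ≤ perp hf (Submodule.span F {x}) := by
        have h3 : Submodule.map W.subtype (Submodule.span F (Set.range b)) ≤ perp hf (Submodule.span F {x}) := by
          rw [Submodule.map_span, Submodule.span_le]
          rintro _ ⟨_, ⟨i, rfl⟩, rfl⟩
          intro y hy
          obtain ⟨c, rfl⟩ := Submodule.mem_span_singleton.1 hy
          rw [hf.smul_right, hf.swap (show f x (W.subtype (b i)) = 0 from h1 i), mul_zero]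
        rw [b.span_eq, Submodule.map_subtype_top] at h3
        exact h3
      exact hf.swap (h2 hw x (Submodule.mem_span_singleton_self x))
    · intro h
      ext i
      exact h _ (b i).2
  have h1 := LinearMap.finrank_range_add_finrank_ker φ
  rw [hker, Module.finrank_fintype_fun_eq_card] at h1
  have h2 := Submodule.finrank_le (LinearMap.range φ)
  rw [Module.finrank_fintype_fun_eq_card, Fintype.card_fin] at h2
  omega

/-- a unit vector orthogonal to `W` -/
lemma exists_in_perp [Finite F] (hf : Hm σ f) {W : Submodule F (ι → F)} (h : ¬ perp hf W ≤ W) {b : F} (hb : σ b = b) :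
    ∃ e ∈ perp hf W, f e e = b ∧ (b ≠ 0 → e ≠ 0) := by
  obtain ⟨w, hw, hwW⟩ := SetLike.not_le_iff_exists.1 h
  obtain ⟨v, hv, hvw⟩ := exists_perp hf hwW
  exact hf.exists_one ⟨v, hv, w, hw, by rw [hvw]; exact one_ne_zero⟩ hb

lemma finrank_span_pair (x y : ι → F) : Module.finrank F (Submodule.span F {x, y}) ≤ 2 := by
  classical
  have h := finrank_span_finset_le_card (R := F) ({x, y} : Finset (ι → F))
  have h2 : ((({x, y} : Finset (ι → F)) : Set (ι → F))) = {x, y} := by simp
  rw [h2] at h
  exact h.trans Finset.card_le_two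

lemma mem_perp_pair (hf : Hm σ f) {x y z : ι → F} : z ∈ perp hf (Submodule.span F {x, y}) ↔ f z x = 0 ∧ f z y = 0 := by
  constructor
  · intro h
    exact ⟨h x (Submodule.subset_span (by simp)), h y (Submodule.subset_span (by simp))⟩
  · rintro ⟨h1, h2⟩ w hw
    obtain ⟨a, b, rfl⟩ := Submodule.mem_span_pair.1 hw
    rw [hf.add_right, hf.smul_right, hf.smul_right, h1, h2, mul_zero, mul_zero, add_zero]

lemma mem_perp_one (hf : Hm σ f) {x z : ι → F} : z ∈ perp hf (Submodule.span F {x}) ↔ f z x = 0 := by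
  constructor
  · intro h
    exact h x (Submodule.subset_span (by simp))
  · intro h1 w hw
    obtain ⟨a, rfl⟩ := Submodule.mem_span_singleton.1 hw
    rw [hf.smul_right, h1, mul_zero]

lemma trans_nondeg [Finite F] (hf : Hm σ f) (hn : 3 ≤ Fintype.card ι) {x y : ι → F} (hx : f x x = 1) (hy : f y y = 1)
    (h : f x y * σ (f x y) ≠ 1) : ∃ g ∈ Tg σ f, (g : Matrix ι ι F) *ᵥ x = y := by
  obtain ⟨k, hk0, hk⟩ := hf.kappa
  set c := f x y with hc
  have hyx : f y x = σ c := hf.symm x y
  have hD : 1 - c * σ c ≠ 0 := sub_ne_zero.2 (Ne.symm h)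
  have hσσ : σ (σ c) = c := hf.inv c
  -- the complement
  have hE : ¬ perp hf (Submodule.span F {x, y}) ≤ Submodule.span F {x, y} := by
    intro hle
    have h1 := finrank_perp_ge hf (Submodule.span F {x, y})
    have h2 := finrank_span_pair x y
    have h3 : perp hf (Submodule.span F {x, y}) = ⊥ := by
      rw [eq_bot_iff]
      intro z hz
      obtain ⟨a, b, rfl⟩ := Submodule.mem_span_pair.1 (hle hz)
      obtain ⟨h4, h5⟩ := (mem_perp_pair hf).1 hz
      rw [hf.add_left, hf.smul_left, hf.smul_left, hx, hyx] at h4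
      rw [hf.add_left, hf.smul_left, hf.smul_left, hy, ← hc] at h5
      have hb : b = 0 := by
        have : (1 - c * σ c) * b = 0 := by linear_combination h5 - c * h4
        exact (mul_eq_zero.1 this).resolve_left hD
      have ha : a = 0 := by
        rw [hb] at h4; simpa using h4
      rw [ha, hb]; simp
    rw [h3, finrank_bot] at h1
    omega
  set p := (1 + k) * (1 - σ c) * (1 - c * σ c)⁻¹ with hp
  set r := (1 + k) * (1 - c) * (1 - c * σ c)⁻¹ with hr
  set z0 := p • x + r • y with hz0
  have h1 : f z0 x = 1 + k := by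
    rw [hz0, hf.add_left, hf.smul_left, hf.smul_left, hx, hyx, hp, hr]
    have : (1 + k) * (1 - σ c) * (1 - c * σ c)⁻¹ * 1 + (1 + k) * (1 - c) * (1 - c * σ c)⁻¹ * σ c =
      (1 + k) * ((1 - c * σ c) * (1 - c * σ c)⁻¹) := by ring
    rw [this, mul_inv_cancel₀ hD, mul_one]
  have h2 : f z0 y = 1 + k := by
    rw [hz0, hf.add_left, hf.smul_left, hf.smul_left, hy, ← hc, hp, hr]
    have : (1 + k) * (1 - σ c) * (1 - c * σ c)⁻¹ * c + (1 + k) * (1 - c) * (1 - c * σ c)⁻¹ * 1 =
      (1 + k) * ((1 - c * σ c) * (1 - c * σ c)⁻¹) := by ring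
    rw [this, mul_inv_cancel₀ hD, mul_one]
  obtain ⟨w, hw, hww, -⟩ := exists_in_perp hf hE (b := 1 - f z0 z0) (by rw [map_sub, map_one, hf.self])
  obtain ⟨hwx, hwy⟩ := (mem_perp_pair hf).1 hw
  have hwz : f w z0 = 0 := by
    rw [hz0, hf.add_right, hf.smul_right, hf.smul_right, hwx, hwy, mul_zero, mul_zero, add_zero]
  set z := z0 + w with hz
  have hzz : f z z = 1 := by
    rw [hz, hf.add_left, hf.add_right z0, hf.add_right w, hwz, hf.swap hwz, hww]; ring
  have hzx : f z x = 1 + k := by rw [hz, hf.add_left, h1, hwx, add_zero]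
  have hzy : f z y = 1 + k := by rw [hz, hf.add_left, h2, hwy, add_zero]
  have hne : (1 : F) + k ≠ 1 := by
    intro h; apply hk0; linear_combination h
  have htr : (1 : F) + k + σ (1 + k) = 2 := by rw [map_add, map_one, hk]; ring
  obtain ⟨g1, hg1, h3⟩ := move_T hf hzz hx (by rw [hzx]; exact hne) (by rw [hzx]; exact htr)
  obtain ⟨g2, hg2, h4⟩ := move_T hf hzz hy (by rw [hzy]; exact hne) (by rw [hzy]; exact htr)
  refine ⟨g2 * g1⁻¹, Subgroup.mul_mem _ hg2 (Subgroup.inv_mem _ hg1), ?_⟩
  rw [Units.val_mul, ← mulVec_mulVec, ← h3, inv_mulVec, h4]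

/-- transitivity on unit vectors -/
theorem trans_T [Finite F] (hf : Hm σ f) (hn : 3 ≤ Fintype.card ι)
    (hn' : 4 ≤ Fintype.card ι ∨ ∃ b : F, b ≠ 0 ∧ b * σ b ≠ 1) {x y : ι → F} (hx : f x x = 1) (hy : f y y = 1) :
    ∃ g ∈ Tg σ f, (g : Matrix ι ι F) *ᵥ x = y := by
  by_cases h : f x y * σ (f x y) = 1
  swap
  · exact trans_nondeg hf hn hx hy h
  -- it suffices to find an intermediate vector
  suffices hz : ∃ z, f z z = 1 ∧ f x z * σ (f x z) ≠ 1 ∧ f z y * σ (f z y) ≠ 1 by
    obtain ⟨z, hz, h1, h2⟩ := hz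
    obtain ⟨g1, hg1, h3⟩ := trans_nondeg hf hn hx hz h1
    obtain ⟨g2, hg2, h4⟩ := trans_nondeg hf hn hz hy h2
    exact ⟨g2 * g1, Subgroup.mul_mem _ hg2 hg1, by rw [Units.val_mul, ← mulVec_mulVec, h3, h4]⟩
  set u := y - f y x • x with hu
  have hyu : y = f y x • x + u := by rw [hu]; abel
  have hux : f u x = 0 := by rw [hu, hf.sub_left, hf.smul_left, hx, mul_one, sub_self]
  have huu : f u u = 0 := by
    have h1 : f y y = f y x * σ (f y x) + f u u := by
      conv_lhs => rw [hyu]
      rw [hf.add_left, hf.add_right, hf.add_right, hf.smul_left, hf.smul_left, hf.smul_right, hf.smul_right, hx, hux,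
        hf.swap hux]
      ring
    rw [hy, hf.symm x y, hf.inv, mul_comm, h] at h1
    linear_combination -h1
  have hx0 : x ≠ 0 := by
    rintro rfl
    rw [hf.zero_left] at hx
    exact zero_ne_one hx
  by_cases hu0 : u = 0
  · have hE : ¬ perp hf (Submodule.span F {x}) ≤ Submodule.span F {x} := by
      intro hle
      have h1 := finrank_perp_ge hf (Submodule.span F {x})
      have h3 : perp hf (Submodule.span F {x}) = ⊥ := by
        rw [eq_bot_iff]
        intro z hz
        obtain ⟨a, rfl⟩ := Submodule.mem_span_singleton.1 (hle hz)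
        have h4 := (mem_perp_one hf).1 hz
        rw [hf.smul_left, hx, mul_one] at h4
        rw [h4]; simp
      rw [h3, finrank_bot, finrank_span_singleton hx0] at h1
      omega
    obtain ⟨z, hz, hzz, -⟩ := exists_in_perp hf hE (b := 1) (map_one σ)
    have hzx := (mem_perp_one hf).1 hz
    refine ⟨z, hzz, ?_, ?_⟩
    · rw [hf.swap hzx]; simp
    · rw [hyu, hu0, add_zero, hf.smul_right, hzx]; simp
  · have hux' : u ∉ Submodule.span F {x} := by
      intro hc
      obtain ⟨a, ha⟩ := Submodule.mem_span_singleton.1 hc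
      rw [← ha, hf.smul_left, hx, mul_one] at hux
      rw [hux, zero_smul] at ha
      exact hu0 ha.symm
    rcases hn' with hn4 | ⟨b, hb0, hb1⟩
    · have hE : ¬ perp hf (Submodule.span F {x, u}) ≤ Submodule.span F {x, u} := by
        intro hle
        have h1 := finrank_perp_ge hf (Submodule.span F {x, u})
        have h2 := finrank_span_pair x u
        have h3 : perp hf (Submodule.span F {x, u}) ≤ Submodule.span F {u} := by
          intro z hz
          obtain ⟨a, b, rfl⟩ := Submodule.mem_span_pair.1 (hle hz)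
          obtain ⟨h4, h5⟩ := (mem_perp_pair hf).1 hz
          rw [hf.add_left, hf.smul_left, hf.smul_left, hx, hux] at h4
          have ha : a = 0 := by simpa using h4
          rw [ha, zero_smul, zero_add]
          exact Submodule.smul_mem _ _ (Submodule.mem_span_singleton_self u)
        have h4 := Submodule.finrank_mono h3
        rw [finrank_span_singleton hu0] at h4
        omega
      obtain ⟨z, hz, hzz, -⟩ := exists_in_perp hf hE (b := 1) (map_one σ)
      obtain ⟨hzx, hzu⟩ := (mem_perp_pair hf).1 hz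
      refine ⟨z, hzz, ?_, ?_⟩
      · rw [hf.swap hzx]; simp
      · rw [hyu, hf.add_right, hf.smul_right, hzx, hzu]; simp
    · obtain ⟨v, hv, hvu⟩ := exists_perp hf hux'
      have hvx := (mem_perp_one hf).1 hv
      have hσb : σ b ≠ 0 := by rw [Ne, map_eq_zero]; exact hb0
      obtain ⟨t, ht⟩ := hf.trace (b := 1 - b * σ b * f v v) (by
        rw [map_sub, map_one, map_mul, map_mul, hf.inv, hf.self]; ring)
      set z := (t * (σ b)⁻¹) • u + b • v with hz
      have huv : f u v = 1 := by rw [hf.symm v u, hvu, map_one]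
      have hzu : f z u = b := by
        rw [hz, hf.add_left, hf.smul_left, hf.smul_left, huu, hvu]; ring
      have hzx : f z x = 0 := by
        rw [hz, hf.add_left, hf.smul_left, hf.smul_left, hux, hvx]; ring
      have hzz : f z z = 1 := by
        rw [hz, hf.add_left, hf.add_right, hf.add_right]
        simp only [hf.smul_left, hf.smul_right, huu, huv, hvu, map_mul, map_inv₀, hf.inv]
        field_simp
        linear_combination (b * σ b) * ht
      refine ⟨z, hzz, ?_, ?_⟩
      · rw [hf.swap hzx]; simp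
      · rw [hyu, hf.add_right, hf.smul_right, hzx, hzu, mul_zero, zero_add]; exact hb1

end CfsgH9.Un
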