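import Mathlib
import Cfsg.Agent.H9.Un2
import Cfsg.Agent.H9.HermF
import Cfsg.Prelude.Def_LieClassical
import Cfsg.Prelude.Def_ClassicalGeometry

set_option autoImplicit false

/-! Generation of SU by transvections, commutators. -/

namespace CfsgH9.Un

open Matrix CfsgH9.Tv CfsgH9.SpGen CfsgH9.Witt
open CfsgH9.MaxSymp (inv_mulVec mulVec_inv)

variable {ι : Type} [Fintype ι] [DecidableEq ι] {F : Type*} [Field F]
variable {σ : F →+* F} {f : (ι → F) → (ι → F) → F}

theorem gen_SU [Finite F] (hf : Hm σ f) (hn : 3 ≤ Fintype.card ι)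
    (hn' : 4 ≤ Fintype.card ι ∨ ∃ b : F, b ≠ 0 ∧ b * σ b ≠ 1) {g : GL ι F} (hg : Iso f g)
    (hdet : (g : Matrix ι ι F).det = 1) : g ∈ Tg σ f := by
  -- a unit vector
  obtain ⟨e0, -, he0, -⟩ := exists_in_perp hf (W := ⊥) (b := 1) (by
    intro hle
    have h1 := finrank_perp_ge hf (⊥ : Submodule F (ι → F))
    have h2 := Submodule.finrank_mono hle
    rw [finrank_bot] at h1 h2
    omega) (map_one σ)
  have key : ∃ t ∈ Tg σ f, ∃ a r, Cd σ f e0 a ∧ IsR f r e0 a ∧ g = t * r := by
    refine induct hf (P := fun g => ∃ t ∈ Tg σ f, ∃ a r, Cd σ f e0 a ∧ IsR f r e0 a ∧ g = t * r) ?_ ?_ g hg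
    · refine ⟨1, Subgroup.one_mem _, 0, 1, ?_, ?_, by rw [one_mul]⟩
      · simp [Cd]
      · intro x; rw [Units.val_one, one_mulVec]; simp
    · rintro e a r g hc hr hg ⟨t, ht, b, s, hcb, hs, rfl⟩
      by_cases hee : f e e = 0
      · refine ⟨r * t, Subgroup.mul_mem _ (tv_mem hee ?_ hr) ht, b, s, hcb, hs, by rw [mul_assoc]⟩
        rw [Cd, hee, mul_zero, add_zero] at hc
        exact hc
      · -- normalise e
        obtain ⟨c, hcc⟩ := hf.norm (b := (f e e)⁻¹) (by rw [map_inv₀, hf.self])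
        have hc0 : c ≠ 0 := by
          rintro rfl
          rw [zero_mul] at hcc
          exact hee (inv_eq_zero.1 hcc.symm)
        have he1 : f (c • e) (c • e) = 1 := by
          rw [hf.smul_left, hf.smul_right, ← mul_assoc, hcc, inv_mul_cancel₀ hee]
        obtain ⟨h, hh, hhe⟩ := trans_T hf hn hn' he0 he1
        have hhi := Tg_iso hf hh
        -- r as a reflection along c • e
        obtain ⟨a', hr', hca'⟩ : ∃ a', IsR f r (c • e) a' ∧ Cd σ f (c • e) a' := by
          have hσc : σ c ≠ 0 := by rw [Ne, map_eq_zero]; exact hc0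
          refine ⟨a * (σ c)⁻¹ * c⁻¹, IsR.smul' hf ?_, ?_⟩
          · have : a * (σ c)⁻¹ * c⁻¹ * σ c * c = a := by field_simp
            rw [this]; exact hr
          · rw [Cd] at hc ⊢
            rw [hf.smul_left, hf.smul_right, map_mul, map_mul, map_inv₀, map_inv₀, hf.inv]
            field_simp
            linear_combination hc
        -- the reflection r0 along e0 with the same parameter
        have hca0 : Cd σ f e0 a' := by
          rw [Cd, he1] at hca'
          rw [Cd, he0]; exact hca'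
        obtain ⟨r0, hr0⟩ := exists_R hf hca0
        have hr0i := hr0.iso hf hca0
        have h1 : r = h * r0 * h⁻¹ := by
          have h2 := hr0.conj hf hhi
          rw [hhe] at h2
          exact hr'.unique h2
        refine ⟨h * (r0 * h⁻¹ * r0⁻¹) * (r0 * t * r0⁻¹), ?_, a' + b + a' * b * f e0 e0, r0 * s, ?_, hr0.mul hf hs, ?_⟩
        · exact Subgroup.mul_mem _ (Subgroup.mul_mem _ hh (Tg_conj hf (Subgroup.inv_mem _ hh) hr0i)) (Tg_conj hf ht hr0i)
        · rw [Cd, he0] at hca0 hcb ⊢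
          simp only [map_add, map_mul, map_one, mul_one] at hca0 hcb ⊢
          linear_combination (1 + b + σ b + b * σ b) * hca0 + hcb
        · rw [h1]; group
  obtain ⟨t, ht, a, r, hc, hr, rfl⟩ := key
  rw [Units.val_mul, Matrix.det_mul, Tg_det hf ht, one_mul, hr.det hf, he0, mul_one] at hdet
  have ha : a = 0 := by linear_combination hdet
  rw [hr.zero ha, mul_one]
  exact ht

/-! ### the standard form -/

section std

variable {q n : ℕ} [Fintype F]

lemma hm_std (hF : Fintype.card F = q ^ 2) {σ : F →+* F} (hσ : ∀ x, σ x = x ^ q) (hσ1 : σ ≠ RingHom.id F)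
    (hσ2 : ∀ x, σ (σ x) = x) : Hm σ (Cfsg.hermForm n F q) := by
  have hq := HermF.q_pos hF
  refine ⟨?_, ?_, ?_, ?_, hσ2, hσ1⟩
  · intro x y z
    simp only [Cfsg.hermForm, Pi.add_apply, add_mul, Finset.sum_add_distrib]
  · intro c x y
    simp only [Cfsg.hermForm, Pi.smul_apply, smul_eq_mul, mul_assoc, Finset.mul_sum]
  · intro x y
    simp only [Cfsg.hermForm, map_sum, map_mul]
    refine Finset.sum_congr rfl fun i _ => ?_
    rw [← hσ, ← hσ, hσ2, mul_comm]
  · intro x hx
    obtain ⟨i, hi⟩ := Function.ne_iff.1 hx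
    refine ⟨Pi.single i 1, ?_⟩
    rw [Cfsg.hermForm, Finset.sum_eq_single i]
    · rw [Pi.single_eq_same, one_pow, mul_one]; exact hi
    · intro j _ hj
      rw [Pi.single_eq_of_ne hj, zero_pow (by omega), mul_zero]
    · simp

/-- existence of elements of norm different from 0, 1 -/
lemma exists_norm (hF : Fintype.card F = q ^ 2) (hq : 3 ≤ q) {σ : F →+* F} (hσ : ∀ x, σ x = x ^ q) :
    ∃ b : F, b ≠ 0 ∧ b * σ b ≠ 1 := by
  obtain ⟨x, hx⟩ : IsCyclic Fˣ := inferInstance
  refine ⟨x, x.ne_zero, ?_⟩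
  rw [hσ, ← pow_succ']
  intro h
  have h1 : x ^ (q + 1) = 1 := Units.ext (by rw [Units.val_pow_eq_pow_val, h, Units.val_one])
  have h2 := orderOf_dvd_of_pow_eq_one h1
  rw [orderOf_eq_card_of_forall_mem_zpowers hx, HermF.card_units' hF] at h2
  have h3 := Nat.le_of_dvd (by omega) h2
  have h4 : (q + 1) * 2 ≤ (q + 1) * (q - 1) := Nat.mul_le_mul_left _ (by omega)
  omega

end std

end CfsgH9.Un
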