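import Mathlib
import Cfsg.Agent.H9.Un3
import Cfsg.Agent.H9.MaxRedSL

set_option autoImplicit false

/-! Maximality of subspace stabilisers in SU. -/

namespace CfsgH9.Un

open Matrix CfsgH9.Tv CfsgH9.SpGen CfsgH9.Witt Cfsg Cfsg.Geo
open CfsgH9.MaxSymp (inv_mulVec mulVec_inv two_nonzero)
open CfsgH9.MaxRedSL (mem_stab_of mem_stab_iff)
open CfsgH9.MaxImpSp (glOf glOf_mulVec)

variable {ι : Type} [Fintype ι] [DecidableEq ι] {F : Type*} [Field F]
variable {σ : F →+* F} {f : (ι → F) → (ι → F) → F}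

/-- determinants of isometries have norm one -/
lemma Iso.det_norm (hf : Hm σ f) {g : GL ι F} (hg : Iso f g) :
    (g : Matrix ι ι F).det * σ (g : Matrix ι ι F).det = 1 := by
  refine induct hf (P := fun g => (g : Matrix ι ι F).det * σ (g : Matrix ι ι F).det = 1) ?_ ?_ g hg
  · rw [Units.val_one, Matrix.det_one, map_one, mul_one]
  · intro e a r g hc hr _ h
    rw [Units.val_mul, Matrix.det_mul, map_mul, hr.det hf, map_add, map_one, map_mul, hf.self]
    rw [Cd] at hc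
    linear_combination (1 + (a + σ a + a * σ a * f e e) * f e e) * h + f e e * hc

lemma GL_of_Isom (hf : Hm σ f) {g : (ι → F) ≃ₗ[F] (ι → F)} (hg : Isom (toS hf) (fun x => f x x) g) :
    Iso f (glOf g) := by
  intro x y
  rw [glOf_mulVec, glOf_mulVec]
  exact hg.1 y x

/-- a reflection with prescribed determinant -/
lemma exists_refl [Finite F] (hf : Hm σ f) {W : Submodule F (ι → F)} (h : ¬ perp hf W ≤ W) {d : F} (hd : d * σ d = 1) :
    ∃ r : GL ι F, Iso f r ∧ (r : Matrix ι ι F).det = d ∧ ∀ w ∈ W, (r : Matrix ι ι F) *ᵥ w = w := by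
  obtain ⟨e, he, hee, -⟩ := exists_in_perp hf h (b := 1) (map_one σ)
  have hc : Cd σ f e (d - 1) := by
    rw [Cd, hee, map_sub, map_one]; linear_combination hd
  obtain ⟨r, hr⟩ := exists_R hf hc
  refine ⟨r, hr.iso hf hc, ?_, ?_⟩
  · rw [hr.det hf, hee]; ring
  · intro w hw
    rw [hr, hf.swap (he w hw)]; simp

/-- extension of a partial isometry by one vector and then to everything -/
lemma extend_one (hf : Hm σ f) {W : Submodule F (ι → F)} {φ : (ι → F) →ₗ[F] (ι → F)}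
    (hφ : ∀ u ∈ W, ∀ v ∈ W, f (φ u) (φ v) = f u v) (hinj : ∀ u ∈ W, φ u = 0 → u = 0) {w w' : ι → F} (hw : w ∉ W)
    (hw' : ∀ u ∈ W, φ u ≠ w') (hb : ∀ u ∈ W, f (φ u) w' = f u w) (hn : f w' w' = f w w) :
    ∃ g : GL ι F, Iso f g ∧ (∀ u ∈ W, (g : Matrix ι ι F) *ᵥ u = φ u) ∧ (g : Matrix ι ι F) *ᵥ w = w' := by
  have hP : Pres (toS hf) (fun x => f x x) W φ := ⟨fun u hu v hv => hφ v hv u hu, fun u hu => hφ u hu u hu, hinj⟩
  obtain ⟨φ', hφ', h1, h2⟩ := (fm hf).step hP (w := w) (w' := w') hw hw' (fun u hu => hb u hu) hn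
  obtain ⟨g, hg, hgf⟩ := (fm hf).extend _ _ φ' le_rfl hφ'
  refine ⟨glOf g, GL_of_Isom hf hg, ?_, ?_⟩
  · intro u hu
    rw [glOf_mulVec, hgf u (Submodule.mem_sup_left hu), h1 u hu]
  · rw [glOf_mulVec, hgf w (Submodule.mem_sup_right (Submodule.mem_span_singleton_self w)), h2]

/-- Witt in GL form -/
lemma witt_GL (hf : Hm σ f) {W : Submodule F (ι → F)} {φ : (ι → F) →ₗ[F] (ι → F)}
    (hφ : ∀ u ∈ W, ∀ v ∈ W, f (φ u) (φ v) = f u v) (hinj : ∀ u ∈ W, φ u = 0 → u = 0) :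
    ∃ g : GL ι F, Iso f g ∧ (∀ u ∈ W, (g : Matrix ι ι F) *ᵥ u = φ u) := by
  have hP : Pres (toS hf) (fun x => f x x) W φ := ⟨fun u hu v hv => hφ v hv u hu, fun u hu => hφ u hu u hu, hinj⟩
  obtain ⟨g, hg, hgf⟩ := (fm hf).extend _ _ φ le_rfl hP
  refine ⟨glOf g, GL_of_Isom hf hg, ?_⟩
  intro u hu
  rw [glOf_mulVec, hgf u hu]

/-- correcting the determinant -/
lemma adjust [Finite F] (hf : Hm σ f) {W : Submodule F (ι → F)} (h : ¬ perp hf W ≤ W) {g : GL ι F} (hg : Iso f g) :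
    ∃ g' : GL ι F, Iso f g' ∧ (g' : Matrix ι ι F).det = 1 ∧ ∀ w ∈ W, (g' : Matrix ι ι F) *ᵥ w = (g : Matrix ι ι F) *ᵥ w := by
  have h1 := hg.det_norm hf
  obtain ⟨r, hr, hrd, hrw⟩ := exists_refl hf h (d := σ (g : Matrix ι ι F).det) (by rw [hf.inv, mul_comm]; exact h1)
  refine ⟨g * r, hg.mul hr, ?_, ?_⟩
  · rw [Units.val_mul, Matrix.det_mul, hrd, h1]
  · intro w hw
    rw [Units.val_mul, ← mulVec_mulVec, hrw w hw]

/-- make a vector isotropic by adding a multiple of an isotropic one -/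
lemma exists_iso_add (hf : Hm σ f) {u z : ι → F} (hu : f u u = 0) (h : f z u ≠ 0) : ∃ a : F, f (z + a • u) (z + a • u) = 0 := by
  obtain ⟨t, ht⟩ := hf.trace (b := - f z z) (by rw [map_neg, hf.self])
  have h' : f u z ≠ 0 := hf.swap_ne h
  refine ⟨t * (f u z)⁻¹, ?_⟩
  rw [hf.add_left, hf.add_right, hf.add_right, hf.smul_left, hf.smul_right, hf.smul_left, hf.smul_right, hu, map_mul,
    map_inv₀, ← hf.symm]
  field_simp
  linear_combination (f z u * f u z) * ht

/-- the diagonal element on a hyperbolic pair -/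
lemma exists_D (hf : Hm σ f) {w y : ι → F} (hw : f w w = 0) (hy : f y y = 0) (hwy : f w y = 1) {x : F} (hx : x ≠ 0) :
    ∃ g : GL ι F, Iso f g ∧ (g : Matrix ι ι F).det = x * (σ x)⁻¹ ∧
      ∀ z, (g : Matrix ι ι F) *ᵥ z = z + ((x - 1) * f z y) • w + (((σ x)⁻¹ - 1) * f z w) • y := by
  have hσx : σ x ≠ 0 := by rw [Ne, map_eq_zero]; exact hx
  have hyw : f y w = 1 := by rw [hf.symm, hwy, map_one]
  have hd1 : (1 + vecMulVec w ((x - 1) • cov f y) : Matrix ι ι F).det = x := by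
    rw [vecMulVec_eq Unit, det_one_add_replicateCol_mul_replicateRow, smul_dotProduct, cov_dot hf, hwy, smul_eq_mul]; ring
  have hd2 : (1 + vecMulVec y (((σ x)⁻¹ - 1) • cov f w) : Matrix ι ι F).det = (σ x)⁻¹ := by
    rw [vecMulVec_eq Unit, det_one_add_replicateCol_mul_replicateRow, smul_dotProduct, cov_dot hf, hyw, smul_eq_mul]; ring
  have hact : ∀ z, (((1 + vecMulVec w ((x - 1) • cov f y)) * (1 + vecMulVec y (((σ x)⁻¹ - 1) • cov f w)) : Matrix ι ι F)) *ᵥ z =
      z + ((x - 1) * f z y) • w + (((σ x)⁻¹ - 1) * f z w) • y := by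
    intro z
    rw [← mulVec_mulVec, add_mulVec, one_mulVec, vecMulVec_mulVec, smul_dotProduct, cov_dot hf, op_smul_eq_smul,
      add_mulVec, one_mulVec, vecMulVec_mulVec, smul_dotProduct, cov_dot hf, op_smul_eq_smul, hf.add_left, hf.smul_left, hy]
    simp only [smul_eq_mul, mul_zero, add_zero]
    module
  have hdet : ((1 + vecMulVec w ((x - 1) • cov f y)) * (1 + vecMulVec y (((σ x)⁻¹ - 1) • cov f w)) : Matrix ι ι F).det =
      x * (σ x)⁻¹ := by rw [Matrix.det_mul, hd1, hd2]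
  refine ⟨Matrix.GeneralLinearGroup.mkOfDetNeZero _ (by rw [hdet]; exact mul_ne_zero hx (inv_ne_zero hσx)), ?_, hdet, hact⟩
  intro z z'
  have h1 : ∀ z, ((Matrix.GeneralLinearGroup.mkOfDetNeZero _ (by rw [hdet]; exact mul_ne_zero hx (inv_ne_zero hσx)) : GL ι F) : Matrix ι ι F) *ᵥ z = z + ((x - 1) * f z y) • w + (((σ x)⁻¹ - 1) * f z w) • y := hact
  rw [h1, h1]
  simp only [hf.add_left, hf.add_right, hf.smul_left, hf.smul_right, map_mul, map_sub, map_one, map_inv₀, hf.inv, hw, hy,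
    hwy, hyw]
  rw [← hf.symm, ← hf.symm]
  field_simp
  ring

variable {M : Subgroup (GL ι F)}

/-- all transvections with centre `u` lie in `M` -/
def XS (σ : F →+* F) (f : (ι → F) → (ι → F) → F) (M : Subgroup (GL ι F)) (u : ι → F) : Prop :=
  ∀ (a : F) (g : GL ι F), a + σ a = 0 → IsR f g u a → g ∈ M

lemma XS_map (hf : Hm σ f) {h : GL ι F} (hh : h ∈ M) (hiso : Iso f h) {u : ι → F} (hu : XS σ f M u) :
    XS σ f M ((h : Matrix ι ι F) *ᵥ u) := by
  intro a g ha hg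
  have h1 : IsR f (h⁻¹ * g * h) u a := by
    have := hg.conj hf hiso.inv
    rwa [inv_mulVec, inv_inv] at this
  have h2 := M.mul_mem (M.mul_mem hh (hu a _ ha h1)) (M.inv_mem hh)
  have h3 : h * (h⁻¹ * g * h) * h⁻¹ = g := by group
  rwa [h3] at h2

lemma XS_smul (hf : Hm σ f) {u : ι → F} (hu : XS σ f M u) (c : F) : XS σ f M (c • u) := by
  intro a g ha hg
  refine hu _ g ?_ (hg.smul hf)
  rw [map_mul, map_mul, hf.inv]
  linear_combination c * σ c * ha

lemma XS_of_smul (hf : Hm σ f) {u : ι → F} {c : F} (hc : c ≠ 0) (hu : XS σ f M (c • u)) : XS σ f M u := by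
  have := XS_smul hf hu c⁻¹
  rwa [smul_smul, inv_mul_cancel₀ hc, one_smul] at this

/-- the special unitary group of the form, inside GL -/
def IsK (f : (ι → F) → (ι → F) → F) (K : Subgroup (GL ι F)) : Prop :=
  ∀ g : GL ι F, g ∈ K ↔ Iso f g ∧ (g : Matrix ι ι F).det = 1

lemma le_of_all_XS [Finite F] (hf : Hm σ f) (hn : 3 ≤ Fintype.card ι)
    (hn' : 4 ≤ Fintype.card ι ∨ ∃ b : F, b ≠ 0 ∧ b * σ b ≠ 1) {K : Subgroup (GL ι F)} (hK : IsK f K)
    (h : ∀ u, f u u = 0 → XS σ f M u) : K ≤ M := by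
  intro g hg
  obtain ⟨h1, h2⟩ := (hK g).1 hg
  have h3 := gen_SU hf hn hn' h1 h2
  have h4 : Tg σ f ≤ M := by
    rw [Tg, Subgroup.closure_le]
    rintro g ⟨u, a, hu, ha, hg⟩
    exact h u hu a g ha hg
  exact h4 h3

lemma tv_mem_K (hf : Hm σ f) {K : Subgroup (GL ι F)} (hK : IsK f K) {u : ι → F} (hu : f u u = 0) {a : F}
    (ha : a + σ a = 0) {g : GL ι F} (hg : IsR f g u a) : g ∈ K :=
  (hK g).2 ⟨hg.iso hf (Cd_of hu ha), by rw [hg.det hf, hu, mul_zero, add_zero]⟩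

/-- transitivity of the parabolic on isotropic points outside `W^⊥` -/
lemma par_trans (hf : Hm σ f) {K : Subgroup (GL ι F)} (hK : IsK f K) {W : Submodule F (ι → F)}
    (hW : IsTotallySingularFor f W) {y y' : ι → F} (hy : f y y = 0) (hy' : f y' y' = 0) (hyW : y ∉ perp hf W)
    (hyW' : y' ∉ perp hf W) : ∃ h ∈ subspaceStabilizer W ⊓ K, ∃ c : F, c ≠ 0 ∧ (h : Matrix ι ι F) *ᵥ y = c • y' := by
  have hWP : W ≤ perp hf W := fun x hx y hy => hW x hx y hy
  obtain ⟨w1, hw1, hw1y⟩ : ∃ w ∈ W, f w y ≠ 0 := by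
    by_contra hc
    push Not at hc
    exact hyW (fun w hw => hf.swap (hc w hw))
  obtain ⟨w2, hw2, hw2y⟩ : ∃ w ∈ W, f w y' ≠ 0 := by
    by_contra hc
    push Not at hc
    exact hyW' (fun w hw => hf.swap (hc w hw))
  obtain ⟨a0, ha0, ha1, ha2⟩ := two_nonzero (fun z => f z y) (fun z => f z y') (fun x z => hf.add_left _ _ _)
    (fun x z => hf.add_left _ _ _) (fun z => z ∈ W) (fun x z hx hz => W.add_mem hx hz) ⟨w1, hw1, hw1y⟩ ⟨w2, hw2, hw2y⟩
  -- normalise
  obtain ⟨a, ha, hay', hay⟩ : ∃ a ∈ W, f a y' = 1 ∧ f a y ≠ 0 :=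
    ⟨(f a0 y')⁻¹ • a0, W.smul_mem _ ha0, by rw [hf.smul_left, inv_mul_cancel₀ ha2], by
      rw [hf.smul_left]; exact mul_ne_zero (inv_ne_zero ha2) ha1⟩
  let φ : (ι → F) →ₗ[F] (ι → F) := LinearMap.id + LinearMap.smulRight (fl hf y - fl hf y') a
  have hφ : ∀ x, φ x = x + (f x y - f x y') • a := fun x => rfl
  have hφW : ∀ x ∈ W, φ x ∈ W := fun x hx => by
    rw [hφ]; exact W.add_mem hx (W.smul_mem _ ha)
  have hφy : ∀ x, f (φ x) y' = f x y := by
    intro x
    rw [hφ, hf.add_left, hf.smul_left, hay']; ring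
  obtain ⟨g, hg, hgW, hgy⟩ := extend_one hf (W := W) (φ := φ) (w := y) (w' := y')
    (fun u hu v hv => by rw [hW _ (hφW u hu) _ (hφW v hv), hW u hu v hv])
    (fun u hu h0 => by
      have h1 : f u y = 0 := by rw [← hφy, h0, hf.zero_left]
      have h2 := h0
      rw [hφ, h1, zero_sub] at h2
      -- u = (f u y') a
      have h3 : u = f u y' • a := by
        have : u - f u y' • a = 0 := by rw [← h2]; module
        exact sub_eq_zero.1 this
      have h4 : f u y' = 0 := by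
        have h5 : f u y = f u y' * f a y := by
          conv_lhs => rw [h3]
          rw [hf.smul_left]
        rw [h1] at h5
        exact (mul_eq_zero.1 h5.symm).resolve_right hay
      rw [h3, h4, zero_smul])
    (fun h => hyW (hWP h)) (fun u hu h => hyW' (hWP (by rw [← h]; exact hφW u hu)))
    (fun u hu => hφy u) (by rw [hy, hy'])
  -- correct the determinant
  have hdn := hg.det_norm hf
  obtain ⟨x, hx0, hx⟩ := hf.h90 (b := σ (g : Matrix ι ι F).det) (by rw [hf.inv, mul_comm]; exact hdn)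
  have haa : f a a = 0 := hW a ha a ha
  obtain ⟨d, hd, hdd, hdz⟩ := exists_D hf haa hy' hay' hx0
  have hσx : σ x ≠ 0 := by rw [Ne, map_eq_zero]; exact hx0
  refine ⟨d * g, ⟨?_, ?_⟩, (σ x)⁻¹, inv_ne_zero hσx, ?_⟩
  · apply mem_stab_of
    intro w hw
    rw [Units.val_mul, ← mulVec_mulVec, hgW w hw, hdz, hW _ (hφW w hw) a ha, mul_zero, zero_smul, add_zero]
    exact W.add_mem (hφW w hw) (W.smul_mem _ ha)
  · refine (hK _).2 ⟨hd.mul hg, ?_⟩
    rw [Units.val_mul, Matrix.det_mul, hdd]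
    have h1 : x * (σ x)⁻¹ = σ (g : Matrix ι ι F).det := by
      rw [mul_inv_eq_iff_eq_mul₀ hσx]; exact hx
    rw [h1, mul_comm]; exact hdn
  · have hya : f y' a = 1 := by rw [hf.symm, hay', map_one]
    rw [Units.val_mul, ← mulVec_mulVec, hgy, hdz, hy', mul_zero, zero_smul, add_zero, hya]
    module

/-- maximality of parabolic subgroups -/
theorem par_max [Finite F] (hf : Hm σ f) (hn : 3 ≤ Fintype.card ι)
    (hn' : 4 ≤ Fintype.card ι ∨ ∃ b : F, b ≠ 0 ∧ b * σ b ≠ 1) {K : Subgroup (GL ι F)} (hK : IsK f K)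
    (W : Submodule F (ι → F)) (hW0 : W ≠ ⊥) (hW : IsTotallySingularFor f W) : IsMaximalIn K (subspaceStabilizer W ⊓ K) := by
  have hWP : W ≤ perp hf W := fun x hx y hy => hW x hx y hy
  obtain ⟨w, hw, hw0⟩ := (Submodule.ne_bot_iff _).1 hW0
  obtain ⟨k, hk0, hk⟩ := hf.kappa
  have hkk : k + σ k = 0 := by rw [hk]; ring
  -- an isotropic vector outside W^⊥
  obtain ⟨y, hy, hwy⟩ : ∃ y, f y y = 0 ∧ f w y ≠ 0 := by
    obtain ⟨z, hz⟩ := hf.nondeg w hw0
    have hww : f w w = 0 := hW w hw w hw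
    obtain ⟨a, ha⟩ := exists_iso_add hf hww (hf.swap_ne hz)
    refine ⟨_, ha, ?_⟩
    rw [hf.add_right, hf.smul_right, hww, mul_zero, add_zero]; exact hz
  have hyW : y ∉ perp hf W := fun h => hwy (hf.swap (h w hw))
  constructor
  · refine lt_of_le_of_ne inf_le_right ?_
    intro heq
    obtain ⟨g, hg⟩ := exists_R hf (Cd_of (f := f) hy hkk)
    have hgK : g ∈ K := tv_mem_K hf hK hy hkk hg
    rw [← heq] at hgK
    have h1 : (g : Matrix ι ι F) *ᵥ w ∈ W := (hgK.1 w).1 hw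
    rw [hg] at h1
    have h2 := W.sub_mem h1 hw
    rw [add_sub_cancel_left] at h2
    have h3 : y ∈ W := by
      have := W.smul_mem (k * f w y)⁻¹ h2
      rwa [smul_smul, inv_mul_cancel₀ (mul_ne_zero hk0 hwy), one_smul] at this
    exact hyW (hWP h3)
  · intro M hM hMK
    by_cases hsub : M ≤ subspaceStabilizer W
    · left
      exact le_antisymm (le_inf hsub hMK) hM
    · right
      refine le_antisymm hMK ?_
      obtain ⟨g, hg, hgn⟩ : ∃ g ∈ M, g ∉ subspaceStabilizer W := by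
        by_contra hcon
        push Not at hcon
        exact hsub hcon
      have hiso : ∀ h ∈ M, Iso f h := fun h hh => ((hK h).1 (hMK hh)).1
      have hXP : ∀ u ∈ perp hf W, f u u = 0 → XS σ f M u := by
        intro u hu huu a h ha hh
        refine hM ⟨?_, tv_mem_K hf hK huu ha hh⟩
        apply mem_stab_of
        intro v hv
        rw [hh, hf.swap (hu v hv), mul_zero, zero_smul, add_zero]; exact hv
      -- an isotropic vector of W^⊥ moved outside W^⊥
      obtain ⟨h, hh, z, hz, hzz, hz2⟩ : ∃ h ∈ M, ∃ z ∈ perp hf W, f z z = 0 ∧ (h : Matrix ι ι F) *ᵥ z ∉ perp hf W := by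
        by_contra hcon
        push Not at hcon
        apply hgn
        apply mem_stab_of
        intro x hx
        by_contra hxn
        have hxx : f x x = 0 := hW x hx x hx
        have hgx1 : (g : Matrix ι ι F) *ᵥ x ∈ perp hf W := hcon g hg x (hWP hx) hxx
        have hgx2 : f ((g : Matrix ι ι F) *ᵥ x) ((g : Matrix ι ι F) *ᵥ x) = 0 := by rw [hiso g hg, hxx]
        obtain ⟨v, hv, hv1⟩ := exists_perp hf hxn
        obtain ⟨a, ha⟩ := exists_iso_add hf hgx2 (z := v) (by rw [hv1]; exact one_ne_zero)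
        have h1 : v + a • (g : Matrix ι ι F) *ᵥ x ∈ perp hf W := (perp hf W).add_mem hv ((perp hf W).smul_mem _ hgx1)
        have h2 := hcon g⁻¹ (M.inv_mem hg) _ h1 ha
        have h3 := h2 x hx
        rw [← hiso g hg, mulVec_inv, hf.add_left, hf.smul_left, hgx2, mul_zero, add_zero, hv1] at h3
        exact one_ne_zero h3
      have hXz := XS_map hf hh (hiso h hh) (hXP z hz hzz)
      refine le_of_all_XS hf hn hn' hK ?_
      intro u hu
      by_cases huW : u ∈ perp hf W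
      · exact hXP u huW hu
      · obtain ⟨d, hd, c, hc, hdc⟩ := par_trans hf hK hW (y := (h : Matrix ι ι F) *ᵥ z) (y' := u) (by rw [hiso h hh, hzz]) hu hz2 huW
        have hdM := hM hd
        have := XS_map hf hdM (hiso d hdM) hXz
        rw [hdc] at this
        exact XS_of_smul hf hc this

end CfsgH9.Un
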