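import Mathlib
import Cfsg.Agent.H9.Un3

set_option autoImplicit false

/-! Bridge to `SU n F q`. -/

namespace CfsgH9.Un

open Matrix CfsgH9.Tv CfsgH9.SpGen CfsgH9.Witt Cfsg
open CfsgH9.MaxSymp (inv_mulVec mulVec_inv)

variable {F : Type*} [Field F] {q n : ℕ}

lemma ut_mulVec (v : Fin n → F) (c : F) (x : Fin n → F) :
    unitaryTransvection n q v c *ᵥ x = x + (c * hermForm n F q x v) • v := by
  rw [unitaryTransvection, add_mulVec, one_mulVec, smul_mulVec, vecMulVec_mulVec, op_smul_eq_smul, smul_smul]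
  congr 3
  rw [dotProduct, hermForm]
  exact Finset.sum_congr rfl fun i _ => mul_comm _ _

/-- inclusion of SU in GL -/
def suGL (n : ℕ) (F : Type*) [Field F] (q : ℕ) : SU n F q →* GL (Fin n) F :=
  SpecialLinearGroup.toGL.comp (SU n F q).subtype

lemma suGL_val (A : SU n F q) : ((suGL n F q A : GL (Fin n) F) : Matrix (Fin n) (Fin n) F) =
    ((A : Matrix.SpecialLinearGroup (Fin n) F) : Matrix (Fin n) (Fin n) F) := rfl

lemma suGL_inj : Function.Injective (suGL n F q) := by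
  intro A B h
  apply Subtype.ext
  apply Subtype.ext
  rw [← suGL_val, h, suGL_val]

lemma suGL_iso (A : SU n F q) : Iso (hermForm n F q) (suGL n F q A) := fun x y => A.2 x y

lemma suGL_det (A : SU n F q) : ((suGL n F q A : GL (Fin n) F) : Matrix (Fin n) (Fin n) F).det = 1 := A.1.2

lemma exists_su {g : GL (Fin n) F} (hg : Iso (hermForm n F q) g) (hd : (g : Matrix (Fin n) (Fin n) F).det = 1) :
    ∃ A : SU n F q, suGL n F q A = g := ⟨⟨⟨g, hd⟩, hg⟩, Units.ext rfl⟩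

lemma cond [Fintype F] (hF : Fintype.card F = q ^ 2) (hn : 3 ≤ n) (h32 : ¬ (n = 3 ∧ q = 2)) {σ : F →+* F}
    (hσ : ∀ x, σ x = x ^ q) : 4 ≤ Fintype.card (Fin n) ∨ ∃ b : F, b ≠ 0 ∧ b * σ b ≠ 1 := by
  rw [Fintype.card_fin]
  by_cases h4 : 4 ≤ n
  · exact Or.inl h4
  · right
    have h1 := HermF.one_lt_q hF
    exact exists_norm hF (by omega) hσ

theorem su_le [Fintype F] (hF : Fintype.card F = q ^ 2) (hn : 3 ≤ n) (h32 : ¬ (n = 3 ∧ q = 2)) {σ : F →+* F}
    (hσ : ∀ x, σ x = x ^ q) (hσ1 : σ ≠ RingHom.id F) (hσ2 : ∀ x, σ (σ x) = x) (A : SU n F q) :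
    suGL n F q A ∈ Tg σ (hermForm n F q) :=
  gen_SU (hm_std hF hσ hσ1 hσ2) (by rw [Fintype.card_fin]; exact hn) (cond hF hn h32 hσ) (suGL_iso A) (suGL_det A)

end CfsgH9.Un
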