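import Mathlib
import Cfsg.Agent.H9.UnMax
import Cfsg.Agent.H9.UnStd

set_option autoImplicit false

/-! Bridge to `GU ⊓ SL`. -/

namespace CfsgH9.Un

open Matrix CfsgH9.Tv CfsgH9.SpGen CfsgH9.Witt Cfsg Cfsg.Geo

variable {F : Type*} [Field F] {q n : ℕ}

lemma isK_std : IsK (hermForm n F q) (GU n F q ⊓ specialLinear (Fin n) F) := by
  intro g
  constructor
  · rintro ⟨h1, h2⟩
    refine ⟨fun x y => h1 x y, ?_⟩
    have := congrArg Units.val (MonoidHom.mem_ker.1 h2)
    simpa using this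
  · rintro ⟨h1, h2⟩
    refine ⟨fun x y => h1 x y, ?_⟩
    show g ∈ (Matrix.GeneralLinearGroup.det : GL (Fin n) F →* Fˣ).ker
    rw [MonoidHom.mem_ker]
    apply Units.ext
    simpa using h2

end CfsgH9.Un
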