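import Mathlib
import Cfsg.Agent.H9.UnK
import Cfsg.Agent.H9.HermOrd
import Cfsg.Agent.H9.Eigen

set_option autoImplicit false

/-! Orders and centres of SU and PSU. -/

namespace CfsgH9.Un

open Matrix CfsgH9.Tv CfsgH9.SpGen CfsgH9.Witt Cfsg Cfsg.Geo CfsgH9.HermF
open CfsgH9.MaxSymp (inv_mulVec mulVec_inv)

variable {F : Type*} [Field F] {q n : ℕ}

/-- norm one units -/
def mu (F : Type*) [Field F] (q : ℕ) : Subgroup Fˣ := (powMonoidHom (q + 1) : Fˣ →* Fˣ).ker

lemma mem_mu {x : Fˣ} : x ∈ mu F q ↔ x ^ (q + 1) = 1 := Iff.rfl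

lemma card_mu [Fintype F] (hF : Fintype.card F = q ^ 2) : Nat.card (mu F q) = q + 1 := by
  rw [mu, IsCyclic.card_powMonoidHom_ker, card_units' hF, Nat.gcd_eq_right (dvd_mul_right _ _)]

/-- determinant on GU -/
def detU (n : ℕ) (F : Type*) [Field F] (q : ℕ) : GU n F q →* Fˣ :=
  (Matrix.GeneralLinearGroup.det : GL (Fin n) F →* Fˣ).comp (GU n F q).subtype

lemma detU_val (g : GU n F q) : ((detU n F q g : Fˣ) : F) = ((g : GL (Fin n) F) : Matrix (Fin n) (Fin n) F).det := rfl

lemma not_perp_le_bot [Fintype F] {σ : F →+* F} (hf : Hm σ (hermForm n F q)) (hn : 1 ≤ n) :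
    ¬ perp hf (⊥ : Submodule F (Fin n → F)) ≤ ⊥ := by
  intro h
  have h1 := finrank_perp_ge hf (⊥ : Submodule F (Fin n → F))
  have h2 := Submodule.finrank_mono h
  rw [finrank_bot, Fintype.card_fin] at h1
  rw [finrank_bot] at h2
  omega

lemma range_detU [Fintype F] (hF : Fintype.card F = q ^ 2) (hn : 1 ≤ n) : (detU n F q).range = mu F q := by
  obtain ⟨σ, hσ, hσ1, hσ2⟩ := HermF.exists_sigma hF
  have hf := hm_std (n := n) hF hσ hσ1 hσ2
  ext x
  constructor
  · rintro ⟨g, rfl⟩
    have h1 := Iso.det_norm hf (g := (g : GL (Fin n) F)) (fun x y => g.2 x y)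
    rw [mem_mu]
    apply Units.ext
    rw [Units.val_pow_eq_pow_val, detU_val, Units.val_one, pow_succ', ← hσ, h1]
  · intro hx
    have hx' : (x : F) * σ (x : F) = 1 := by
      rw [hσ, ← pow_succ', ← Units.val_pow_eq_pow_val, mem_mu.1 hx, Units.val_one]
    obtain ⟨r, hr, hrd, -⟩ := exists_refl hf (W := ⊥) (not_perp_le_bot hf hn) hx'
    refine ⟨⟨r, fun x y => hr x y⟩, Units.ext ?_⟩
    exact hrd

/-- SU is the kernel of the determinant -/
lemma card_ker : Nat.card (detU n F q).ker = Nat.card (SU n F q) := by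
  refine Nat.card_congr
    { toFun := fun g => ⟨⟨((g : GU n F q) : GL (Fin n) F), ?_⟩, fun x y => (g : GU n F q).2 x y⟩
      invFun := fun A => ⟨⟨suGL n F q A, fun x y => suGL_iso A x y⟩, ?_⟩
      left_inv := ?_
      right_inv := ?_ }
  · have := congrArg Units.val (MonoidHom.mem_ker.1 g.2)
    exact this
  · rw [MonoidHom.mem_ker]
    exact Units.ext (suGL_det A)
  · intro g
    apply Subtype.ext
    apply Subtype.ext
    exact Units.ext rfl
  · intro A
    apply Subtype.ext
    apply Subtype.ext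
    rfl

theorem card_SU [Fintype F] (hF : Fintype.card F = q ^ 2) (hn : 1 ≤ n) : (q + 1) * Nat.card (SU n F q) = guOrd q n := by
  rw [← card_GU hF n, ← card_mu hF, ← range_detU hF hn, ← card_ker, mul_comm]
  have h1 := Subgroup.card_mul_index (detU n F q).ker
  rw [Subgroup.index_ker] at h1
  exact h1

/-- monomial elements of SU -/
lemma diag_mem [Fintype F] {d : Fin n → F} (hd : ∀ i, d i ^ (q + 1) = 1) : Iso (hermForm n F q) (Matrix.GeneralLinearGroup.mkOfDetNeZero (diagonal d) (by
    rw [det_diagonal, Finset.prod_ne_zero_iff]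
    intro i _ h
    have := hd i
    rw [h, zero_pow (by omega)] at this
    exact zero_ne_one this)) := by
  intro x y
  show hermForm n F q (diagonal d *ᵥ x) (diagonal d *ᵥ y) = _
  rw [hermForm, hermForm]
  refine Finset.sum_congr rfl fun i _ => ?_
  rw [mulVec_diagonal, mulVec_diagonal, mul_pow]
  have h1 := hd i
  rw [pow_succ] at h1
  linear_combination x i * y i ^ q * h1

lemma neg_one_pow' [Fintype F] (hF : Fintype.card F = q ^ 2) : (-1 : F) ^ q = -1 := by
  obtain ⟨σ, hσ, hσ1, hσ2⟩ := HermF.exists_sigma hF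
  rw [← hσ, map_neg, map_one]

lemma swap_mem [Fintype F] (hF : Fintype.card F = q ^ 2) {i j : Fin n} (hij : i ≠ j) :
    ∃ A : SU n F q, ((A : Matrix.SpecialLinearGroup (Fin n) F) : Matrix (Fin n) (Fin n) F) i j ≠ 0 := by
  let d : Fin n → F := fun k => if k = i then -1 else 1
  let M : Matrix (Fin n) (Fin n) F := diagonal d * (Equiv.swap i j).permMatrix F
  have hdet : M.det = 1 := by
    show (diagonal d * (Equiv.swap i j).permMatrix F).det = 1
    rw [Matrix.det_mul, det_diagonal, Matrix.det_permutation, Equiv.Perm.sign_swap hij, Finset.prod_ite_eq' Finset.univ i]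
    simp
  have hact : ∀ x, M *ᵥ x = fun k => d k * x (Equiv.swap i j k) := by
    intro x
    show (diagonal d * (Equiv.swap i j).permMatrix F) *ᵥ x = _
    rw [← mulVec_mulVec, permMatrix_mulVec]
    ext k
    rw [mulVec_diagonal]
    rfl
  have hd : ∀ k, d k * d k ^ q = 1 := by
    intro k
    show (if k = i then (-1 : F) else 1) * (if k = i then (-1 : F) else 1) ^ q = 1
    split_ifs
    · rw [neg_one_pow' hF]; ring
    · simp
  refine ⟨⟨⟨M, hdet⟩, ?_⟩, ?_⟩
  · intro x y
    show hermForm n F q (M *ᵥ x) (M *ᵥ y) = hermForm n F q x y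
    rw [hact, hact, hermForm, hermForm, ← Equiv.sum_comp (Equiv.swap i j) (fun k => x k * y k ^ q)]
    refine Finset.sum_congr rfl fun k _ => ?_
    rw [mul_pow]
    linear_combination x (Equiv.swap i j k) * y (Equiv.swap i j k) ^ q * hd k
  · show M i j ≠ 0
    have h1 := congrFun (hact (Pi.single j 1)) i
    rw [mulVec_single_one] at h1
    rw [Matrix.col_apply] at h1
    rw [h1]
    simp [d]

lemma two_elt [Fintype F] (hF : Fintype.card F = q ^ 2) : ∃ l : F, l ^ (q + 1) = 1 ∧ l ^ 2 ≠ 1 := by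
  have hq := one_lt_q hF
  obtain ⟨x, hx⟩ : IsCyclic Fˣ := inferInstance
  have ho : orderOf x = (q + 1) * (q - 1) := by
    rw [orderOf_eq_card_of_forall_mem_zpowers hx, card_units' hF]
  refine ⟨((x ^ (q - 1) : Fˣ) : F), ?_, ?_⟩
  · rw [← Units.val_pow_eq_pow_val, ← pow_mul, mul_comm, ← ho, pow_orderOf_eq_one, Units.val_one]
  · intro h
    rw [← Units.val_pow_eq_pow_val, ← pow_mul] at h
    have h1 : x ^ ((q - 1) * 2) = 1 := Units.ext (by rw [h, Units.val_one])
    have h2 := Nat.le_of_dvd (by omega) (orderOf_dvd_of_pow_eq_one h1)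
    rw [ho] at h2
    have h3 : (q - 1) * 3 ≤ (q + 1) * (q - 1) := by rw [mul_comm]; exact Nat.mul_le_mul_right _ (by omega)
    omega

/-- centralising SU forces a matrix to be scalar -/
lemma scalar_of_comm [Fintype F] (hF : Fintype.card F = q ^ 2) (hn : 1 ≤ n) (A : Matrix (Fin n) (Fin n) F)
    (h : ∀ B : SU n F q, A * ((B : Matrix.SpecialLinearGroup (Fin n) F) : Matrix (Fin n) (Fin n) F) =
      ((B : Matrix.SpecialLinearGroup (Fin n) F) : Matrix (Fin n) (Fin n) F) * A) : ∃ c : F, A = c • 1 := by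
  obtain ⟨l, hl, hl2⟩ := two_elt hF
  have hl0 : l ≠ 0 := by
    rintro rfl
    rw [zero_pow (by omega)] at hl
    exact zero_ne_one hl
  -- A is diagonal
  have hdiag : ∀ i j, i ≠ j → A i j = 0 := by
    intro i j hij
    let d : Fin n → F := fun k => if k = i then l else if k = j then l⁻¹ else 1
    have hd : ∀ k, d k ^ (q + 1) = 1 := by
      intro k
      show (if k = i then l else if k = j then l⁻¹ else 1) ^ (q + 1) = 1
      split_ifs
      · exact hl
      · rw [inv_pow, hl, inv_one]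
      · exact one_pow _
    have hdet : (diagonal d).det = 1 := by
      rw [det_diagonal]
      show ∏ k, (if k = i then l else if k = j then l⁻¹ else 1) = 1
      rw [Finset.prod_ite, Finset.prod_ite_eq' ]
      simp [Finset.filter_eq', hij.symm, hl0]
    have h1 := diag_mem hd
    obtain ⟨B, hB⟩ := exists_su h1 hdet
    have h2 := h B
    rw [← suGL_val, hB] at h2
    have h3 := congrFun (congrFun h2 i) j
    have h4 : (A * diagonal d) i j = (diagonal d * A) i j := h3
    rw [mul_diagonal, diagonal_mul] at h4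
    have h5 : d i = l := if_pos rfl
    have h6 : d j = l⁻¹ := by
      show (if j = i then l else if j = j then l⁻¹ else 1) = l⁻¹
      rw [if_neg hij.symm, if_pos rfl]
    rw [h5, h6] at h4
    have h7 : (l ^ 2 - 1) * A i j = 0 := by
      field_simp at h4
      linear_combination -h4
    exact (mul_eq_zero.1 h7).resolve_left (sub_ne_zero.2 hl2)
  have heq : ∀ i j, A i i = A j j := by
    intro i j
    by_cases hij : i = j
    · rw [hij]
    obtain ⟨B, hB⟩ := swap_mem (n := n) hF hij
    have h3 := congrFun (congrFun (h B) i) j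
    rw [Matrix.mul_apply, Matrix.mul_apply, Finset.sum_eq_single i, Finset.sum_eq_single j] at h3
    · rw [mul_comm] at h3
      exact mul_left_cancel₀ hB h3
    · intro k _ hk; rw [hdiag k j hk, mul_zero]
    · simp
    · intro k _ hk; rw [hdiag i k (Ne.symm hk), zero_mul]
    · simp
  refine ⟨A ⟨0, by omega⟩ ⟨0, by omega⟩, ?_⟩
  ext i j
  rw [Matrix.smul_apply, Matrix.one_apply, smul_eq_mul]
  split_ifs with h1
  · rw [h1, mul_one]; exact heq _ _
  · rw [mul_zero]; exact hdiag i j h1

lemma scalar_iso {c : F} (hc : c ^ (q + 1) = 1) (x y : Fin n → F) :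
    hermForm n F q ((c • (1 : Matrix (Fin n) (Fin n) F)) *ᵥ x) ((c • (1 : Matrix (Fin n) (Fin n) F)) *ᵥ y) = hermForm n F q x y := by
  rw [smul_mulVec, smul_mulVec, one_mulVec, one_mulVec, hermForm, hermForm]
  refine Finset.sum_congr rfl fun i _ => ?_
  rw [Pi.smul_apply, Pi.smul_apply, smul_eq_mul, smul_eq_mul, mul_pow]
  rw [pow_succ] at hc
  linear_combination x i * y i ^ q * hc

lemma norm_of_scalar [Fintype F] (hn : 1 ≤ n) {c : F} (h : ∀ x y : Fin n → F,
    hermForm n F q ((c • (1 : Matrix (Fin n) (Fin n) F)) *ᵥ x) ((c • (1 : Matrix (Fin n) (Fin n) F)) *ᵥ y) = hermForm n F q x y) (hq : 0 < q) :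
    c ^ (q + 1) = 1 := by
  have h1 := h (Pi.single ⟨0, by omega⟩ 1) (Pi.single ⟨0, by omega⟩ 1)
  rw [smul_mulVec, one_mulVec, hermForm, hermForm,
    Finset.sum_eq_single (⟨0, by omega⟩ : Fin n), Finset.sum_eq_single (⟨0, by omega⟩ : Fin n)] at h1
  · simp only [Pi.smul_apply, Pi.single_eq_same, smul_eq_mul, mul_one, one_pow] at h1
    rw [pow_succ']; exact h1
  · intro k _ hk; rw [Pi.single_eq_of_ne hk, zero_mul]
  · simp
  · intro k _ hk; rw [Pi.smul_apply, Pi.single_eq_of_ne hk, smul_zero, zero_mul]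
  · simp

theorem card_center_SU [Fintype F] (hF : Fintype.card F = q ^ 2) (hn : 1 ≤ n) :
    Nat.card (Subgroup.center (SU n F q)) = Nat.gcd n (q + 1) := by
  have hq := q_pos hF
  have h1 : Nat.card (Subgroup.center (SU n F q)) = Nat.card (powMonoidHom (Nat.gcd n (q + 1)) : Fˣ →* Fˣ).ker := by
    symm
    have hx : ∀ x : (powMonoidHom (Nat.gcd n (q + 1)) : Fˣ →* Fˣ).ker, ((x : Fˣ) : F) ^ n = 1 ∧ ((x : Fˣ) : F) ^ (q + 1) = 1 := by
      intro x
      have h2 : (x : Fˣ) ^ (Nat.gcd n (q + 1)) = 1 := x.2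
      rw [pow_gcd_eq_one] at h2
      constructor
      · rw [← Units.val_pow_eq_pow_val, h2.1, Units.val_one]
      · rw [← Units.val_pow_eq_pow_val, h2.2, Units.val_one]
    refine Nat.card_congr (Equiv.ofBijective (fun x => ⟨⟨⟨((x : Fˣ) : F) • 1, ?_⟩, ?_⟩, ?_⟩) ⟨?_, ?_⟩)
    · rw [det_smul, Matrix.det_one, mul_one, Fintype.card_fin]; exact (hx x).1
    · intro u v
      exact scalar_iso (hx x).2 u v
    · rw [Subgroup.mem_center_iff]
      intro B
      apply Subtype.ext
      apply Subtype.ext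
      show ((B : Matrix.SpecialLinearGroup (Fin n) F) : Matrix (Fin n) (Fin n) F) * (((x : Fˣ) : F) • 1) =
        (((x : Fˣ) : F) • 1) * ((B : Matrix.SpecialLinearGroup (Fin n) F) : Matrix (Fin n) (Fin n) F)
      simp
    · intro x y hxy
      have h2 := congrArg (fun A : Subgroup.center (SU n F q) => (((A : SU n F q) : Matrix.SpecialLinearGroup (Fin n) F) : Matrix (Fin n) (Fin n) F)
        ⟨0, by omega⟩ ⟨0, by omega⟩) hxy
      apply Subtype.ext
      apply Units.ext
      simpa using h2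
    · rintro ⟨A, hA⟩
      rw [Subgroup.mem_center_iff] at hA
      obtain ⟨c, hc⟩ := scalar_of_comm hF hn ((A : Matrix.SpecialLinearGroup (Fin n) F) : Matrix (Fin n) (Fin n) F) (fun B => by
        have := hA B
        have h2 := congrArg (fun A : SU n F q => ((A : Matrix.SpecialLinearGroup (Fin n) F) : Matrix (Fin n) (Fin n) F)) this
        exact h2.symm)
      have hc1 : c ^ (q + 1) = 1 := norm_of_scalar hn (fun x y => by rw [← hc]; exact A.2 x y) hq
      have hc2 : c ^ n = 1 := by
        have := A.1.2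
        rw [hc, det_smul, Matrix.det_one, mul_one, Fintype.card_fin] at this
        exact this
      have hc0 : c ≠ 0 := by
        rintro rfl
        rw [zero_pow (by omega)] at hc1
        exact zero_ne_one hc1
      refine ⟨⟨Units.mk0 c hc0, ?_⟩, ?_⟩
      · show (Units.mk0 c hc0) ^ (Nat.gcd n (q + 1)) = 1
        rw [pow_gcd_eq_one]
        exact ⟨Units.ext (by simpa using hc2), Units.ext (by simpa using hc1)⟩
      · apply Subtype.ext
        apply Subtype.ext
        apply Subtype.ext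
        exact hc.symm
  rw [h1, IsCyclic.card_powMonoidHom_ker, card_units' hF]
  apply Nat.gcd_eq_right
  exact (Nat.gcd_dvd_right n (q + 1)).trans (dvd_mul_right _ _)

end CfsgH9.Un
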