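import Cfsg.Agent.H9.SLt3
import Cfsg.Agent.S0263

set_option autoImplicit false

/-!
Sylow `p`-subgroups of `GL₂(q)` and `SL₂(q)`.
-/

namespace CfsgH9.GL2p

open Matrix Subgroup
open scoped Pointwise

abbrev GG (F : Type*) [Field F] := Matrix.GeneralLinearGroup (Fin 2) F

section gen

variable {F : Type*} [Field F]

theorem gl_mul_apply (x y : GG F) (i j : Fin 2) : (x * y).1 i j = x.1 i 0 * y.1 0 j + x.1 i 1 * y.1 1 j := by
  change (x.1 * y.1) i j = _
  rw [Matrix.mul_apply, Fin.sum_univ_two]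

theorem gl_ext {x y : GG F} (h00 : x.1 0 0 = y.1 0 0) (h01 : x.1 0 1 = y.1 0 1) (h10 : x.1 1 0 = y.1 1 0)
    (h11 : x.1 1 1 = y.1 1 1) : x = y := by
  apply Units.ext
  ext i j
  fin_cases i <;> fin_cases j <;> assumption

theorem gl_det (x : GG F) : x.1 0 0 * x.1 1 1 - x.1 0 1 * x.1 1 0 ≠ 0 := by
  have h := x.isUnit.map Matrix.detMonoidHom
  have h2 := h.ne_zero
  change x.1.det ≠ 0 at h2
  rwa [Matrix.det_fin_two] at h2

/-- the unipotent elements -/
noncomputable def un (b : F) : GG F := Matrix.GeneralLinearGroup.mkOfDetNeZero !![1, b; 0, 1] (by rw [Matrix.det_fin_two_of]; simp)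

@[simp] theorem un_00 (b : F) : (un b).1 0 0 = 1 := rfl
@[simp] theorem un_01 (b : F) : (un b).1 0 1 = b := rfl
@[simp] theorem un_10 (b : F) : (un b).1 1 0 = 0 := rfl
@[simp] theorem un_11 (b : F) : (un b).1 1 1 = 1 := rfl

theorem un_mul (a b : F) : un a * un b = un (a + b) := by
  apply gl_ext <;> rw [gl_mul_apply] <;> simp [add_comm]

theorem un_zero : un (0 : F) = 1 := by
  apply gl_ext <;> simp

theorem un_inv (a : F) : (un a)⁻¹ = un (-a) := by
  rw [inv_eq_iff_mul_eq_one, un_mul, add_neg_cancel, un_zero]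

/-- the group of upper unitriangular matrices -/
def UU (F : Type*) [Field F] : Subgroup (GG F) where
  carrier := {x | ∃ b, x = un b}
  one_mem' := ⟨0, un_zero.symm⟩
  mul_mem' := by
    rintro _ _ ⟨a, rfl⟩ ⟨b, rfl⟩
    exact ⟨a + b, un_mul a b⟩
  inv_mem' := by
    rintro _ ⟨a, rfl⟩
    exact ⟨-a, un_inv a⟩

theorem mem_UU {x : GG F} : x ∈ UU F ↔ ∃ b, x = un b := Iff.rfl

theorem card_UU [Finite F] : Nat.card (UU F) = Nat.card F := by
  refine (Nat.card_congr (Equiv.ofBijective (fun b : F => (⟨un b, b, rfl⟩ : UU F)) ⟨?_, ?_⟩)).symm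
  · intro a b h
    have := congrArg (fun z : UU F => z.1.1 0 1) h
    exact this
  · rintro ⟨_, b, rfl⟩
    exact ⟨b, rfl⟩

/-- conjugating a unipotent into a unipotent -/
theorem conj_un {g : GG F} {a b : F} (hb : b ≠ 0) (h : g * un a * g⁻¹ = un b) : g.1 1 0 = 0 := by
  have h1 : g * un a = un b * g := by rw [← h]; group
  have h2 : (g * un a).1 0 0 = (un b * g).1 0 0 := by rw [h1]
  rw [gl_mul_apply, gl_mul_apply] at h2
  simp only [un_00, un_01, un_10, mul_one, mul_zero, add_zero, one_mul] at h2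
  have h3 : b * g.1 1 0 = 0 := by linear_combination -h2
  exact (mul_eq_zero.mp h3).resolve_left hb

theorem upper_conj {g : GG F} (hg : g.1 1 0 = 0) (a : F) : g * un a * g⁻¹ = un (g.1 0 0 * a / g.1 1 1) := by
  have hd := gl_det g
  rw [hg, mul_zero, sub_zero] at hd
  have h1 : g.1 1 1 ≠ 0 := right_ne_zero_of_mul hd
  rw [mul_inv_eq_iff_eq_mul]
  apply gl_ext <;> rw [gl_mul_apply, gl_mul_apply] <;> simp [hg]
  field_simp
  ring

theorem mem_norm_UU {g : GG F} : g ∈ Subgroup.normalizer ((UU F : Subgroup (GG F)) : Set (GG F)) ↔ g.1 1 0 = 0 := by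
  constructor
  · intro h
    have h1 := (Subgroup.mem_normalizer_iff.mp h (un 1)).mp ⟨1, rfl⟩
    obtain ⟨b, hb⟩ := h1
    have hb0 : b ≠ 0 := by
      rintro rfl
      rw [un_zero, conj_eq_one_iff] at hb
      have := congrArg (fun z : GG F => z.1 0 1) hb
      simp at this
    exact conj_un hb0 hb
  · intro h
    have hinv : (g⁻¹).1 1 0 = 0 := by
      have h1 : (g * g⁻¹).1 1 0 = 0 := by rw [mul_inv_cancel]; simp
      rw [gl_mul_apply, h, zero_mul, zero_add] at h1
      have hd := gl_det g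
      rw [h, mul_zero, sub_zero] at hd
      exact (mul_eq_zero.mp h1).resolve_left (right_ne_zero_of_mul hd)
    rw [Subgroup.mem_normalizer_iff]
    intro x
    constructor
    · rintro ⟨b, rfl⟩
      exact ⟨_, upper_conj h b⟩
    · rintro ⟨b, hb⟩
      have h2 : x = g⁻¹ * un b * (g⁻¹)⁻¹ := by rw [← hb]; group
      rw [h2]
      exact ⟨_, upper_conj hinv b⟩

end gen

section fin

variable {F : Type*} [Field F] [Fintype F] (p : ℕ) [Fact p.Prime] [CharP F p]

theorem card_syl (P : Sylow p (GG F)) : Nat.card P = Fintype.card F := by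
  have h := Cfsg.Agent.S0263.result (F := F) rfl p 2 P
  simpa using h

theorem isPGroup_UU : IsPGroup p (UU F) := by
  obtain ⟨n, hn1, hn2⟩ := FiniteField.card F p
  exact IsPGroup.of_card (n := n) (by rw [card_UU, Nat.card_eq_fintype_card, hn2])

/-- the standard Sylow subgroup -/
noncomputable def sU : Sylow p (GG F) := (isPGroup_UU (F := F) p).exists_le_sylow.choose

theorem sU_coe : ((sU p : Sylow p (GG F)) : Subgroup (GG F)) = UU F := by
  have h := (isPGroup_UU (F := F) p).exists_le_sylow.choose_spec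
  symm
  apply Subgroup.eq_of_le_of_card_ge h
  have h1 : Nat.card (UU F) = Fintype.card F := by rw [card_UU, Nat.card_eq_fintype_card]
  rw [h1]
  exact (card_syl p (sU p)).le

theorem exists_conj (P : Sylow p (GG F)) : ∃ g : GG F, (P : Subgroup (GG F)) = (UU F).map (MulAut.conj g).toMonoidHom := by
  obtain ⟨g, hg⟩ := MulAction.exists_smul_eq (GG F) (sU p : Sylow p (GG F)) P
  refine ⟨g, ?_⟩
  rw [← hg, ← sU_coe p]
  rfl

theorem card_norm_UU : Nat.card (Subgroup.normalizer ((UU F : Subgroup (GG F)) : Set (GG F))) = Fintype.card F * (Fintype.card F - 1) ^ 2 := by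
  have e : ↥(Subgroup.normalizer ((UU F : Subgroup (GG F)) : Set (GG F))) ≃ F × (Fˣ × Fˣ) :=
    { toFun := fun g => (g.1.1 0 1, (Units.mk0 (g.1.1 0 0) (by
          have hd := gl_det g.1
          rw [mem_norm_UU.mp g.2, mul_zero, sub_zero] at hd
          exact left_ne_zero_of_mul hd), Units.mk0 (g.1.1 1 1) (by
          have hd := gl_det g.1
          rw [mem_norm_UU.mp g.2, mul_zero, sub_zero] at hd
          exact right_ne_zero_of_mul hd)))
      invFun := fun r => ⟨Matrix.GeneralLinearGroup.mkOfDetNeZero !![(r.2.1 : F), r.1; 0, (r.2.2 : F)] (by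
          rw [Matrix.det_fin_two_of]; simp), mem_norm_UU.mpr rfl⟩
      left_inv := fun g => by
        apply Subtype.ext
        apply gl_ext
        · rfl
        · rfl
        · exact (mem_norm_UU.mp g.2).symm
        · rfl
      right_inv := fun r => by
        obtain ⟨b, u, v⟩ := r
        refine Prod.ext rfl (Prod.ext (Units.ext rfl) (Units.ext rfl)) }
  rw [Nat.card_congr e, Nat.card_prod, Nat.card_prod, Nat.card_units, Nat.card_eq_fintype_card, pow_two]

end fin

end CfsgH9.GL2p
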