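import Cfsg.Prelude
import Cfsg.Agent.H9.GL2p

set_option autoImplicit false

/-!
Recognition of dihedral groups, binary orthogonal groups.
-/

namespace CfsgH9.Dih

open Matrix

section dih

variable {H : Type*} [Group H] {n : ℕ} [NeZero n]

/-- powers indexed by `ZMod n` -/
def cc (c : H) (i : ZMod n) : H := c ^ i.val

theorem cc_add {c : H} (hc : c ^ n = 1) (i j : ZMod n) : cc c (i + j) = cc c i * cc c j := by
  simp only [cc]
  rw [ZMod.val_add, ← pow_add]
  exact (pow_eq_pow_mod _ hc).symm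

theorem cc_zero (c : H) : cc c (0 : ZMod n) = 1 := by
  simp [cc]

theorem cc_neg {c : H} (hc : c ^ n = 1) (i : ZMod n) : cc c (-i) = (cc c i)⁻¹ := by
  rw [eq_inv_iff_mul_eq_one, ← cc_add hc, neg_add_cancel, cc_zero]

theorem cc_w {c w : H} (hc : c ^ n = 1) (hw : w * w = 1) (hwc : w * c * w = c⁻¹) (i : ZMod n) : cc c i * w = w * cc c (-i) := by
  rw [cc_neg hc]
  simp only [cc]
  have hw' : w⁻¹ = w := inv_eq_of_mul_eq_one_left hw
  have h1 : w * c ^ i.val * w = (c ^ i.val)⁻¹ := by
    nth_rewrite 2 [← hw']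
    rw [← MulAut.conj_apply, map_pow, MulAut.conj_apply, hw', hwc, inv_pow]
  rw [← h1, ← mul_assoc, ← mul_assoc, hw, one_mul]

/-- the homomorphism -/
def dhom {c w : H} (hc : c ^ n = 1) (hw : w * w = 1) (hwc : w * c * w = c⁻¹) : DihedralGroup n →* H where
  toFun := fun d => match d with
    | DihedralGroup.r i => cc c i
    | DihedralGroup.sr i => w * cc c i
  map_one' := by
    rw [← DihedralGroup.r_zero]
    exact cc_zero c
  map_mul' := by
    rintro (i | i) (j | j)
    · rw [DihedralGroup.r_mul_r]; exact cc_add hc i j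
    · rw [DihedralGroup.r_mul_sr]
      change w * cc c (j - i) = cc c i * (w * cc c j)
      rw [← mul_assoc, cc_w hc hw hwc, sub_eq_add_neg, add_comm, cc_add hc, mul_assoc]
    · rw [DihedralGroup.sr_mul_r]
      change w * cc c (i + j) = w * cc c i * cc c j
      rw [cc_add hc, mul_assoc]
    · rw [DihedralGroup.sr_mul_sr]
      change cc c (j - i) = w * cc c i * (w * cc c j)
      rw [mul_assoc, ← mul_assoc (cc c i), cc_w hc hw hwc, mul_assoc, ← mul_assoc w w, hw, one_mul, sub_eq_add_neg,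
        add_comm, cc_add hc]

theorem cc_natCast {c : H} (hc : c ^ n = 1) (k : ℕ) : cc c ((k : ℕ) : ZMod n) = c ^ k := by
  simp only [cc]
  rw [ZMod.val_natCast]
  exact (pow_eq_pow_mod _ hc).symm

theorem dihedral_of [Finite H] {c w : H} (hc : c ^ n = 1) (hw : w * w = 1)
    (hwc : w * c * w = c⁻¹) (hcard : Nat.card H = 2 * n)
    (hgen : ∀ h : H, (∃ k : ℕ, h = c ^ k) ∨ (∃ k : ℕ, h = w * c ^ k)) : Nonempty (H ≃* DihedralGroup n) := by
  have hs : Function.Surjective (dhom hc hw hwc) := by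
    intro h
    rcases hgen h with ⟨k, rfl⟩ | ⟨k, rfl⟩
    · exact ⟨DihedralGroup.r (k : ZMod n), cc_natCast hc k⟩
    · refine ⟨DihedralGroup.sr (k : ZMod n), ?_⟩
      change w * cc c _ = _
      rw [cc_natCast hc]
  have hb : Function.Bijective (dhom hc hw hwc) := by
    have : Finite (DihedralGroup n) := inferInstance
    rw [Nat.bijective_iff_surjective_and_card]
    exact ⟨hs, by rw [DihedralGroup.nat_card, hcard]⟩
  exact ⟨(MulEquiv.ofBijective _ hb).symm⟩

end dih

theorem dihedral_of_cyclic {H : Type*} [Group H] [Finite H] {n : ℕ} (C : Subgroup H) (hcyc : IsCyclic C) (hC : Nat.card C = n)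
    (hcard : Nat.card H = 2 * n) {w : H} (hw : w * w = 1) (hinv : ∀ c ∈ C, w * c * w = c⁻¹)
    (hall : ∀ h : H, h ∈ C ∨ w * h ∈ C) : Nonempty (H ≃* DihedralGroup n) := by
  have hn : 0 < n := by rw [← hC]; exact Nat.card_pos
  have : NeZero n := ⟨by omega⟩
  obtain ⟨c, hc⟩ := hcyc.exists_generator
  have hpow : ∀ x ∈ C, ∃ k : ℕ, x = (c : H) ^ k := by
    intro x hx
    obtain ⟨k, hk⟩ := (Submonoid.mem_powers_iff _ _).mp (mem_powers_iff_mem_zpowers.mpr (hc ⟨x, hx⟩))
    exact ⟨k, (congrArg Subtype.val hk).symm⟩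
  refine dihedral_of (c := (c : H)) (w := w) ?_ hw (hinv _ c.2) hcard ?_
  · have h1 : c ^ n = 1 := by rw [← hC]; exact pow_card_eq_one'
    exact congrArg Subtype.val h1
  · intro h
    rcases hall h with h1 | h1
    · left; exact hpow h h1
    · right
      obtain ⟨k, hk⟩ := hpow _ h1
      exact ⟨k, by rw [← hk, ← mul_assoc, hw, one_mul]⟩

section o2

variable {F : Type*} [Field F]

/-- transporting the isometry group along an equivalence of index types -/
noncomputable def isoReindex {ι : Type} [Fintype ι] [DecidableEq ι] (e : Fin 2 ≃ ι) (Q : (ι → F) → F) (q2 : (Fin 2 → F) → F)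
    (h : ∀ v : ι → F, Q v = q2 (v ∘ e)) : Cfsg.isometryGroup F Q ≃* Cfsg.isometryGroup F q2 where
  toFun g := ⟨Units.map (Matrix.reindexRingEquiv F e.symm).toRingHom.toMonoidHom g.1, by
    intro u _
    have h1 := g.2 (u ∘ e.symm) (u ∘ e.symm)
    change Q _ = Q _ at h1
    change q2 _ = q2 _
    rw [h, h] at h1
    have h2 : (u ∘ e.symm) ∘ e = u := by ext i; simp
    rw [h2] at h1
    rw [← h1]
    congr 1
    ext i
    simp [Matrix.mulVec, dotProduct]
    rw [← e.sum_comp, Fin.sum_univ_two]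
    simp⟩
  invFun g := ⟨Units.map (Matrix.reindexRingEquiv F e).toRingHom.toMonoidHom g.1, by
    intro u _
    have h1 := g.2 (u ∘ e) (u ∘ e)
    change q2 _ = q2 _ at h1
    change Q _ = Q _
    rw [h, h]
    rw [← h1]
    congr 1
    ext i
    simp [Matrix.mulVec, dotProduct]
    rw [← e.sum_comp, Fin.sum_univ_two]
    simp⟩
  left_inv g := by
    apply Subtype.ext
    apply Units.ext
    ext i j
    simp
  right_inv g := by
    apply Subtype.ext
    apply Units.ext
    ext i j
    simp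
  map_mul' g g' := by
    apply Subtype.ext
    exact map_mul _ g.1 g'.1

end o2

end CfsgH9.Dih
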