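import Cfsg.Agent.H7.Dickson
import Cfsg.Prelude

set_option autoImplicit false

/-!
Tori of `SL₂(q)`.
-/

namespace CfsgH9.SLt

open CfsgH7 Matrix Subgroup

section eig

variable {F : Type*} [Field F] {K : Type*} [Field K] [Algebra F K]

/-- `v` is an eigenvector of `z` with eigenvalue `lam`. -/
def Eig (z : SL2 F) (lam : K) (v : K × K) : Prop :=
  algebraMap F K (z.1 0 0) * v.1 + algebraMap F K (z.1 0 1) * v.2 = lam * v.1 ∧
  algebraMap F K (z.1 1 0) * v.1 + algebraMap F K (z.1 1 1) * v.2 = lam * v.2

theorem exists_eig (z : SL2 F) (lam : K) (hl : lam ^ 2 - algebraMap F K (tr2 z) * lam + 1 = 0) :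
    ∃ v : K × K, v ≠ 0 ∧ Eig z lam v := by
  have hd := congrArg (algebraMap F K) (sl2_det z)
  simp only [map_sub, map_mul, map_one] at hd
  simp only [tr2, map_add] at hl
  by_cases h1 : z.1 0 1 = 0
  · by_cases h2 : z.1 1 0 = 0
    · simp only [h1, h2, map_zero] at hd
      have h3 : (lam - algebraMap F K (z.1 0 0)) * (lam - algebraMap F K (z.1 1 1)) = 0 := by
        linear_combination hl + hd
      rcases mul_eq_zero.mp h3 with h | h
      · refine ⟨(1, 0), by simp, ?_, ?_⟩
        · simp only [h1, map_zero]; linear_combination -h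
        · simp [h2]
      · refine ⟨(0, 1), by simp, ?_, ?_⟩
        · simp [h1]
        · simp only [h2, map_zero]; linear_combination -h
    · refine ⟨(lam - algebraMap F K (z.1 1 1), algebraMap F K (z.1 1 0)), ?_, ?_, ?_⟩
      · intro h
        have := congrArg Prod.snd h
        exact h2 ((map_eq_zero _).mp this)
      · simp only; linear_combination -hl - hd
      · simp only; ring
  · refine ⟨(algebraMap F K (z.1 0 1), lam - algebraMap F K (z.1 0 0)), ?_, ?_, ?_⟩
    · intro h
      have := congrArg Prod.fst h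
      exact h1 ((map_eq_zero _).mp this)
    · simp only; ring
    · simp only; linear_combination -hl - hd

theorem Eig.unique {z : SL2 F} {a b : K} {v : K × K} (hv : v ≠ 0) (h1 : Eig z a v) (h2 : Eig z b v) : a = b := by
  by_contra hab
  apply hv
  have hab' : a - b ≠ 0 := sub_ne_zero.mpr hab
  obtain ⟨p1, p2⟩ := h1
  obtain ⟨q1, q2⟩ := h2
  have r1 : (a - b) * v.1 = 0 := by linear_combination q1 - p1
  have r2 : (a - b) * v.2 = 0 := by linear_combination q2 - p2
  exact Prod.ext ((mul_eq_zero.mp r1).resolve_left hab') ((mul_eq_zero.mp r2).resolve_left hab')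

theorem Eig.mul {y z : SL2 F} {a b : K} {v : K × K} (h1 : Eig y a v) (h2 : Eig z b v) : Eig (y * z) (a * b) v := by
  obtain ⟨p1, p2⟩ := h1
  obtain ⟨q1, q2⟩ := h2
  constructor
  · simp only [sl2_mul_apply, map_add, map_mul]
    linear_combination b * p1 + algebraMap F K (y.1 0 0) * q1 + algebraMap F K (y.1 0 1) * q2
  · simp only [sl2_mul_apply, map_add, map_mul]
    linear_combination b * p2 + algebraMap F K (y.1 1 0) * q1 + algebraMap F K (y.1 1 1) * q2

theorem Eig.one (v : K × K) : Eig (1 : SL2 F) (1 : K) v := by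
  constructor <;> simp

/-- the characteristic equation -/
theorem Eig.char {y : SL2 F} {a : K} {v : K × K} (hv : v ≠ 0) (h1 : Eig y a v) :
    a ^ 2 - algebraMap F K (tr2 y) * a + 1 = 0 := by
  have hd := congrArg (algebraMap F K) (sl2_det y)
  simp only [map_sub, map_mul, map_one] at hd
  simp only [tr2, map_add]
  obtain ⟨p1, p2⟩ := h1
  have r1 : (a ^ 2 - (algebraMap F K (y.1 0 0) + algebraMap F K (y.1 1 1)) * a + 1) * v.1 = 0 := by
    linear_combination (-a + algebraMap F K (y.1 1 1)) * p1 - algebraMap F K (y.1 0 1) * p2 - v.1 * hd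
  have r2 : (a ^ 2 - (algebraMap F K (y.1 0 0) + algebraMap F K (y.1 1 1)) * a + 1) * v.2 = 0 := by
    linear_combination (-a + algebraMap F K (y.1 0 0)) * p2 - algebraMap F K (y.1 1 0) * p1 - v.2 * hd
  by_contra h
  exact hv (Prod.ext ((mul_eq_zero.mp r1).resolve_left h) ((mul_eq_zero.mp r2).resolve_left h))

theorem Eig.ne_zero {y : SL2 F} {a : K} {v : K × K} (hv : v ≠ 0) (h1 : Eig y a v) : a ≠ 0 := by
  intro h
  have := h1.char hv
  rw [h] at this
  simp at this

theorem Eig.tr {y : SL2 F} {a : K} {v : K × K} (hv : v ≠ 0) (h1 : Eig y a v) :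
    algebraMap F K (tr2 y) = a + a⁻¹ := by
  have h := h1.char hv
  have h0 := h1.ne_zero hv
  field_simp
  linear_combination -h

theorem Eig.of_comm {z y : SL2 F} (hz : ¬ IsPM z) (hy : z * y = y * z) {lam : K} {v : K × K} (h : Eig z lam v) :
    ∃ l d : F, y.1 0 1 = l * z.1 0 1 ∧ y.1 1 0 = l * z.1 1 0 ∧ y.1 0 0 = l * z.1 0 0 + d ∧ y.1 1 1 = l * z.1 1 1 + d ∧
      Eig y (algebraMap F K l * lam + algebraMap F K d) v := by
  obtain ⟨l, e1, e2, e3⟩ := sl2_parallel hz hy
  refine ⟨l, y.1 0 0 - l * z.1 0 0, e1, e2, by ring, by linear_combination -e3, ?_⟩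
  obtain ⟨p1, p2⟩ := h
  constructor
  · rw [e1]; simp only [map_mul, map_sub]
    linear_combination algebraMap F K l * p1
  · have e4 : y.1 1 1 = y.1 0 0 - l * z.1 0 0 + l * z.1 1 1 := by linear_combination -e3
    rw [e2, e4]; simp only [map_mul, map_sub, map_add]
    linear_combination algebraMap F K l * p2

end eig

section chi

variable {F : Type*} [Field F] {K : Type*} [Field K] [Algebra F K] {z : SL2 F} {lam : K} {v : K × K}

/-- the eigenvalue of the elements commuting with `z` -/
noncomputable def ev (hz : ¬ IsPM z) (h : Eig z lam v) (y : ↥(cen z)) : K :=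
  algebraMap F K ((Eig.of_comm hz (mem_cen.mp y.2) h).choose) * lam +
    algebraMap F K ((Eig.of_comm hz (mem_cen.mp y.2) h).choose_spec.choose)

theorem ev_spec (hz : ¬ IsPM z) (h : Eig z lam v) (y : ↥(cen z)) : Eig (y : SL2 F) (ev hz h y) v :=
  (Eig.of_comm hz (mem_cen.mp y.2) h).choose_spec.choose_spec.2.2.2.2

/-- the character of the torus -/
noncomputable def chi (hz : ¬ IsPM z) (hv : v ≠ 0) (h : Eig z lam v) : ↥(cen z) →* K where
  toFun := ev hz h
  map_one' := (ev_spec hz h 1).unique hv (Eig.one v)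
  map_mul' a b := (ev_spec hz h (a * b)).unique hv ((ev_spec hz h a).mul (ev_spec hz h b))

theorem chi_spec (hz : ¬ IsPM z) (hv : v ≠ 0) (h : Eig z lam v) (y : ↥(cen z)) : Eig (y : SL2 F) (chi hz hv h y) v :=
  ev_spec hz h y

theorem not_isPM_of_tr {z : SL2 F} (hz : tr2 z ^ 2 ≠ 4) : ¬ IsPM z := by
  rintro ⟨h1, h3, h4⟩
  apply hz
  have hd := sl2_disc z
  rw [h1, h4] at hd
  linear_combination -hd

theorem eq_one_of_tr {z y : SL2 F} (hz : tr2 z ^ 2 ≠ 4) (hy : z * y = y * z) (ht : tr2 y = 2) : y = 1 := by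
  obtain ⟨l, e1, e2, e3⟩ := sl2_parallel (not_isPM_of_tr hz) hy
  have hdz := sl2_disc z
  have hdy := sl2_disc y
  rw [e1, e2, e3, ht] at hdy
  have h1 : l ^ 2 * (tr2 z ^ 2 - 4) = 0 := by linear_combination hdy - l ^ 2 * hdz
  have h2 : l = 0 := by
    rcases mul_eq_zero.mp h1 with h | h
    · exact pow_eq_zero_iff (two_ne_zero) |>.mp h
    · exact absurd (sub_eq_zero.mp h) hz
  rw [h2, zero_mul] at e1 e2 e3
  have hd := sl2_det y
  rw [tr2] at ht
  have e4 : y.1 0 0 = y.1 1 1 := sub_eq_zero.mp e3
  rw [e1, e4] at hd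
  rw [e4] at ht
  have h5 : (y.1 1 1 - 1) ^ 2 = 0 := by linear_combination hd - ht
  have h6 : y.1 1 1 = 1 := sub_eq_zero.mp (pow_eq_zero_iff (two_ne_zero) |>.mp h5)
  apply sl2_ext
  · rw [e4, h6]; rfl
  · rw [e1]; rfl
  · rw [e2]; rfl
  · rw [h6]; rfl

theorem chi_injective (hz : tr2 z ^ 2 ≠ 4) (hv : v ≠ 0) (h : Eig z lam v) :
    Function.Injective (chi (not_isPM_of_tr hz) hv h) := by
  rw [injective_iff_map_eq_one']
  intro a
  constructor
  · intro ha
    have h1 := chi_spec (not_isPM_of_tr hz) hv h a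
    rw [ha] at h1
    have h2 := h1.tr hv
    apply Subtype.ext
    refine eq_one_of_tr hz (mem_cen.mp a.2) ?_
    apply (algebraMap F K).injective
    rw [h2, map_ofNat]; norm_num
  · rintro rfl; exact map_one _

end chi

section fin

variable {F : Type*} [Field F] [Fintype F] {K : Type*} [Field K] [Algebra F K]

theorem mem_range_of_pow {x : K} (hx : x ^ Fintype.card F = x) : ∃ a : F, algebraMap F K a = x := by
  classical
  have hq : 1 < Fintype.card F := Fintype.one_lt_card
  let P : Polynomial K := Polynomial.X ^ Fintype.card F - Polynomial.X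
  have hP : P ≠ 0 := FiniteField.X_pow_card_sub_X_ne_zero K hq
  have h1 : (Finset.univ.image (algebraMap F K)) ⊆ P.roots.toFinset := by
    intro y hy
    obtain ⟨a, -, rfl⟩ := Finset.mem_image.mp hy
    rw [Multiset.mem_toFinset, Polynomial.mem_roots hP]
    simp only [P, Polynomial.IsRoot, Polynomial.eval_sub, Polynomial.eval_pow, Polynomial.eval_X]
    rw [← map_pow, FiniteField.pow_card, sub_self]
  have h2 : P.roots.toFinset.card ≤ (Finset.univ.image (algebraMap F K)).card := by
    rw [Finset.card_image_of_injective _ (algebraMap F K).injective, Finset.card_univ]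
    refine (Multiset.toFinset_card_le _).trans ((Polynomial.card_roots' P).trans ?_)
    exact (FiniteField.X_pow_card_sub_X_natDegree_eq K hq).le
  have h3 := Finset.eq_of_subset_of_card_le h1 h2
  have h4 : x ∈ P.roots.toFinset := by
    rw [Multiset.mem_toFinset, Polynomial.mem_roots hP]
    simp only [P, Polynomial.IsRoot, Polynomial.eval_sub, Polynomial.eval_pow, Polynomial.eval_X]
    rw [hx, sub_self]
  rw [← h3] at h4
  obtain ⟨a, -, ha⟩ := Finset.mem_image.mp h4
  exact ⟨a, ha⟩

theorem root_pow {t : F} {lam : K} (hl : lam ^ 2 - algebraMap F K t * lam + 1 = 0) :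
    (lam ^ Fintype.card F) ^ 2 - algebraMap F K t * lam ^ Fintype.card F + 1 = 0 := by
  obtain ⟨p, hp⟩ := CharP.exists F
  have hprime : Fact p.Prime := ⟨CharP.char_is_prime F p⟩
  obtain ⟨n, hn1, hn2⟩ := FiniteField.card F p
  have hcK : CharP K p := charP_of_injective_algebraMap (algebraMap F K).injective p
  have h1 : (lam ^ 2 - algebraMap F K t * lam + 1) ^ p ^ (n : ℕ) = 0 := by
    rw [hl, zero_pow (pow_ne_zero _ hprime.out.ne_zero)]
  rw [add_pow_char_pow, sub_pow_char_pow, one_pow, mul_pow, ← hn2, ← map_pow, FiniteField.pow_card] at h1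
  rw [← h1]; ring

theorem frob_add (x y : K) : (x + y) ^ Fintype.card F = x ^ Fintype.card F + y ^ Fintype.card F := by
  obtain ⟨p, hp⟩ := CharP.exists F
  have hprime : Fact p.Prime := ⟨CharP.char_is_prime F p⟩
  obtain ⟨n, hn1, hn2⟩ := FiniteField.card F p
  have hcK : CharP K p := charP_of_injective_algebraMap (algebraMap F K).injective p
  rw [hn2, add_pow_char_pow]

theorem frob_sub (x y : K) : (x - y) ^ Fintype.card F = x ^ Fintype.card F - y ^ Fintype.card F := by
  obtain ⟨p, hp⟩ := CharP.exists F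
  have hprime : Fact p.Prime := ⟨CharP.char_is_prime F p⟩
  obtain ⟨n, hn1, hn2⟩ := FiniteField.card F p
  have hcK : CharP K p := charP_of_injective_algebraMap (algebraMap F K).injective p
  rw [hn2, sub_pow_char_pow]

/-- The character of a torus: `ε = 1` (split) or `ε = -1` (nonsplit). -/
theorem exists_torus (z : SL2 F) (hz : tr2 z ^ 2 ≠ 4) :
    ∃ n : ℕ, (n = Fintype.card F - 1 ∨ n = Fintype.card F + 1) ∧ Nat.card ↥(cen z) = n ∧ IsCyclic ↥(cen z) ∧
      (n = Fintype.card F - 1 → ∃ lam : F, lam ^ 2 - tr2 z * lam + 1 = 0) ∧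
      ((∃ lam : F, lam ^ 2 - tr2 z * lam + 1 = 0) → n = Fintype.card F - 1) := by
  classical
  set q := Fintype.card F with hq
  have hq1 : 1 < q := Fintype.one_lt_card
  let K := AlgebraicClosure F
  obtain ⟨lam, hlam⟩ : ∃ lam : K, lam ^ 2 - algebraMap F K (tr2 z) * lam + 1 = 0 := by
    let P : Polynomial K := Polynomial.X ^ 2 + Polynomial.C (-(algebraMap F K (tr2 z))) * Polynomial.X + Polynomial.C 1
    have hdeg : P.degree = 2 := by
      have : P = Polynomial.C 1 * Polynomial.X ^ 2 + Polynomial.C (-(algebraMap F K (tr2 z))) * Polynomial.X + Polynomial.C 1 := by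
        simp [P]
      rw [this]
      exact Polynomial.degree_quadratic one_ne_zero
    obtain ⟨x, hx⟩ := IsAlgClosed.exists_root P (by rw [hdeg]; norm_num)
    refine ⟨x, ?_⟩
    simp only [P, Polynomial.IsRoot, Polynomial.eval_add, Polynomial.eval_mul, Polynomial.eval_pow, Polynomial.eval_X,
      Polynomial.eval_C] at hx
    rw [← hx]; ring
  obtain ⟨v, hv, he⟩ := exists_eig z lam hlam
  have hlam0 : lam ≠ 0 := he.ne_zero hv
  have hpm := not_isPM_of_tr hz
  have hinj := chi_injective hz hv he
  have hll : lam ≠ lam⁻¹ := by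
    intro h
    apply hz
    have h1 := he.tr hv
    rw [← h] at h1
    have h2 : lam * lam = 1 := by
      nth_rewrite 2 [h]; exact mul_inv_cancel₀ hlam0
    apply (algebraMap F K).injective
    rw [map_pow, h1, map_ofNat]
    linear_combination 4 * h2
  have hroot := root_pow hlam
  rw [← hq] at hroot
  have htr := he.tr hv
  have h2 : lam ^ q = lam ∨ lam ^ q = lam⁻¹ := by
    have : (lam ^ q - lam) * (lam ^ q - lam⁻¹) = 0 := by
      have h3 : lam * lam⁻¹ = 1 := mul_inv_cancel₀ hlam0
      rw [htr] at hroot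
      linear_combination hroot + h3
    rcases mul_eq_zero.mp this with h | h
    · left; exact sub_eq_zero.mp h
    · right; exact sub_eq_zero.mp h
  -- the set of values
  let n := if lam ^ q = lam then q - 1 else q + 1
  have hn0 : n ≠ 0 := by
    simp only [n]; split_ifs <;> omega
  have hnK : NeZero (n : K) := by
    constructor
    have hqK : (q : K) = 0 := by
      rw [hq, ← map_natCast (algebraMap F K), Nat.cast_card_eq_zero, map_zero]
    simp only [n]; split_ifs
    · rw [Nat.cast_sub hq1.le, hqK]; simp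
    · push_cast; rw [hqK]; simp
  have hnz : NeZero n := ⟨hn0⟩
  have hval : ∀ e : K, e ^ n = 1 → (lam ^ q = lam → e ^ q = e) ∧ (lam ^ q ≠ lam → e ^ q = e⁻¹) := by
    intro e he1
    have he0 : e ≠ 0 := by
      rintro rfl; rw [zero_pow hn0] at he1; exact zero_ne_one he1
    constructor
    · intro h
      simp only [n, if_pos h] at he1
      calc e ^ q = e ^ (q - 1) * e := by rw [← pow_succ]; congr 1; omega
        _ = e := by rw [he1, one_mul]
    · intro h
      simp only [n, if_neg h] at he1
      rw [pow_succ] at he1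
      exact eq_inv_of_mul_eq_one_left he1
  have hle : ∀ y : ↥(cen z), chi hpm hv he y ^ n = 1 := by
    intro y
    obtain ⟨l, d, e1, e2, e3, e4, h5⟩ := Eig.of_comm hpm (mem_cen.mp y.2) he
    have h6 : chi hpm hv he y = algebraMap F K l * lam + algebraMap F K d := (chi_spec hpm hv he y).unique hv h5
    have h7 : chi hpm hv he y ^ q = algebraMap F K l * lam ^ q + algebraMap F K d := by
      rw [h6, hq, frob_add, mul_pow, ← map_pow, ← map_pow, FiniteField.pow_card, FiniteField.pow_card]
    have h8 := h5.ne_zero hv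
    rw [← h6] at h8
    by_cases h : lam ^ q = lam
    · simp only [n, if_pos h]
      rw [h, ← h6] at h7
      apply mul_right_cancel₀ h8
      rw [← pow_succ, one_mul, Nat.sub_add_cancel hq1.le, h7]
    · simp only [n, if_neg h]
      have h9 := h2.resolve_left h
      rw [pow_succ, h7, h9]
      -- the other eigenvalue
      have h10 := (chi_spec hpm hv he y).char hv
      have h11 : algebraMap F K (tr2 (y : SL2 F)) = algebraMap F K l * (lam + lam⁻¹) + 2 * algebraMap F K d := by
        rw [← htr, tr2, e3, e4, tr2, map_add, map_add, map_add, map_mul, map_mul, map_add]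
        ring
      rw [h11, h6] at h10
      rw [h6]
      linear_combination -h10
  have hsurj : ∀ e : K, e ^ n = 1 → ∃ y : ↥(cen z), chi hpm hv he y = e := by
    intro e he1
    have he0 : e ≠ 0 := by
      rintro rfl; rw [zero_pow hn0] at he1; exact zero_ne_one he1
    obtain ⟨v1, v2⟩ := hval e he1
    have hs : lam - lam⁻¹ ≠ 0 := sub_ne_zero.mpr hll
    obtain ⟨l, hl⟩ : ∃ l : F, algebraMap F K l = (e - e⁻¹) / (lam - lam⁻¹) := by
      apply mem_range_of_pow
      rw [← hq, div_pow, hq, frob_sub, frob_sub, ← hq, inv_pow, inv_pow]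
      by_cases h : lam ^ q = lam
      · rw [h, v1 h]
      · rw [h2.resolve_left h, v2 h, inv_inv, inv_inv, ← neg_sub e e⁻¹, ← neg_sub lam lam⁻¹, neg_div_neg_eq]
    have hl2 : algebraMap F K l * (lam - lam⁻¹) = e - e⁻¹ := by rw [hl, div_mul_cancel₀ _ hs]
    obtain ⟨d, hd⟩ : ∃ d : F, algebraMap F K d = e - algebraMap F K l * lam := by
      apply mem_range_of_pow
      rw [frob_sub, mul_pow, ← map_pow, FiniteField.pow_card, ← hq]
      by_cases h : lam ^ q = lam
      · rw [h, v1 h]
      · rw [h2.resolve_left h, v2 h]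
        linear_combination hl2
    have hdet : (!![l * z.1 0 0 + d, l * z.1 0 1; l * z.1 1 0, l * z.1 1 1 + d] : Matrix (Fin 2) (Fin 2) F).det = 1 := by
      rw [Matrix.det_fin_two_of]
      have hd0 := sl2_det z
      have h3 : (l * z.1 0 0 + d) * (l * z.1 1 1 + d) - l * z.1 0 1 * (l * z.1 1 0) = l ^ 2 + l * d * tr2 z + d ^ 2 := by
        rw [tr2]; linear_combination l ^ 2 * hd0
      rw [h3]
      apply (algebraMap F K).injective
      simp only [map_add, map_mul, map_pow, map_one]
      rw [htr, hd]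
      have h3 : lam * lam⁻¹ = 1 := mul_inv_cancel₀ hlam0
      have h4 : e * e⁻¹ = 1 := mul_inv_cancel₀ he0
      have h5 : algebraMap F K l * lam⁻¹ + algebraMap F K d = e⁻¹ := by rw [hd]; linear_combination -hl2
      have h6 : algebraMap F K l * lam + algebraMap F K d = e := by rw [hd]; ring
      rw [hd] at h5 h6
      linear_combination (algebraMap F K l * lam⁻¹ + (e - algebraMap F K l * lam)) * h6 + e * h5 + h4 - (algebraMap F K l) ^ 2 * h3
    let y : SL2 F := ⟨_, hdet⟩
    have hyc : y ∈ cen z := by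
      rw [mem_cen, sl2_comm_iff]
      refine ⟨?_, ?_, ?_⟩ <;> simp [y] <;> ring
    refine ⟨⟨y, hyc⟩, ?_⟩
    refine (chi_spec hpm hv he ⟨y, hyc⟩).unique hv ?_
    obtain ⟨p1, p2⟩ := he
    constructor
    · simp only [y, Matrix.of_apply, Matrix.cons_val', Matrix.cons_val_zero, Matrix.cons_val_one, map_add, map_mul]
      rw [hd]
      linear_combination algebraMap F K l * p1
    · simp only [y, Matrix.of_apply, Matrix.cons_val', Matrix.cons_val_zero, Matrix.cons_val_one, map_add, map_mul]
      rw [hd]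
      linear_combination algebraMap F K l * p2
  have hcard : Nat.card ↥(cen z) = n := by
    have hE : HasEnoughRootsOfUnity K n := IsSepClosed.hasEnoughRootsOfUnity K n
    rw [← HasEnoughRootsOfUnity.natCard_rootsOfUnity K n]
    refine Nat.card_congr (Equiv.ofBijective (fun y : ↥(cen z) => (⟨Units.mk0 (chi hpm hv he y) ((chi_spec hpm hv he y).ne_zero hv), ?_⟩ : ↥(rootsOfUnity n K))) ⟨?_, ?_⟩)
    · rw [mem_rootsOfUnity]
      apply Units.ext
      simpa using hle y
    · intro a b hab
      apply hinj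
      have := congrArg (fun u : ↥(rootsOfUnity n K) => ((u : Kˣ) : K)) hab
      simpa using this
    · rintro ⟨u, hu⟩
      rw [mem_rootsOfUnity] at hu
      obtain ⟨y, hy⟩ := hsurj (u : K) (by rw [← Units.val_pow_eq_pow_val, hu, Units.val_one])
      refine ⟨y, Subtype.ext (Units.ext ?_)⟩
      simpa using hy
  refine ⟨n, ?_, hcard, isCyclic_of_injective_ringHom _ hinj, ?_, ?_⟩
  · simp only [n]; split_ifs
    · left; rfl
    · right; rfl
  · intro h
    have h3 : lam ^ q = lam := by
      by_contra h4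
      simp only [n, if_neg h4] at h
      omega
    obtain ⟨a, ha⟩ := mem_range_of_pow (F := F) (by rw [← hq]; exact h3)
    refine ⟨a, ?_⟩
    apply (algebraMap F K).injective
    simp only [map_add, map_mul, map_pow, map_one, map_sub, map_zero]
    rw [ha]; exact hlam
  · rintro ⟨a, ha⟩
    have h3 : lam ^ q = lam := by
      have h4 : (lam - algebraMap F K a) * (lam - algebraMap F K (tr2 z - a)) = 0 := by
        have := congrArg (algebraMap F K) ha
        simp only [map_add, map_mul, map_pow, map_one, map_sub, map_zero] at this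
        rw [map_sub]
        linear_combination hlam - this
      rcases mul_eq_zero.mp h4 with h | h <;>
      · rw [sub_eq_zero.mp h, ← map_pow, hq, FiniteField.pow_card]
    simp only [n, if_pos h3]

end fin

end CfsgH9.SLt
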