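import Cfsg.Agent.H9.SLt
import Cfsg.Agent.H1.PUnique
import Cfsg.Agent.H7.Dickson5

set_option autoImplicit false

/-!
Small facts on `SL₂(q)` and its 2-subgroups.
-/

namespace CfsgH9.SLt

open CfsgH7 Matrix Subgroup
open scoped Pointwise

section basics

variable {F : Type*} [Field F]

/-- explicit elements -/
def mk2 (a b c d : F) (h : a * d - b * c = 1) : SL2 F := ⟨!![a, b; c, d], by rw [Matrix.det_fin_two_of]; exact h⟩

@[simp] theorem mk2_00 (a b c d : F) (h : a * d - b * c = 1) : (mk2 a b c d h).1 0 0 = a := rfl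
@[simp] theorem mk2_01 (a b c d : F) (h : a * d - b * c = 1) : (mk2 a b c d h).1 0 1 = b := rfl
@[simp] theorem mk2_10 (a b c d : F) (h : a * d - b * c = 1) : (mk2 a b c d h).1 1 0 = c := rfl
@[simp] theorem mk2_11 (a b c d : F) (h : a * d - b * c = 1) : (mk2 a b c d h).1 1 1 = d := rfl
@[simp] theorem one_00' : (1 : SL2 F).1 0 0 = 1 := rfl
@[simp] theorem one_01' : (1 : SL2 F).1 0 1 = 0 := rfl
@[simp] theorem one_10' : (1 : SL2 F).1 1 0 = 0 := rfl
@[simp] theorem one_11' : (1 : SL2 F).1 1 1 = 1 := rfl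

/-- the matrix `-1` -/
def m1 : SL2 F := ⟨!![-1, 0; 0, -1], by rw [Matrix.det_fin_two_of]; ring⟩

theorem m1_00 : (m1 : SL2 F).1 0 0 = -1 := rfl
theorem m1_01 : (m1 : SL2 F).1 0 1 = 0 := rfl
theorem m1_10 : (m1 : SL2 F).1 1 0 = 0 := rfl
theorem m1_11 : (m1 : SL2 F).1 1 1 = -1 := rfl

theorem isPM_m1 : IsPM (m1 : SL2 F) := ⟨rfl, rfl, rfl⟩

theorem m1_mul_m1 : (m1 * m1 : SL2 F) = 1 := isPM_m1.sq

theorem m1_comm (x : SL2 F) : m1 * x = x * m1 := isPM_comm isPM_m1 x

theorem m1_mul_apply (x : SL2 F) (i j : Fin 2) : (m1 * x).1 i j = - x.1 i j := by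
  fin_cases i <;> simp [sl2_mul_apply, m1_00, m1_01, m1_10, m1_11]

theorem m1_ne_one (h2 : (2 : F) ≠ 0) : (m1 : SL2 F) ≠ 1 := by
  intro h
  have h1 := congrArg (fun z : SL2 F => z.1 0 0) h
  simp only [m1_00] at h1
  apply h2
  have h3 : (-1 : F) = 1 := h1
  linear_combination -h3

theorem sl2_ch (x : SL2 F) (i j : Fin 2) : (x * x).1 i j = tr2 x * x.1 i j - (1 : SL2 F).1 i j := by
  have hd := sl2_det x
  rw [sl2_mul_apply, tr2]
  fin_cases i <;> fin_cases j <;> simp
  · linear_combination -hd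
  · ring
  · ring
  · linear_combination -hd

theorem sq_eq_m1_iff {x : SL2 F} : x * x = m1 ↔ tr2 x = 0 := by
  constructor
  · intro h
    by_contra ht
    have h00 := sl2_ch x 0 0
    have h01 := sl2_ch x 0 1
    rw [h] at h00 h01
    simp only [m1_00, m1_01] at h00 h01
    have e0 : (1 : SL2 F).1 0 0 = 1 := rfl
    have e1 : (1 : SL2 F).1 0 1 = 0 := rfl
    rw [e0] at h00
    rw [e1] at h01
    have h1 : x.1 0 0 = 0 := by
      apply mul_left_cancel₀ ht; linear_combination -h00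
    have h2 : x.1 0 1 = 0 := by
      apply mul_left_cancel₀ ht; linear_combination -h01
    have hd := sl2_det x
    rw [h1, h2] at hd
    simp at hd
  · intro h
    apply sl2_ext <;> rw [sl2_ch, h, zero_mul, zero_sub]
    · rfl
    · rw [m1_01]; exact neg_zero
    · rw [m1_10]; exact neg_zero
    · rfl

theorem isPM_cases {x : SL2 F} (hx : IsPM x) : x = 1 ∨ x = m1 := by
  obtain ⟨h1, h2, h3⟩ := hx
  have hd := sl2_det x
  rw [h1, h3] at hd
  have h4 : (x.1 1 1 - 1) * (x.1 1 1 + 1) = 0 := by linear_combination hd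
  rcases mul_eq_zero.mp h4 with h | h
  · left
    have h5 : x.1 1 1 = 1 := by linear_combination h
    apply sl2_ext
    · rw [h3, h5]; rfl
    · rw [h1]; rfl
    · rw [h2]; rfl
    · rw [h5]; rfl
  · right
    have h5 : x.1 1 1 = -1 := by linear_combination h
    apply sl2_ext
    · rw [h3, h5]; rfl
    · rw [h1]; rfl
    · rw [h2]; rfl
    · rw [h5]; rfl

theorem inv_unique (h2 : (2 : F) ≠ 0) {x : SL2 F} (h : x * x = 1) (h1 : x ≠ 1) : x = m1 :=
  (isPM_cases (isPM_of_sq h2 h)).resolve_left h1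

theorem isPM_iff_center {x : SL2 F} : IsPM x ↔ x ∈ Subgroup.center (SL2 F) := by
  constructor
  · intro h
    rw [Subgroup.mem_center_iff]
    intro g
    exact (isPM_comm h g).symm
  · intro h
    rw [Matrix.SpecialLinearGroup.mem_center_iff] at h
    obtain ⟨r, -, hr⟩ := h
    rw [IsPM, ← hr]
    simp

end basics

section two

variable {F : Type*} [Field F] [Fintype F]

theorem two_ne_zero_of_card (h : Odd (Fintype.card F)) : (2 : F) ≠ 0 := by
  intro h2
  have h1 : addOrderOf (1 : F) ∣ Fintype.card F := addOrderOf_dvd_card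
  have h3 : addOrderOf (1 : F) ∣ 2 := addOrderOf_dvd_of_nsmul_eq_zero (by simpa using h2)
  have h4 : addOrderOf (1 : F) ≠ 1 := by
    intro h5
    exact one_ne_zero (AddMonoid.addOrderOf_eq_one_iff.mp h5)
  have h5 : addOrderOf (1 : F) = 2 := ((Nat.dvd_prime Nat.prime_two).mp h3).resolve_left h4
  rw [h5] at h1
  exact (Nat.not_even_iff_odd.mpr h) (even_iff_two_dvd.mpr h1)

/-- a quaternion pair -/
theorem exists_q8 : ∃ i j : SL2 F, i * i = m1 ∧ j * j = m1 ∧ i * j = m1 * (j * i) := by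
  obtain ⟨p, hp⟩ := CharP.exists F
  have hprime : Fact p.Prime := ⟨CharP.char_is_prime F p⟩
  have hnz : NeZero p := ⟨hprime.out.ne_zero⟩
  obtain ⟨a, b, hab⟩ := CharP.sq_add_sq F p (-1)
  have hab' : (a : F) ^ 2 + (b : F) ^ 2 = -1 := by simpa using hab
  refine ⟨mk2 0 1 (-1) 0 (by ring), mk2 (a : F) (b : F) (b : F) (-(a : F)) (by linear_combination -hab'), ?_, ?_, ?_⟩
  · rw [sq_eq_m1_iff, tr2]; simp
  · rw [sq_eq_m1_iff, tr2]; simp
  · apply sl2_ext <;> rw [m1_mul_apply, sl2_mul_apply, sl2_mul_apply] <;> simp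

end two

/-- a finite group with at most one involution and a nonabelian 2-subgroup has generalised quaternion Sylow 2-subgroups -/
theorem gq_of_noncomm {G : Type*} [Group G] [Finite G] (huniq : ∀ x y : G, x * x = 1 → x ≠ 1 → y * y = 1 → y ≠ 1 → x = y)
    {i j : G} (hi : i ^ 4 = 1) (hj : j ^ 4 = 1) (hij : i * j * i⁻¹ = j⁻¹) (hne : i * j ≠ j * i) (S : Sylow 2 G) :
    ∃ k : ℕ, 1 ≤ k ∧ Nonempty ((S : Subgroup G) ≃* QuaternionGroup (2 ^ k)) := by
  have h2 : Fact (Nat.Prime 2) := ⟨Nat.prime_two⟩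
  have hT : IsPGroup 2 ↥(zpowers i ⊔ zpowers j) := by
    apply IsPGroup.to_sup_of_normal_right'
    · rintro ⟨_, n, rfl⟩
      refine ⟨2, Subtype.ext ?_⟩
      change (i ^ n) ^ 2 ^ 2 = 1
      rw [← zpow_natCast, ← _root_.zpow_mul, mul_comm, _root_.zpow_mul, zpow_natCast]
      norm_num [hi]
    · rintro ⟨_, n, rfl⟩
      refine ⟨2, Subtype.ext ?_⟩
      change (j ^ n) ^ 2 ^ 2 = 1
      rw [← zpow_natCast, ← _root_.zpow_mul, mul_comm, _root_.zpow_mul, zpow_natCast]
      norm_num [hj]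
    · rw [zpowers_le, Subgroup.mem_normalizer_iff]
      have h1 : ∀ n : ℤ, i * j ^ n * i⁻¹ = j ^ (-n) := by
        intro n
        rw [← MulAut.conj_apply, map_zpow, MulAut.conj_apply, hij, _root_.zpow_neg, _root_.inv_zpow]
      intro x
      constructor
      · rintro ⟨n, rfl⟩
        exact ⟨-n, (h1 n).symm⟩
      · rintro ⟨n, hn⟩
        have h3 : j ^ n = i * x * i⁻¹ := hn
        refine ⟨-n, ?_⟩
        have h4 : i * j ^ (-n) * i⁻¹ = i * x * i⁻¹ := by rw [h1, neg_neg, h3]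
        simpa using h4
  obtain ⟨S', hS'⟩ := hT.exists_le_sylow
  obtain ⟨g, hg⟩ := MulAction.exists_smul_eq G S S'
  have hg' : MulAut.conj g • (S : Subgroup G) = (S' : Subgroup G) := by
    rw [← hg]; rfl
  have hne' : ∃ a b : ↥(S : Subgroup G), a * b ≠ b * a := by
    have hi' : i ∈ (S' : Subgroup G) := hS' (mem_sup_left (mem_zpowers i))
    have hj' : j ∈ (S' : Subgroup G) := hS' (mem_sup_right (mem_zpowers j))
    rw [← hg', Subgroup.mem_pointwise_smul_iff_inv_smul_mem] at hi' hj'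
    have e1 : ∀ x : G, (MulAut.conj g)⁻¹ • x = g⁻¹ * x * g := by
      intro x; rw [← map_inv, MulAut.smul_def, MulAut.conj_apply, inv_inv]
    rw [e1] at hi' hj'
    refine ⟨⟨_, hi'⟩, ⟨_, hj'⟩, ?_⟩
    intro h
    apply hne
    have h3 := congrArg Subtype.val h
    change g⁻¹ * i * g * (g⁻¹ * j * g) = g⁻¹ * j * g * (g⁻¹ * i * g) at h3
    calc i * j = g * (g⁻¹ * i * g * (g⁻¹ * j * g)) * g⁻¹ := by group
      _ = j * i := by rw [h3]; group
  have hun : ∀ H K : Subgroup ↥(S : Subgroup G), Nat.card H = 2 → Nat.card K = 2 → H = K := by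
    have key : ∀ H K : Subgroup ↥(S : Subgroup G), Nat.card H = 2 → Nat.card K = 2 → H ≤ K := by
      intro H K hH hK x hx
      by_cases hx1 : x = 1
      · rw [hx1]; exact one_mem K
      · have hKn : ∃ y : K, y ≠ 1 := by
          by_contra hcon
          push_neg at hcon
          have : Subsingleton K := ⟨fun a b => by rw [hcon a, hcon b]⟩
          rw [Nat.card_unique] at hK
          omega
        obtain ⟨y, hy⟩ := hKn
        have hx2 : (x : G) * x = 1 := by
          have h1 : (⟨x, hx⟩ : H) ^ 2 = 1 := orderOf_dvd_iff_pow_eq_one.mp ((orderOf_dvd_natCard (⟨x, hx⟩ : H)).trans hH.dvd)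
          have h2 := congrArg (fun z : H => ((z : ↥(S : Subgroup G)) : G)) h1
          simpa [pow_two] using h2
        have hy2 : ((y : ↥(S : Subgroup G)) : G) * y = 1 := by
          have h1 : y ^ 2 = 1 := orderOf_dvd_iff_pow_eq_one.mp ((orderOf_dvd_natCard y).trans hK.dvd)
          have h2 := congrArg (fun z : K => ((z : ↥(S : Subgroup G)) : G)) h1
          simpa [pow_two] using h2
        have h3 : (x : G) = ((y : ↥(S : Subgroup G)) : G) := huniq _ _ hx2 (fun h => hx1 (Subtype.ext h)) hy2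
          (fun h => hy (Subtype.ext (Subtype.ext h)))
        have h4 : x = (y : ↥(S : Subgroup G)) := Subtype.ext h3
        rw [h4]; exact y.2
    intro H K hH hK
    exact le_antisymm (key H K hH hK) (key K H hK hH)
  rcases CfsgH1.punique_classification S.isPGroup' hun with hc | ⟨-, n, ⟨e⟩⟩
  · exfalso
    obtain ⟨a, b, hab⟩ := hne'
    exact hab (IsCyclic.commGroup.mul_comm a b)
  · rcases Nat.eq_zero_or_pos n with rfl | hn
    · exfalso
      obtain ⟨a, b, hab⟩ := hne'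
      apply hab
      apply e.injective
      rw [map_mul, map_mul]
      have : ∀ x y : QuaternionGroup (2 ^ 0), x * y = y * x := by decide
      exact this _ _
    · exact ⟨n, hn, ⟨e⟩⟩

/-- version for subgroups of `SL₂` -/
theorem gq_SL2 {F : Type*} [Field F] [Finite F] (h2 : (2 : F) ≠ 0) {G : Type*} [Group G] [Finite G] (ρ : G →* SL2 F)
    (hρ : Function.Injective ρ) {i j : G} (hi : ρ i * ρ i = m1) (hj : ρ j * ρ j = m1) (hij : ρ i * ρ j = m1 * (ρ j * ρ i)) (S : Sylow 2 G) :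
    ∃ k : ℕ, 1 ≤ k ∧ Nonempty ((S : Subgroup G) ≃* QuaternionGroup (2 ^ k)) := by
  have hm : ∀ x : SL2 F, x * x = m1 → x ^ 4 = 1 := by
    intro x hx
    rw [show (4 : ℕ) = 2 * 2 from rfl, pow_mul, pow_two, pow_two, hx, m1_mul_m1]
  refine gq_of_noncomm ?_ (i := i) (j := j) ?_ ?_ ?_ ?_ S
  · intro x y hx hx1 hy hy1
    apply hρ
    have h3 : ρ x = m1 := inv_unique h2 (by rw [← map_mul, hx, map_one]) (fun h => hx1 (hρ (by rw [h, map_one])))
    have h4 : ρ y = m1 := inv_unique h2 (by rw [← map_mul, hy, map_one]) (fun h => hy1 (hρ (by rw [h, map_one])))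
    rw [h3, h4]
  · apply hρ; rw [map_pow, hm _ hi, map_one]
  · apply hρ; rw [map_pow, hm _ hj, map_one]
  · apply hρ
    rw [map_mul, map_mul, map_inv, map_inv, hij]
    rw [mul_inv_eq_iff_eq_mul]
    have : (ρ j)⁻¹ = m1 * ρ j := by
      rw [inv_eq_iff_mul_eq_one, ← mul_assoc, ← m1_comm, mul_assoc, hj, m1_mul_m1]
    rw [this, mul_assoc]
  · intro h
    have h3 : ρ i * ρ j = ρ j * ρ i := by rw [← map_mul, h, map_mul]
    rw [hij] at h3
    have h4 : (m1 : SL2 F) = 1 := by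
      have := congrArg (fun z => z * (ρ j * ρ i)⁻¹) h3
      simpa [mul_assoc] using this
    exact m1_ne_one h2 h4

end CfsgH9.SLt
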