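import Cfsg.Agent.H9.SLt2
import Cfsg.Agent.S0243

set_option autoImplicit false

/-!
Conjugacy of semisimple elements in `SL₂(q)`; counts.
-/

namespace CfsgH9.SLt

open CfsgH7 Matrix Subgroup
open scoped Pointwise

section counts

variable {F : Type*} [Field F] [Fintype F]

theorem card_SL2 : Nat.card (SL2 F) = Fintype.card F * (Fintype.card F - 1) * (Fintype.card F + 1) := by
  have h := Cfsg.Agent.S0242.result (F := F) rfl 2 (by norm_num)
  have hq : 1 < Fintype.card F := Fintype.one_lt_card
  rw [Fin.prod_univ_two] at h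
  generalize Fintype.card F = q at h hq ⊢
  simp only [Fin.val_zero, Fin.val_one, pow_zero, pow_one] at h
  obtain ⟨r, rfl⟩ : ∃ r, q = r + 2 := ⟨q - 2, by omega⟩
  have e1 : r + 2 - 1 = r + 1 := by omega
  have e2 : (r + 2) ^ 2 - 1 = (r + 1) * (r + 3) := by
    have : (r + 2) ^ 2 = (r + 1) * (r + 3) + 1 := by ring
    omega
  have e3 : (r + 2) ^ 2 - (r + 2) = (r + 2) * (r + 1) := by
    have : (r + 2) ^ 2 = (r + 2) * (r + 1) + (r + 2) := by ring
    omega
  rw [e1, e2, e3] at h
  rw [e1]
  apply Nat.eq_of_mul_eq_mul_left (show 0 < r + 1 by omega)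
  rw [h]; ring

theorem card_tr (t : F) : Nat.card {x : SL2 F // tr2 x = t} =
    Fintype.card F * (Fintype.card F - 1) + Nat.card {a : F // a ^ 2 - t * a + 1 = 0} * Fintype.card F := by
  classical
  have e : {x : SL2 F // tr2 x = t} ≃ (F × Fˣ) ⊕ ({a : F // a ^ 2 - t * a + 1 = 0} × F) :=
    { toFun := fun x => if h : x.1.1 0 1 = 0 then Sum.inr (⟨x.1.1 0 0, by
          have hd := sl2_det x.1
          have ht := x.2
          rw [tr2] at ht
          rw [h] at hd
          linear_combination x.1.1 0 0 * ht - hd⟩, x.1.1 1 0) else Sum.inl (x.1.1 0 0, Units.mk0 _ h)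
      invFun := fun s => match s with
        | Sum.inl (a, u) => ⟨mk2 a (u : F) ((a * (t - a) - 1) * ((u⁻¹ : Fˣ) : F)) (t - a) (by
            have := u.mul_inv
            linear_combination -(a * (t - a) - 1) * this), by simp [tr2]⟩
        | Sum.inr (a, c) => ⟨mk2 a.1 0 c (t - a.1) (by linear_combination -a.2), by simp [tr2]⟩
      left_inv := by
        rintro ⟨x, hx⟩
        have hd := sl2_det x
        rw [tr2] at hx
        by_cases h : x.1 0 1 = 0
        · simp only [h, dite_true]
          apply Subtype.ext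
          apply sl2_ext
          · simp
          · simp [h]
          · simp
          · simp only [mk2_11]; linear_combination -hx
        · simp only [h, dite_false]
          apply Subtype.ext
          apply sl2_ext
          · simp
          · simp
          · simp only [mk2_10, Units.val_inv_eq_inv_val, Units.val_mk0]
            field_simp
            linear_combination hd - x.1 0 0 * hx
          · simp only [mk2_11]; linear_combination -hx
      right_inv := by
        rintro (⟨a, u⟩ | ⟨⟨a, ha⟩, c⟩)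
        · simp
        · simp }
  rw [Nat.card_congr e, Nat.card_sum, Nat.card_prod, Nat.card_prod, Nat.card_units, Nat.card_eq_fintype_card]

theorem card_conj {G : Type*} [Group G] [Finite G] (z : G) : Nat.card {x : G // IsConj z x} * Nat.card ↥(cen z) = Nat.card G := by
  have h1 := Subgroup.card_mul_index (cen z)
  rw [← h1, mul_comm]
  congr 1
  rw [Subgroup.index]
  symm
  refine Nat.card_congr (Equiv.ofBijective (Quotient.lift (fun g : G => (⟨g * z * g⁻¹, isConj_iff.mpr ⟨g, rfl⟩⟩ : {x : G // IsConj z x})) ?_) ⟨?_, ?_⟩)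
  · intro a b hab
    have h2 : a⁻¹ * b ∈ cen z := QuotientGroup.leftRel_apply.mp hab
    rw [mem_cen] at h2
    apply Subtype.ext
    change a * z * a⁻¹ = b * z * b⁻¹
    calc a * z * a⁻¹ = a * (z * (a⁻¹ * b)) * b⁻¹ := by group
      _ = b * z * b⁻¹ := by rw [h2]; group
  · intro x y
    induction x using Quotient.inductionOn with | _ a
    induction y using Quotient.inductionOn with | _ b
    intro hab
    have h3 : a * z * a⁻¹ = b * z * b⁻¹ := congrArg Subtype.val hab
    apply Quotient.sound
    apply QuotientGroup.leftRel_apply.mpr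
    rw [mem_cen]
    calc z * (a⁻¹ * b) = a⁻¹ * (a * z * a⁻¹) * b := by group
      _ = a⁻¹ * b * z := by rw [h3]; group
  · rintro ⟨x, hx⟩
    obtain ⟨c, hc⟩ := isConj_iff.mp hx
    exact ⟨Quotient.mk _ c, Subtype.ext hc⟩

theorem isConj_tr {x y : SL2 F} (h : IsConj x y) : tr2 y = tr2 x := by
  obtain ⟨c, rfl⟩ := isConj_iff.mp h
  exact tr2_conj x c

open Classical in
theorem card_roots {t : F} (ht : t ^ 2 ≠ 4) : Nat.card {a : F // a ^ 2 - t * a + 1 = 0} =
    (if ∃ a : F, a ^ 2 - t * a + 1 = 0 then 2 else 0) := by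
  classical
  split_ifs with h
  · obtain ⟨a, ha⟩ := h
    have h1 : t - a ≠ a := by
      intro h1
      apply ht
      have h2 : t = 2 * a := by linear_combination h1
      rw [h2] at ha ⊢
      linear_combination -4 * ha
    have h2 : ∀ x : F, x ^ 2 - t * x + 1 = 0 ↔ x = a ∨ x = t - a := by
      intro x
      constructor
      · intro hx
        have h3 : (x - a) * (x - (t - a)) = 0 := by linear_combination hx - ha
        rcases mul_eq_zero.mp h3 with h | h
        · left; exact sub_eq_zero.mp h
        · right; exact sub_eq_zero.mp h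
      · rintro (rfl | rfl)
        · exact ha
        · linear_combination ha
    have h3 : {x : F | x ^ 2 - t * x + 1 = 0} = {a, t - a} := by
      ext x; simp [h2 x]
    change Nat.card ↥{x : F | x ^ 2 - t * x + 1 = 0} = 2
    rw [h3]
    exact Set.ncard_pair h1.symm
  · have : IsEmpty {a : F // a ^ 2 - t * a + 1 = 0} := ⟨fun a => h ⟨a.1, a.2⟩⟩
    exact Nat.card_of_isEmpty

/-- Semisimple elements with the same trace are conjugate. -/
theorem conj_of_tr {x y : SL2 F} (h : tr2 x ^ 2 ≠ 4) (hxy : tr2 y = tr2 x) : IsConj x y := by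
  classical
  have h1 := card_conj x
  have h2 := card_tr (F := F) (tr2 x)
  obtain ⟨n, hn, hc, -, ha, hb⟩ := exists_torus x h
  rw [card_roots h] at h2
  have hq : 1 < Fintype.card F := Fintype.one_lt_card
  have h3 : Nat.card {y : SL2 F // tr2 y = tr2 x} * Nat.card ↥(cen x) = Nat.card (SL2 F) := by
    rw [h2, hc, card_SL2]
    obtain ⟨r, hr⟩ : ∃ r, Fintype.card F = r + 2 := ⟨Fintype.card F - 2, by omega⟩
    by_cases he : ∃ a : F, a ^ 2 - tr2 x * a + 1 = 0
    · rw [if_pos he, hb he, hr]
      have e1 : r + 2 - 1 = r + 1 := by omega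
      rw [e1]; ring
    · have hn' : n = Fintype.card F + 1 := by
        rcases hn with hn | hn
        · exact absurd (ha hn) he
        · exact hn
      rw [if_neg he, hn', hr]
      have e1 : r + 2 - 1 = r + 1 := by omega
      rw [e1]; ring
  have h4 : Nat.card {y : SL2 F // IsConj x y} = Nat.card {y : SL2 F // tr2 y = tr2 x} := by
    apply Nat.eq_of_mul_eq_mul_right (Nat.card_pos : 0 < Nat.card ↥(cen x))
    rw [h1, h3]
  have h5 : {y : SL2 F | IsConj x y} ⊆ {y : SL2 F | tr2 y = tr2 x} := fun y hy => isConj_tr hy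
  have h6 : {y : SL2 F | IsConj x y} = {y : SL2 F | tr2 y = tr2 x} := by
    apply Set.eq_of_subset_of_ncard_le h5 _ (Set.toFinite _)
    exact h4.ge
  have h7 : y ∈ {y : SL2 F | tr2 y = tr2 x} := hxy
  rw [← h6] at h7
  exact h7

theorem card_center (h2 : (2 : F) ≠ 0) : Nat.card (Subgroup.center (SL2 F)) = 2 := by
  have h1 : ((Subgroup.center (SL2 F) : Subgroup (SL2 F)) : Set (SL2 F)) = {1, m1} := by
    ext x
    simp only [SetLike.mem_coe, ← isPM_iff_center, Set.mem_insert_iff, Set.mem_singleton_iff]
    constructor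
    · exact isPM_cases
    · rintro (rfl | rfl)
      · exact isPM_one
      · exact isPM_m1
  change Nat.card ↥((Subgroup.center (SL2 F) : Subgroup (SL2 F)) : Set (SL2 F)) = 2
  rw [h1]
  exact Set.ncard_pair (m1_ne_one h2).symm

theorem card_PSL2 (h2 : (2 : F) ≠ 0) : 2 * Nat.card (ProjectiveSpecialLinearGroup (Fin 2) F) = Nat.card (SL2 F) := by
  have h3 := Subgroup.card_mul_index (Subgroup.center (SL2 F))
  rw [card_center h2] at h3
  exact h3

end counts

end CfsgH9.SLt
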