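import Cfsg.Agent.H9.SLt3

set_option autoImplicit false

/-!
Quaternion pairs in `SL₂(q)` and Klein four-groups in `PSL₂(q)`.
-/

namespace CfsgH9.SLt

open CfsgH7 Matrix Subgroup
open scoped Pointwise

/-- Klein four-group generated by two commuting involutions -/
def kf {G : Type*} [Group G] (a b : G) (ha : a * a = 1) (hb : b * b = 1) (hab : a * b = b * a) : Subgroup G where
  carrier := {1, a, b, a * b}
  one_mem' := by simp
  mul_mem' := by
    have e1 : a * b * a = b := by rw [hab, mul_assoc, ha, mul_one]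
    have e2 : a * b * b = a := by rw [mul_assoc, hb, mul_one]
    have e3 : a * (a * b) = b := by rw [← mul_assoc, ha, one_mul]
    have e4 : b * (a * b) = a := by rw [hab, ← mul_assoc, hb, one_mul]
    have e5 : a * b * (a * b) = 1 := by rw [← mul_assoc, e1, hb]
    have e6 : b * a = a * b := hab.symm
    rintro x y (rfl | rfl | rfl | rfl) (rfl | rfl | rfl | rfl) <;>
      simp [e1, e2, e3, e4, e5, ha, hb, e6]
  inv_mem' := by
    have h1 : a⁻¹ = a := inv_eq_of_mul_eq_one_left ha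
    have h2 : b⁻¹ = b := inv_eq_of_mul_eq_one_left hb
    rintro x (rfl | rfl | rfl | rfl)
    · simp
    · simp [h1]
    · simp [h2]
    · simp [_root_.mul_inv_rev, h1, h2, hab]

theorem mem_kf {G : Type*} [Group G] {a b : G} {ha : a * a = 1} {hb : b * b = 1} {hab : a * b = b * a} {x : G} :
    x ∈ kf a b ha hb hab ↔ x = 1 ∨ x = a ∨ x = b ∨ x = a * b := by
  change x ∈ ({1, a, b, a * b} : Set G) ↔ _
  simp

theorem card_kf {G : Type*} [Group G] {a b : G} (ha : a * a = 1) (hb : b * b = 1) (hab : a * b = b * a)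
    (ha1 : a ≠ 1) (hb1 : b ≠ 1) (hne : a ≠ b) : Nat.card (kf a b ha hb hab) = 4 := by
  classical
  have h1 : a * b ≠ 1 := by
    intro h
    apply hne
    have : a * b * b = b := by rw [h, one_mul]
    rwa [mul_assoc, hb, mul_one] at this
  have h2 : a * b ≠ a := by
    intro h; exact hb1 (mul_eq_left.mp h)
  have h3 : a * b ≠ b := by
    intro h; exact ha1 (mul_eq_right.mp h)
  have h4 : ((kf a b ha hb hab : Subgroup G) : Set G) = (({1, a, b, a * b} : Finset G) : Set G) := by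
    change ({1, a, b, a * b} : Set G) = _
    simp
  change Nat.card ↥((kf a b ha hb hab : Subgroup G) : Set G) = 4
  rw [h4]
  have h5 : Nat.card ↥(({1, a, b, a * b} : Finset G) : Set G) = ({1, a, b, a * b} : Finset G).card := by
    rw [Nat.card_eq_fintype_card]; exact Fintype.card_coe _
  rw [h5, Finset.card_insert_of_notMem, Finset.card_insert_of_notMem, Finset.card_insert_of_notMem, Finset.card_singleton]
  · simp; exact ha1
  · simp; exact ⟨hne, fun h => hb1 h⟩
  · simp; exact ⟨ha1.symm, hb1.symm, fun h => h1 h.symm⟩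

theorem isKleinFour_kf {G : Type*} [Group G] {a b : G} (ha : a * a = 1) (hb : b * b = 1) (hab : a * b = b * a)
    (ha1 : a ≠ 1) (hb1 : b ≠ 1) (hne : a ≠ b) : IsKleinFour (kf a b ha hb hab) := by
  refine ⟨card_kf ha hb hab ha1 hb1 hne, ?_⟩
  have e1 : a * b * (a * b) = 1 := by
    rw [← mul_assoc, hab, mul_assoc b a a, ha, mul_one, hb]
  apply Nat.dvd_antisymm
  · apply Monoid.exponent_dvd_of_forall_pow_eq_one
    rintro ⟨x, hx⟩
    apply Subtype.ext
    change x ^ 2 = 1
    rw [pow_two]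
    rcases mem_kf.mp hx with rfl | rfl | rfl | rfl
    · simp
    · exact ha
    · exact hb
    · exact e1
  · have h1 : orderOf (⟨a, mem_kf.mpr (Or.inr (Or.inl rfl))⟩ : ↥(kf a b ha hb hab)) = 2 := by
      apply orderOf_eq_prime
      · apply Subtype.ext; change a ^ 2 = 1; rw [pow_two]; exact ha
      · intro h; exact ha1 (congrArg Subtype.val h)
    rw [← h1]
    exact Monoid.order_dvd_exponent _

/-- membership facts about a Klein four-group -/
theorem klein_sq {G : Type*} [Group G] {V : Subgroup G} (hV : IsKleinFour V) {a : G} (ha : a ∈ V) : a * a = 1 := by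
  have h1 : (⟨a, ha⟩ : V) ^ 2 = 1 := by
    rw [← hV.exponent_two]; exact Monoid.pow_exponent_eq_one _
  rw [← pow_two]
  exact congrArg Subtype.val h1

theorem klein_comm {G : Type*} [Group G] {V : Subgroup G} (hV : IsKleinFour V) {a b : G} (ha : a ∈ V) (hb : b ∈ V) : a * b = b * a := by
  have h1 := klein_sq hV ha
  have h2 := klein_sq hV hb
  have h3 := klein_sq hV (mul_mem ha hb)
  have h4 : a⁻¹ = a := inv_eq_of_mul_eq_one_left h1
  have h5 : b⁻¹ = b := inv_eq_of_mul_eq_one_left h2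
  have h6 : (a * b)⁻¹ = a * b := inv_eq_of_mul_eq_one_left h3
  rw [← h6, _root_.mul_inv_rev, h4, h5]

theorem klein_finite {G : Type*} [Group G] {V : Subgroup G} (hV : IsKleinFour V) : Finite V :=
  Nat.finite_of_card_ne_zero (by rw [hV.card_four]; norm_num)

theorem klein_eq {G : Type*} [Group G] {V : Subgroup G} (hV : IsKleinFour V) {a b : G} (ha : a ∈ V) (hb : b ∈ V)
    (ha1 : a ≠ 1) (hb1 : b ≠ 1) (hne : a ≠ b) : kf a b (klein_sq hV ha) (klein_sq hV hb) (klein_comm hV ha hb) = V := by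
  have hfin := klein_finite hV
  apply Subgroup.eq_of_le_of_card_ge
  · intro x hx
    rcases mem_kf.mp hx with rfl | rfl | rfl | rfl
    · exact one_mem V
    · exact ha
    · exact hb
    · exact mul_mem ha hb
  · rw [hV.card_four, card_kf _ _ _ ha1 hb1 hne]

/-- the pairs of distinct involutions of a Klein four-group -/
theorem card_klein_pairs {G : Type*} [Group G] {V : Subgroup G} (hV : IsKleinFour V) :
    Nat.card {p : G × G // p.1 ∈ V ∧ p.2 ∈ V ∧ p.1 ≠ 1 ∧ p.2 ≠ 1 ∧ p.1 ≠ p.2} = 6 := by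
  classical
  have hfin := klein_finite hV
  have := Fintype.ofFinite V
  have hc : Fintype.card V = 4 := by rw [← Nat.card_eq_fintype_card]; exact hV.card_four
  have e : {p : G × G // p.1 ∈ V ∧ p.2 ∈ V ∧ p.1 ≠ 1 ∧ p.2 ≠ 1 ∧ p.1 ≠ p.2} ≃
      (Σ a : {a : V // a ≠ 1}, {b : V // b ≠ 1 ∧ b ≠ a}) :=
    { toFun := fun p => ⟨⟨⟨p.1.1, p.2.1⟩, fun h => p.2.2.2.1 (congrArg Subtype.val h)⟩,
        ⟨⟨p.1.2, p.2.2.1⟩, fun h => p.2.2.2.2.1 (congrArg Subtype.val h), fun h => p.2.2.2.2.2 (congrArg Subtype.val h).symm⟩⟩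
      invFun := fun s => ⟨(s.1.1.1, s.2.1.1), s.1.1.2, s.2.1.2, fun h => s.1.2 (Subtype.ext h), fun h => s.2.2.1 (Subtype.ext h),
        fun h => s.2.2.2 (Subtype.ext h.symm)⟩
      left_inv := fun p => rfl
      right_inv := fun s => rfl }
  rw [Nat.card_congr e, Nat.card_sigma]
  have h1 : ∀ a : {a : V // a ≠ 1}, Nat.card {b : V // b ≠ 1 ∧ b ≠ a} = 2 := by
    intro a
    rw [Nat.card_eq_fintype_card, Fintype.card_subtype]
    have h2 : (Finset.univ.filter fun b : V => b ≠ 1 ∧ b ≠ a.1) = (Finset.univ.erase 1).erase a.1 := by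
      ext b; simp [and_comm]
    rw [h2, Finset.card_erase_of_mem, Finset.card_erase_of_mem (Finset.mem_univ _), Finset.card_univ, hc]
    rw [Finset.mem_erase]; exact ⟨a.2, Finset.mem_univ _⟩
  rw [Finset.sum_congr rfl fun a _ => h1 a, Finset.sum_const, Finset.card_univ]
  have h3 : Fintype.card {a : V // a ≠ 1} = 3 := by
    rw [Fintype.card_subtype]
    have h2 : (Finset.univ.filter fun b : V => b ≠ 1) = Finset.univ.erase 1 := by
      ext b; simp
    rw [h2, Finset.card_erase_of_mem (Finset.mem_univ _), Finset.card_univ, hc]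
  rw [h3]; rfl

section pairs

variable {F : Type*} [Field F]

/-- quaternion pairs -/
def QP (x y : SL2 F) : Prop := x * x = m1 ∧ y * y = m1 ∧ x * y = m1 * (y * x)

theorem m1_inv : (m1 : SL2 F)⁻¹ = m1 := inv_eq_of_mul_eq_one_left m1_mul_m1

theorem inv_of_sq {x : SL2 F} (hx : x * x = m1) : x⁻¹ = m1 * x := by
  rw [inv_eq_iff_mul_eq_one, ← mul_assoc, ← m1_comm, mul_assoc, hx, m1_mul_m1]

theorem QP.symm {x y : SL2 F} (h : QP x y) : QP y x := by
  refine ⟨h.2.1, h.1, ?_⟩
  rw [h.2.2, ← mul_assoc, m1_mul_m1, one_mul]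

theorem QP.neg_left {x y : SL2 F} (h : QP x y) : QP (m1 * x) y := by
  obtain ⟨h1, h2, h3⟩ := h
  refine ⟨?_, h2, ?_⟩
  · rw [mul_assoc, ← mul_assoc x, ← m1_comm, mul_assoc m1 x x, h1, m1_mul_m1, mul_one]
  · rw [mul_assoc, h3, ← mul_assoc y, ← m1_comm y, mul_assoc]

theorem QP.mul {x y : SL2 F} (h : QP x y) : QP y (x * y) := by
  obtain ⟨h1, h2, h3⟩ := h
  refine ⟨h2, ?_, ?_⟩
  · calc x * y * (x * y) = x * (y * x) * y := by group
      _ = x * (m1 * (x * y)) * y := by rw [h3, ← mul_assoc m1 m1, m1_mul_m1, one_mul]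
      _ = m1 * (x * x) * (y * y) := by
          rw [← mul_assoc x m1, ← m1_comm x]; group
      _ = m1 := by rw [h1, h2, m1_mul_m1, one_mul]
  · rw [h3]
    calc y * (m1 * (y * x)) = m1 * (y * y) * x := by rw [← mul_assoc y m1, ← m1_comm y]; group
      _ = m1 * (m1 * (y * x) * y) := by
          rw [h2]
          calc m1 * m1 * x = m1 * (x * m1) := by rw [mul_assoc, m1_comm x]
            _ = m1 * (x * (y * y)) := by rw [h2]
            _ = m1 * (x * y * y) := by group
            _ = _ := by rw [h3]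

theorem QP.noncomm (h2 : (2 : F) ≠ 0) {x y : SL2 F} (h : QP x y) : x * y ≠ y * x := by
  intro hc
  have h3 := h.2.2
  rw [← hc] at h3
  exact m1_ne_one h2 (mul_eq_right.mp h3.symm)

theorem QP.not_isPM (h2 : (2 : F) ≠ 0) {x y : SL2 F} (h : QP x y) : ¬ IsPM x :=
  fun hx => h.noncomm h2 (isPM_comm hx y)

theorem QP.conj_inv {x y : SL2 F} (h : QP x y) : y * x * y⁻¹ = x⁻¹ := by
  have h3 := h.symm.2.2
  rw [h3, inv_of_sq h.1]
  group

theorem qp_of_conj (h2 : (2 : F) ≠ 0) {x y : SL2 F} (hx : x * x = m1) (h : y * x * y⁻¹ = x⁻¹) : QP x y := by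
  have hyx : y * x = m1 * (x * y) := by
    rw [inv_of_sq hx] at h
    rw [← mul_assoc, ← h, inv_mul_cancel_right]
  have hxy : x * y = m1 * (y * x) := by rw [hyx, ← mul_assoc, m1_mul_m1, one_mul]
  refine ⟨hx, ?_, hxy⟩
  rw [sq_eq_m1_iff]
  by_contra ht
  apply m1_ne_one h2
  -- `y` is a combination of `y²` and `1`
  have hc2 : y * y * x = x * (y * y) := by
    calc y * y * x = y * (y * x) := mul_assoc _ _ _
      _ = y * m1 * x * y := by rw [hyx]; group
      _ = m1 * (y * x) * y := by rw [← m1_comm]; group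
      _ = x * y * y := by rw [← hxy]
      _ = _ := mul_assoc _ _ _
  have hc : y * x = x * y := by
    have e := fun i j => congrArg (fun z : SL2 F => z.1 i j) hc2
    have hch := sl2_ch y
    rw [sl2_comm_iff] at hc2 ⊢
    obtain ⟨a1, a2, a3⟩ := hc2
    rw [hch, hch] at a1 a2 a3
    simp only [one_00', one_01', one_10', one_11', hch] at a1 a2 a3
    refine ⟨?_, ?_, ?_⟩ <;> apply mul_left_cancel₀ ht
    · linear_combination a1
    · linear_combination a2
    · linear_combination a3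
  rw [hyx] at hc
  exact mul_eq_right.mp hc

theorem QP.central (h2 : (2 : F) ≠ 0) {x y g : SL2 F} (h : QP x y) (hx : x * g = g * x) (hy : y * g = g * y) : IsPM g := by
  by_contra hg
  exact h.noncomm h2 (sl2_comm_trans hg hx.symm hy.symm)

end pairs

section count

variable {F : Type*} [Field F] [Fintype F]

omit [Fintype F] in
theorem tr0_ne (h2 : (2 : F) ≠ 0) {x : SL2 F} (hx : x * x = m1) : tr2 x ^ 2 ≠ 4 := by
  rw [sq_eq_m1_iff.mp hx]
  intro h
  apply h2
  have : (2 : F) * 2 = 0 := by linear_combination -h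
  exact (mul_self_eq_zero.mp this)

theorem card_QP (h2 : (2 : F) ≠ 0) : Nat.card {p : SL2 F × SL2 F // QP p.1 p.2} = Nat.card (SL2 F) := by
  classical
  obtain ⟨i, j, hij⟩ := exists_q8 (F := F)
  have e : {p : SL2 F × SL2 F // QP p.1 p.2} ≃ (Σ x : {x : SL2 F // x * x = m1}, {y : SL2 F // QP x.1 y}) :=
    { toFun := fun p => ⟨⟨p.1.1, p.2.1⟩, ⟨p.1.2, p.2⟩⟩
      invFun := fun s => ⟨(s.1.1, s.2.1), s.2.2⟩
      left_inv := fun p => rfl
      right_inv := fun s => rfl }
  have : Fintype {x : SL2 F // x * x = m1} := Fintype.ofFinite _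
  rw [Nat.card_congr e, Nat.card_sigma]
  have h1 : ∀ x : {x : SL2 F // x * x = m1}, Nat.card {y : SL2 F // QP x.1 y} = Nat.card ↥(cen i) := by
    rintro ⟨x, hx⟩
    have hc : IsConj x x⁻¹ := conj_of_tr (tr0_ne h2 hx) (tr2_inv x)
    obtain ⟨c, hc⟩ := isConj_iff.mp hc
    have e2 : {y : SL2 F // QP x y} ≃ ↥(cen x) :=
      { toFun := fun y => ⟨c⁻¹ * y.1, by
          rw [mem_cen]
          have h3 := y.2.conj_inv
          have h4 : c * x * c⁻¹ = y.1 * x * y.1⁻¹ := by rw [hc, h3]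
          calc x * (c⁻¹ * y.1) = c⁻¹ * (c * x * c⁻¹) * y.1 := by group
            _ = c⁻¹ * y.1 * x := by rw [h4]; group⟩
        invFun := fun z => ⟨c * z.1, by
          apply qp_of_conj h2 hx
          have h3 := mem_cen.mp z.2
          calc c * z.1 * x * (c * z.1)⁻¹ = c * (z.1 * x) * z.1⁻¹ * c⁻¹ := by group
            _ = c * (x * z.1) * z.1⁻¹ * c⁻¹ := by rw [h3]
            _ = c * x * c⁻¹ := by group
            _ = _ := hc⟩
        left_inv := fun y => Subtype.ext (mul_inv_cancel_left c y.1)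
        right_inv := fun z => Subtype.ext (inv_mul_cancel_left c z.1) }
    rw [Nat.card_congr e2]
    have h5 : IsConj i x := conj_of_tr (tr0_ne h2 hij.1) (by rw [sq_eq_m1_iff.mp hij.1, sq_eq_m1_iff.mp hx])
    obtain ⟨d, rfl⟩ := isConj_iff.mp h5
    have h6 := cj_cen d i
    rw [← h6]
    exact Nat.card_congr (Subgroup.equivMapOfInjective _ _ (MulAut.conj d).injective).symm.toEquiv
  rw [Finset.sum_congr rfl fun x _ => h1 x, Finset.sum_const, Finset.card_univ, smul_eq_mul, ← Nat.card_eq_fintype_card]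
  rw [← card_conj i]
  congr 1
  refine Nat.card_congr (Equiv.subtypeEquivRight fun x => ?_)
  constructor
  · intro hx
    exact conj_of_tr (tr0_ne h2 hij.1) (by rw [sq_eq_m1_iff.mp hij.1, sq_eq_m1_iff.mp hx])
  · intro hx
    rw [sq_eq_m1_iff, isConj_tr hx, sq_eq_m1_iff.mp hij.1]

end count

section psl

variable {F : Type*} [Field F]

/-- projection to `PSL₂` -/
abbrev pr : SL2 F →* ProjectiveSpecialLinearGroup (Fin 2) F := QuotientGroup.mk' (Subgroup.center (SL2 F))

theorem pr_surjective : Function.Surjective (pr (F := F)) := QuotientGroup.mk'_surjective _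

theorem pr_eq_one {x : SL2 F} : pr x = 1 ↔ IsPM x := by
  rw [isPM_iff_center]; exact QuotientGroup.eq_one_iff x

theorem pr_eq_iff {x y : SL2 F} : pr x = pr y ↔ y = x ∨ y = m1 * x := by
  have h1 : pr x = pr y ↔ pr (y * x⁻¹) = 1 := by
    rw [map_mul, map_inv, mul_inv_eq_one]; exact eq_comm
  rw [h1, pr_eq_one]
  constructor
  · intro h
    rcases isPM_cases h with h | h
    · left; exact mul_inv_eq_one.mp h
    · right; exact mul_inv_eq_iff_eq_mul.mp h
  · rintro (rfl | rfl)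
    · rw [mul_inv_cancel]; exact isPM_one
    · rw [mul_inv_cancel_right]; exact isPM_m1

theorem sq_of_pr (h2 : (2 : F) ≠ 0) {x : SL2 F} (h : pr x * pr x = 1) (h1 : pr x ≠ 1) : x * x = m1 := by
  rw [← map_mul, pr_eq_one] at h
  rcases isPM_cases h with h | h
  · exfalso
    apply h1
    rw [pr_eq_one]
    exact isPM_of_sq h2 h
  · exact h

theorem pr_m1 : pr (m1 : SL2 F) = 1 := pr_eq_one.mpr isPM_m1

theorem QP.pr_sq {x y : SL2 F} (h : QP x y) : pr x * pr x = 1 := by
  rw [← map_mul, h.1, pr_m1]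

theorem QP.pr_comm {x y : SL2 F} (h : QP x y) : pr x * pr y = pr y * pr x := by
  rw [← map_mul, ← map_mul, h.2.2, map_mul, pr_m1, one_mul]

theorem QP.pr_ne_one (h2 : (2 : F) ≠ 0) {x y : SL2 F} (h : QP x y) : pr x ≠ 1 := by
  rw [Ne, pr_eq_one]; exact h.not_isPM h2

theorem QP.pr_ne (h2 : (2 : F) ≠ 0) {x y : SL2 F} (h : QP x y) : pr x ≠ pr y := by
  intro he
  apply h.noncomm h2
  rcases pr_eq_iff.mp he with h3 | h3
  · rw [h3]
  · rw [h3, ← mul_assoc, ← m1_comm, mul_assoc]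

/-- the Klein four-group of a quaternion pair -/
def KV {x y : SL2 F} (h : QP x y) : Subgroup (ProjectiveSpecialLinearGroup (Fin 2) F) :=
  kf (pr x) (pr y) h.pr_sq h.symm.pr_sq h.pr_comm

theorem left_mem_KV {x y : SL2 F} (h : QP x y) : pr x ∈ KV h := mem_kf.mpr (Or.inr (Or.inl rfl))

theorem right_mem_KV {x y : SL2 F} (h : QP x y) : pr y ∈ KV h := mem_kf.mpr (Or.inr (Or.inr (Or.inl rfl)))

theorem isKleinFour_KV (h2 : (2 : F) ≠ 0) {x y : SL2 F} (h : QP x y) : IsKleinFour (KV h) :=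
  isKleinFour_kf _ _ _ (h.pr_ne_one h2) (h.symm.pr_ne_one h2) (h.pr_ne h2)

theorem qp_of_klein (h2 : (2 : F) ≠ 0) {V : Subgroup (ProjectiveSpecialLinearGroup (Fin 2) F)} (hV : IsKleinFour V)
    {x y : SL2 F} (hx : pr x ∈ V) (hy : pr y ∈ V) (hx1 : pr x ≠ 1) (hy1 : pr y ≠ 1) (hne : pr x ≠ pr y) : QP x y := by
  have e1 := sq_of_pr h2 (klein_sq hV hx) hx1
  have e2 := sq_of_pr h2 (klein_sq hV hy) hy1
  refine ⟨e1, e2, ?_⟩
  have h3 := klein_comm hV hx hy
  rw [← map_mul, ← map_mul] at h3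
  rcases pr_eq_iff.mp h3.symm with h4 | h4
  · exfalso
    apply hne
    have h5 : tr2 x ^ 2 ≠ 4 := tr0_ne h2 e1
    have h6 : tr2 y = tr2 x := by rw [sq_eq_m1_iff.mp e1, sq_eq_m1_iff.mp e2]
    rcases sl2_same_trace h2 h5 h4 h6 with h | h
    · rw [h]
    · rw [pr_eq_iff]; right; rw [h, inv_of_sq e1]
  · exact h4

theorem KV_eq (h2 : (2 : F) ≠ 0) {V : Subgroup (ProjectiveSpecialLinearGroup (Fin 2) F)} (hV : IsKleinFour V)
    {x y : SL2 F} (h : QP x y) (hx : pr x ∈ V) (hy : pr y ∈ V) : KV h = V :=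
  klein_eq hV hx hy (h.pr_ne_one h2) (h.symm.pr_ne_one h2) (h.pr_ne h2)

theorem exists_QP (h2 : (2 : F) ≠ 0) {V : Subgroup (ProjectiveSpecialLinearGroup (Fin 2) F)} (hV : IsKleinFour V) :
    ∃ (x y : SL2 F) (h : QP x y), KV h = V := by
  have h6 := card_klein_pairs hV
  have : Nonempty {p : ProjectiveSpecialLinearGroup (Fin 2) F × ProjectiveSpecialLinearGroup (Fin 2) F // p.1 ∈ V ∧ p.2 ∈ V ∧ p.1 ≠ 1 ∧ p.2 ≠ 1 ∧ p.1 ≠ p.2} := by
    rw [← Nat.card_pos_iff.trans (and_iff_left (Nat.finite_of_card_ne_zero (by rw [h6]; norm_num)))]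
    rw [h6]; norm_num
  obtain ⟨⟨a, b⟩, ha, hb, ha1, hb1, hne⟩ := this
  obtain ⟨x, rfl⟩ := pr_surjective a
  obtain ⟨y, rfl⟩ := pr_surjective b
  have hq := qp_of_klein h2 hV ha hb ha1 hb1 hne
  exact ⟨x, y, hq, KV_eq h2 hV hq ha hb⟩

end psl

/-- counting by fibres of constant size -/
theorem card_of_fib {α β : Type*} [Finite α] [Finite β] (f : α → β) (c : ℕ) (h : ∀ b, Nat.card {a // f a = b} = c) :
    Nat.card α = c * Nat.card β := by
  have : Fintype β := Fintype.ofFinite β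
  rw [← Nat.card_congr (Equiv.sigmaFiberEquiv f), Nat.card_sigma, Finset.sum_congr rfl fun b _ => h b,
    Finset.sum_const, Finset.card_univ, smul_eq_mul, ← Nat.card_eq_fintype_card, mul_comm]

end CfsgH9.SLt
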