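import Mathlib

set_option autoImplicit false

namespace CfsgH9.SylTrans

section
variable {G Ω : Type*} [Group G] [Finite G] [MulAction G Ω] [Finite Ω]

/-- orbit length of a Sylow subgroup is divisible by the `p`-part of the degree -/
theorem dvd_orbit (htr : MulAction.IsPretransitive G Ω) (p k : ℕ) [Fact p.Prime] (P : Sylow p G)
    (hk : p ^ k ∣ Nat.card Ω) (ω : Ω) : p ^ k ∣ (MulAction.orbit P ω).ncard := by
  set S := MulAction.stabilizer G ω with hS
  have hidx : S.index = Nat.card Ω := MulAction.index_stabilizer_of_transitive G ω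
  have h1 := Subgroup.relIndex_mul_index (H := (P : Subgroup G) ⊓ S) (K := (P : Subgroup G)) inf_le_left
  have h2 := Subgroup.relIndex_mul_index (H := (P : Subgroup G) ⊓ S) (K := S) inf_le_right
  have h3 : p ^ k ∣ ((P : Subgroup G) ⊓ S).relIndex P * (P : Subgroup G).index := by
    rw [h1, ← h2, hidx]; exact Dvd.dvd.mul_left hk _
  have hco : Nat.Coprime (p ^ k) (P : Subgroup G).index := by
    apply Nat.Coprime.pow_left
    rw [Nat.Prime.coprime_iff_not_dvd Fact.out]
    exact P.not_dvd_index
  have h4 := hco.dvd_of_dvd_mul_right h3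
  have h5 : (MulAction.stabilizer P ω).index = ((P : Subgroup G) ⊓ S).relIndex P := by
    rw [Subgroup.relIndex]
    congr 1
    ext x
    simp [MulAction.mem_stabilizer_iff, Subgroup.mem_subgroupOf, S, Subgroup.smul_def]
  rw [← MulAction.index_stabilizer, h5]
  exact h4

theorem exists_derangement_pow (hfa : FaithfulSMul G Ω) (htr : MulAction.IsPretransitive G Ω)
    (p k : ℕ) (hp : p.Prime) (hk : 1 ≤ k) (hΩ : Nat.card Ω = p ^ k) :
    ∃ g : G, orderOf g = p ∧ ∀ ω : Ω, g • ω ≠ ω := by
  classical
  haveI := Fact.mk hp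
  obtain ⟨P⟩ : Nonempty (Sylow p G) := inferInstance
  have hne : Nonempty Ω := by
    rw [← Finite.card_pos_iff, hΩ]; exact pow_pos hp.pos _
  obtain ⟨ω₀⟩ := hne
  have htrans : ∀ ω : Ω, ∃ x : P, x • ω₀ = ω := by
    intro ω
    have h := dvd_orbit htr p k P (by rw [hΩ]) ω₀
    have hle : p ^ k ≤ (MulAction.orbit P ω₀).ncard := Nat.le_of_dvd (by
      rw [Set.ncard_pos]; exact ⟨ω₀, MulAction.mem_orbit_self _⟩) h
    have : MulAction.orbit P ω₀ = Set.univ := by
      apply Set.eq_of_subset_of_ncard_le (Set.subset_univ _)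
      rw [Set.ncard_univ, hΩ]; exact hle
    have h2 : ω ∈ MulAction.orbit P ω₀ := by rw [this]; trivial
    exact h2
  have hPne : Nontrivial P := by
    by_contra hn
    rw [not_nontrivial_iff_subsingleton] at hn
    have : Subsingleton Ω := by
      constructor
      intro a b
      obtain ⟨x, rfl⟩ := htrans a
      obtain ⟨y, rfl⟩ := htrans b
      rw [Subsingleton.elim x y]
    have h1 : Nat.card Ω ≤ 1 := Finite.card_le_one_iff_subsingleton.2 this
    rw [hΩ] at h1
    have : 1 < p ^ k := Nat.one_lt_pow (by omega) hp.one_lt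
    omega
  have hZ := P.isPGroup'.center_nontrivial
  obtain ⟨z, hz⟩ : ∃ z : Subgroup.center P, orderOf z = p := by
    apply exists_prime_orderOf_dvd_card' p
    obtain ⟨n, hn⟩ := IsPGroup.iff_card.1 (P.isPGroup'.to_subgroup (Subgroup.center P))
    rw [hn]
    have hn0 : n ≠ 0 := by
      rintro rfl
      rw [pow_zero] at hn
      have := Finite.one_lt_card_iff_nontrivial.2 hZ
      omega
    exact dvd_pow_self p hn0
  refine ⟨((z : P) : G), ?_, ?_⟩
  · rw [Subgroup.orderOf_coe, Subgroup.orderOf_coe, hz]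
  · intro ω hω
    have h1 : ∀ ω' : Ω, ((z : P) : G) • ω' = ω' := by
      intro ω'
      obtain ⟨x, hx⟩ := htrans ω
      obtain ⟨y, hy⟩ := htrans ω'
      have hxy : (y * x⁻¹ : P) • ω = ω' := by rw [← hx, ← hy, mul_smul, inv_smul_smul]
      rw [← hxy]
      have hc : (z : P) * (y * x⁻¹) = (y * x⁻¹) * z := (Subgroup.mem_center_iff.1 z.2 _).symm
      change (z : P) • (y * x⁻¹) • ω = _
      rw [← mul_smul, hc, mul_smul]
      congr 1
    have h2 : ((z : P) : G) = 1 := hfa.eq_of_smul_eq_smul (fun ω' => by rw [h1, one_smul])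
    have h3 : orderOf z = 1 := by
      rw [orderOf_eq_one_iff]
      exact Subtype.ext (Subtype.ext h2)
    rw [hz] at h3
    exact hp.one_lt.ne' h3

theorem exists_derangement_small (hfa : FaithfulSMul G Ω) (htr : MulAction.IsPretransitive G Ω)
    (p m : ℕ) (hp : p.Prime) (hm : 1 ≤ m) (hmp : m ≤ p) (hΩ : Nat.card Ω = m * p) :
    ∃ g : G, orderOf g = p ∧ ∀ ω : Ω, g • ω ≠ ω := by
  classical
  rcases hmp.eq_or_lt with rfl | hlt
  · exact exists_derangement_pow hfa htr m 2 hp (by norm_num) (by rw [hΩ, sq])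
  haveI := Fact.mk hp
  obtain ⟨P⟩ : Nonempty (Sylow p G) := inferInstance
  cases nonempty_fintype Ω
  cases nonempty_fintype P
  -- all orbits have length p
  have horb : ∀ ω : Ω, (MulAction.stabilizer P ω).index = p := by
    intro ω
    have h := dvd_orbit htr p 1 P (by rw [hΩ, pow_one]; exact dvd_mul_left _ _) ω
    rw [pow_one, ← MulAction.index_stabilizer] at h
    obtain ⟨n, hn⟩ := P.isPGroup'.index (MulAction.stabilizer P ω)
    have h2 : (MulAction.stabilizer P ω).index ≤ m * p := by
      rw [MulAction.index_stabilizer, ← hΩ, ← Set.ncard_univ]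
      exact Set.ncard_le_ncard (Set.subset_univ _)
    have h3 : p ^ n < p ^ 2 := by
      rw [← hn, sq]; exact lt_of_le_of_lt h2 (Nat.mul_lt_mul_of_pos_right hlt hp.pos)
    have h4 : n < 2 := (Nat.pow_lt_pow_iff_right hp.one_lt).1 h3
    have h5 : n ≠ 0 := by
      rintro rfl
      rw [hn, pow_zero] at h
      exact hp.one_lt.ne' (Nat.dvd_one.1 h)
    have h6 : n = 1 := by omega
    rw [hn, h6, pow_one]
  have hnorm : ∀ ω : Ω, (MulAction.stabilizer P ω).Normal := by
    intro ω
    apply Subgroup.normal_of_index_eq_minFac_card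
    rw [horb ω]
    obtain ⟨n, hn⟩ := IsPGroup.iff_card.1 P.isPGroup'
    have hn0 : n ≠ 0 := by
      rintro rfl
      have h1 := (MulAction.stabilizer P ω).index_dvd_card
      rw [horb ω, hn, pow_zero] at h1
      exact hp.one_lt.ne' (Nat.dvd_one.1 h1)
    rw [hn, Nat.Prime.pow_minFac hp hn0]
  -- every element fixing a point fixes at least p points
  by_contra hcon
  push Not at hcon
  have hfix : ∀ x : P, ∃ ω : Ω, x • ω = ω := by
    intro x
    by_contra hx
    push Not at hx
    apply absurd (hcon (x : G) ?_)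
    · push Not
      exact fun ω => hx ω
    · have hxp : x ^ p = 1 := by
        have h1 : ∀ ω : Ω, x ^ p ∈ MulAction.stabilizer P ω := by
          intro ω
          haveI := hnorm ω
          have := Subgroup.pow_index_mem (MulAction.stabilizer P ω) x
          rwa [horb ω] at this
        apply Subtype.ext
        refine hfa.eq_of_smul_eq_smul (fun ω => ?_)
        have h2 : x ^ p • ω = ω := h1 ω
        rw [Subgroup.coe_one, one_smul]
        exact h2
      have hx1 : x ≠ 1 := by
        rintro rfl
        have hne : Nonempty Ω := by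
          rw [← Finite.card_pos_iff, hΩ]; exact Nat.mul_pos (by omega) hp.pos
        obtain ⟨ω⟩ := hne
        exact hx ω (one_smul _ _)
      rw [Subgroup.orderOf_coe]
      exact orderOf_eq_prime hxp hx1
  have hfixp : ∀ x : P, p ≤ Fintype.card (MulAction.fixedBy Ω x) := by
    intro x
    obtain ⟨ω, hω⟩ := hfix x
    have h1 : (MulAction.orbit P ω).ncard = p := by rw [← MulAction.index_stabilizer, horb]
    have h2 : MulAction.orbit P ω ⊆ MulAction.fixedBy Ω x := by
      rintro _ ⟨y, rfl⟩
      haveI := hnorm ω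
      have h3 : x ∈ MulAction.stabilizer P ω := hω
      have h4 : y⁻¹ * x * y⁻¹⁻¹ ∈ MulAction.stabilizer P ω := (hnorm ω).conj_mem x h3 y⁻¹
      rw [inv_inv, MulAction.mem_stabilizer_iff, mul_smul, mul_smul, inv_smul_eq_iff] at h4
      exact h4
    have h5 := Set.ncard_le_ncard h2 (Set.toFinite _)
    rw [h1] at h5
    rw [← Nat.card_eq_fintype_card]
    exact h5
  have hburn : ∑ x : P, Fintype.card (MulAction.fixedBy Ω x) = m * Fintype.card P := by
    have h0 : ∀ x : P, Fintype.card (MulAction.fixedBy Ω x) = ∑ ω : Ω, if x • ω = ω then 1 else 0 := by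
      intro x
      rw [Finset.sum_boole, Fintype.card_subtype]
      simp [MulAction.mem_fixedBy]
    have h1 : ∀ ω : Ω, (∑ x : P, if x • ω = ω then 1 else 0) = Nat.card (MulAction.stabilizer P ω) := by
      intro ω
      rw [Finset.sum_boole, Nat.card_eq_fintype_card, Fintype.card_subtype]
      simp [MulAction.mem_stabilizer_iff]
    simp_rw [h0]
    rw [Finset.sum_comm]
    simp_rw [h1]
    have h2 : ∀ ω : Ω, Nat.card (MulAction.stabilizer P ω) * p = Nat.card P := by
      intro ω
      have h3 := Subgroup.card_mul_index (MulAction.stabilizer P ω)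
      rw [horb ω] at h3
      exact h3
    apply Nat.eq_of_mul_eq_mul_right hp.pos
    rw [Finset.sum_mul]
    simp_rw [h2]
    rw [Finset.sum_const, Finset.card_univ, ← Nat.card_eq_fintype_card, hΩ, smul_eq_mul,
      ← Nat.card_eq_fintype_card]
    ring
  have h7 : ∑ x : P, Fintype.card (MulAction.fixedBy Ω x) ≥ Fintype.card P * p := by
    calc _ ≥ ∑ x : P, p := Finset.sum_le_sum (fun x _ => hfixp x)
      _ = _ := by rw [Finset.sum_const, Finset.card_univ, smul_eq_mul]
  rw [hburn] at h7
  have hpos : 0 < Fintype.card P := Fintype.card_pos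
  have h8 : m * Fintype.card P < Fintype.card P * p := by
    rw [mul_comm m]; exact Nat.mul_lt_mul_of_pos_left hlt hpos
  omega

end

end CfsgH9.SylTrans
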